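import Mathlib
import Cfsg.Prelude.Def_OddOrderLocal
import Cfsg.Agent.Lib.HJType.Basics
import Cfsg.Agent.Lib.U35MinIndex.Abstract

/-!
# Local structure of groups whose element orders are at most five

The Sylow subgroups for the primes 3 and 5 are trivial intersection subgroups with very small
Frobenius complements in their normalizers.
-/

set_option autoImplicit false

namespace CfsgLib.SixSpectrum

open Subgroup

variable {G : Type*} [Group G] [Finite G]

/-- Every element has order at most five. -/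
def Small (G : Type*) [Group G] : Prop := ∀ g : G, orderOf g ≤ 5

theorem Small.subgroup (h : Small G) (H : Subgroup G) : Small H := fun g => by
  rw [← Subgroup.orderOf_coe]; exact h g

omit [Finite G] in
theorem Small.quotient [Finite G] (h : Small G) (N : Subgroup G) [N.Normal] : Small (G ⧸ N) := fun q => by
  obtain ⟨g, rfl⟩ := QuotientGroup.mk_surjective q
  exact (Nat.le_of_dvd (orderOf_pos g) (orderOf_map_dvd (QuotientGroup.mk' N) g)).trans (h g)

theorem Small.prime_le (h : Small G) {r : ℕ} (hr : r.Prime) (hd : r ∣ Nat.card G) :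
    r = 2 ∨ r = 3 ∨ r = 5 := by
  haveI := Fact.mk hr
  obtain ⟨x, hx⟩ := exists_prime_orderOf_dvd_card' r hd
  have := h x
  rw [hx] at this
  interval_cases r <;> first | omega | (norm_num at hr)

theorem Small.eq_one_of_commute (h : Small G) {r s : ℕ} (hr : r.Prime) (hs : s.Prime) (hrs : r ≠ s)
    {x y : G} (hx : orderOf x = r) (hy : orderOf y = s) (hc : Commute x y) : False := by
  have h1 := hc.orderOf_mul_eq_mul_orderOf_of_coprime (by rw [hx, hy]; exact (Nat.coprime_primes hr hs).mpr hrs)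
  have h2 := h (x * y)
  rw [h1, hx, hy] at h2
  have := hr.two_le
  have := hs.two_le
  have hr5 : r ≤ 2 := by nlinarith
  have hs5 : s ≤ 2 := by nlinarith
  omega

/-- The centralizer of a nontrivial element of prime power order is a `p`-group. -/
theorem Small.isPGroup_centralizer (h : Small G) {p : ℕ} [Fact p.Prime] {x : G} {k : ℕ}
    (hx : x ^ p ^ k = 1) (hx1 : x ≠ 1) : IsPGroup p (centralizer ({x} : Set G)) := by
  have hp : p.Prime := Fact.out
  obtain ⟨j, -, hj⟩ := (Nat.dvd_prime_pow hp).mp (orderOf_dvd_of_pow_eq_one hx)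
  have hj0 : j ≠ 0 := fun e => hx1 (orderOf_eq_one_iff.mp (by rw [hj, e, pow_zero]))
  have hy : orderOf (x ^ p ^ (j - 1)) = p := by
    rw [orderOf_pow_of_dvd (pow_ne_zero _ hp.ne_zero) (hj ▸ pow_dvd_pow p (Nat.sub_le j 1)), hj,
      Nat.pow_div (Nat.sub_le j 1) hp.pos, show j - (j - 1) = 1 by omega, pow_one]
  refine IsPGroup.of_card (n := (Nat.card (centralizer ({x} : Set G))).primeFactorsList.length) ?_
  refine Nat.eq_prime_pow_of_unique_prime_dvd Nat.card_pos.ne' ?_
  · intro r hr hd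
    haveI := Fact.mk hr
    obtain ⟨z, hz⟩ := exists_prime_orderOf_dvd_card' r hd
    by_contra hne
    refine h.eq_one_of_commute hr hp hne (x := (z : G)) (y := x ^ p ^ (j - 1)) ?_ hy ?_
    · rw [Subgroup.orderOf_coe, hz]
    · exact Commute.pow_right (mem_centralizer_singleton_iff.mp z.2) _

/-- In a `p`-subgroup, `p ∈ {3, 5}`, every element has exponent `p`. -/
theorem Small.pow_eq_one (h : Small G) {p : ℕ} [Fact p.Prime] (hp : p = 3 ∨ p = 5) {Q : Subgroup G}
    (hQ : IsPGroup p Q) {x : G} (hx : x ∈ Q) : x ^ p = 1 := by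
  obtain ⟨k, hk⟩ := (IsPGroup.iff_orderOf.mp hQ) ⟨x, hx⟩
  rw [Subgroup.orderOf_mk] at hk
  have h5 := h x
  rw [hk] at h5
  have hk1 : k ≤ 1 := by
    by_contra hc
    have : p ^ 2 ≤ p ^ k := Nat.pow_le_pow_right (Fact.out : p.Prime).pos (by omega)
    rcases hp with rfl | rfl <;> omega
  interval_cases k
  · simp at hk; simp [hk]
  · rw [pow_one] at hk; rw [← hk, pow_orderOf_eq_one]

/-- A subgroup of order prime to `p` normalizing a nontrivial `p`-subgroup acts freely on it. -/
theorem Small.free (h : Small G) {p : ℕ} [Fact p.Prime] {O : Subgroup G} (hO : IsPGroup p O) {t o : G}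
    (ht : ¬ ∃ k, t ^ p ^ k = 1) (ho : o ∈ O) (hc : t * o = o * t) : o = 1 := by
  by_contra ho1
  obtain ⟨k, hk⟩ := hO ⟨o, ho⟩
  obtain ⟨j, hj⟩ := h.isPGroup_centralizer (p := p) (k := k) (congrArg Subtype.val hk) ho1
    ⟨t, mem_centralizer_singleton_iff.mpr hc⟩
  exact ht ⟨j, congrArg Subtype.val hj⟩

omit [Finite G] in
theorem not_ppow_of_orderOf {p r : ℕ} (hp : p.Prime) (hr : r.Prime) (hpr : r ≠ p) {t : G} (ht : orderOf t = r) :
    ¬ ∃ k, t ^ p ^ k = 1 := by
  rintro ⟨k, hk⟩
  exact hpr ((Nat.prime_dvd_prime_iff_eq hr hp).mp (hr.dvd_of_dvd_pow (ht ▸ orderOf_dvd_of_pow_eq_one hk)))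

theorem not_ppow_of_orderOf_dvd {p : ℕ} [Fact p.Prime] {t : G} (ht : t ≠ 1) (hc : (orderOf t).Coprime p) :
    ¬ ∃ k, t ^ p ^ k = 1 := by
  rintro ⟨k, hk⟩
  exact ht (orderOf_eq_one_iff.mp (Nat.Coprime.eq_one_of_dvd (hc.pow_right k) (orderOf_dvd_of_pow_eq_one hk)))

/-- An involution normalizing a nontrivial `p`-subgroup, `p` odd, inverts it. -/
theorem Small.inverts (h : Small G) {p : ℕ} [Fact p.Prime] (hp : p ≠ 2) {O : Subgroup G} (hO : IsPGroup p O)
    {t : G} (ht : orderOf t = 2) (hn : ∀ x ∈ O, t * x * t⁻¹ ∈ O) : ∀ x ∈ O, t * x * t⁻¹ = x⁻¹ := by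
  have h2 := (CfsgLib.HJType.orderOf_two_iff).mp ht
  have hi : t⁻¹ = t := inv_eq_of_mul_eq_one_right h2.1
  rw [hi] at hn ⊢
  exact CfsgLib.HJType.fpf_inverts h2.1 hn
    fun x hx hc => h.free hO (not_ppow_of_orderOf Fact.out Nat.prime_two hp.symm ht) hx hc

/-- At most one involution normalizes a nontrivial `p`-subgroup inside a commutative family. -/
theorem Small.involution_congr (h : Small G) {p : ℕ} [Fact p.Prime] (hp : p ≠ 2) {O : Subgroup G}
    (hO : IsPGroup p O) (hO1 : O ≠ ⊥) {u v : G} (hu : orderOf u = 2) (hv : orderOf v = 2)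
    (hnu : ∀ x ∈ O, u * x * u⁻¹ ∈ O) (hnv : ∀ x ∈ O, v * x * v⁻¹ ∈ O) :
    ∀ x ∈ O, (u * v) * x = x * (u * v) := by
  intro x hx
  have e1 := h.inverts hp hO hv hnv x hx
  have e2 := h.inverts hp hO hu hnu x⁻¹ (O.inv_mem hx)
  rw [inv_inv] at e2
  calc u * v * x = u * (v * x * v⁻¹) * u⁻¹ * (u * v) := by group
    _ = x * (u * v) := by rw [e1, e2]

/-- Two involutions of a subgroup of order prime to `p` normalizing a nontrivial `p`-subgroup are equal. -/
theorem Small.involution_unique (h : Small G) {p : ℕ} [Fact p.Prime] (hp : p ≠ 2) {O : Subgroup G}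
    (hO : IsPGroup p O) (hO1 : O ≠ ⊥) {u v : G} (hu : orderOf u = 2) (hv : orderOf v = 2)
    (hnu : ∀ x ∈ O, u * x * u⁻¹ ∈ O) (hnv : ∀ x ∈ O, v * x * v⁻¹ ∈ O)
    (hcop : (orderOf (u * v)).Coprime p) : u = v := by
  by_contra hne
  obtain ⟨x, hx, hx1⟩ : ∃ x ∈ O, x ≠ 1 := by
    by_contra hcon
    push Not at hcon
    exact hO1 ((Subgroup.eq_bot_iff_forall _).mpr hcon)
  refine hx1 (h.free hO (not_ppow_of_orderOf_dvd (fun e => hne ?_) hcop) hx
    (h.involution_congr hp hO hO1 hu hv hnu hnv x hx))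
  have hi : v⁻¹ = v := inv_eq_of_mul_eq_one_right ((CfsgLib.HJType.orderOf_two_iff).mp hv).1
  rw [← hi] at e
  exact mul_inv_eq_one.mp e

/-- A group of exponent 4 with a unique involution has order at most 8. -/
theorem card_le_eight {T : Type*} [Group T] [Finite T] (h4 : ∀ g : T, g ^ 4 = 1)
    (hu : ∀ u v : T, orderOf u = 2 → orderOf v = 2 → u = v) : Nat.card T ≤ 8 := by
  classical
  have key : ∀ g g' : T, orderOf g = 2 → g' * g' = 1 → g' = 1 ∨ g' = g := by
    intro g g' hg hg'
    by_cases e : g' = 1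
    · exact Or.inl e
    · exact Or.inr (hu _ _ ((CfsgLib.HJType.orderOf_two_iff).mpr ⟨hg', e⟩) hg)
  by_cases hall : ∀ g : T, g * g = 1
  · by_cases hone : ∀ g : T, g = 1
    · have : Subsingleton T := ⟨fun a b => (hone a).trans (hone b).symm⟩
      rw [Nat.card_unique]; norm_num
    · push Not at hone
      obtain ⟨g, hg⟩ := hone
      have hg2 := (CfsgLib.HJType.orderOf_two_iff).mpr ⟨hall g, hg⟩
      have hsub : ∀ x : T, x = 1 ∨ x = g := fun x => key g x hg2 (hall x)
      have hle : (Set.univ : Set T) ⊆ {1, g} := fun x _ => hsub x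
      have := Set.ncard_le_ncard hle
      rw [Set.ncard_univ] at this
      have h2 : ({1, g} : Set T).ncard ≤ 2 := (Set.ncard_insert_le _ _).trans (by simp)
      omega
  push Not at hall
  obtain ⟨g, hg⟩ := hall
  have hz : orderOf (g * g) = 2 := (CfsgLib.HJType.orderOf_two_iff).mpr
    ⟨by have := h4 g; rw [show (4 : ℕ) = 1 + 1 + 1 + 1 from rfl] at this; simpa [pow_succ, mul_assoc] using this, hg⟩
  set z := g * g with hzdef
  have hsq : ∀ x : T, x * x = 1 ∨ x * x = z := fun x => key z (x * x) hz (by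
    have := h4 x; rw [show (4 : ℕ) = 1 + 1 + 1 + 1 from rfl] at this; simpa [pow_succ, mul_assoc] using this)
  -- the elements commuting with `g`
  set C := centralizer ({g} : Set T) with hC
  have hCsub : (C : Set T) ⊆ {1, g, g * g, g * g * g} := by
    intro x hx
    have hc : Commute g x := (mem_centralizer_singleton_iff.mp hx).symm
    rcases hsq x with e | e
    · rcases key z x hz e with rfl | rfl <;> simp [hzdef]
    · have hxg : (g * x) * (g * x) = 1 := by
        calc (g * x) * (g * x) = g * (x * g) * x := by group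
          _ = (g * g) * (x * x) := by rw [← hc.eq]; group
          _ = z * z := by rw [e]
          _ = 1 := ((CfsgLib.HJType.orderOf_two_iff).mp hz).1
      have hg3 : g * g * g * g = 1 := by
        have := h4 g; simpa [pow_succ] using this
      rcases key z (g * x) hz hxg with e' | e'
      · have : x = g⁻¹ := eq_inv_of_mul_eq_one_right e'
        rw [this, inv_eq_of_mul_eq_one_left hg3]; simp
      · rw [hzdef] at e'
        rw [mul_left_cancel e']; simp
  have hC4 : Nat.card C ≤ 4 := by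
    have h1 := Set.ncard_le_ncard hCsub
    rw [← Nat.card_coe_set_eq] at h1
    refine h1.trans ?_
    refine (Set.ncard_insert_le _ _).trans ?_
    refine Nat.succ_le_succ ((Set.ncard_insert_le _ _).trans ?_)
    refine Nat.succ_le_succ ((Set.ncard_insert_le _ _).trans ?_)
    simp
  have hzc : ∀ x : T, x * z * x⁻¹ = z := fun x => hu _ _ (by rw [← hz]; exact (SemiconjBy.orderOf_eq x (by
      show x * z = x * z * x⁻¹ * x
      group)).symm) hz
  -- conjugates of `g` are `g` and `g⁻¹`
  have hconj : ∀ x : T, x * g * x⁻¹ = g ∨ x * g * x⁻¹ = g⁻¹ := by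
    intro x
    have hcz : ∀ w : T, w * z = z * w := fun w => by
      calc w * z = w * z * w⁻¹ * w := by group
        _ = z * w := by rw [hzc]
    rcases hsq x with ex | ex
    · rcases key z x hz ex with e' | e'
      · exact Or.inl (by rw [e']; group)
      · exact Or.inl (by rw [e', ← hcz]; group)
    rcases hsq (x * g) with exg | exg
    · rcases key z (x * g) hz exg with e' | e'
      · exact Or.inl (by rw [eq_inv_of_mul_eq_one_left e']; group)
      · have : x = z * g⁻¹ := eq_mul_inv_of_mul_eq e'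
        refine Or.inl ?_
        rw [this]
        calc z * g⁻¹ * g * (z * g⁻¹)⁻¹ = z * g * z⁻¹ := by group
          _ = g := by rw [← hcz]; group
    · refine Or.inr ?_
      calc x * g * x⁻¹ = x * g * (x * g) * g⁻¹ * (x * x)⁻¹ := by group
        _ = z * g⁻¹ * z⁻¹ := by rw [exg, ex]
        _ = g⁻¹ := by rw [← hcz]; group
  have hidx : C.index ≤ 2 := by
    rw [Subgroup.index]
    have hinj : Function.Injective (fun q : T ⧸ C => q.out * g * q.out⁻¹) := by
      intro a b hab
      simp only at hab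
      rw [← QuotientGroup.out_eq' a, ← QuotientGroup.out_eq' b, QuotientGroup.eq,
        mem_centralizer_singleton_iff]
      calc a.out⁻¹ * b.out * g = a.out⁻¹ * (b.out * g * b.out⁻¹) * b.out := by group
        _ = a.out⁻¹ * (a.out * g * a.out⁻¹) * b.out := by rw [hab]
        _ = g * (a.out⁻¹ * b.out) := by group
    have h1 : Nat.card (T ⧸ C) = (Set.range fun q : T ⧸ C => q.out * g * q.out⁻¹).ncard :=
      (Set.ncard_range_of_injective hinj).symm
    rw [h1]
    refine (Set.ncard_le_ncard (t := {g, g⁻¹}) ?_).trans ((Set.ncard_insert_le _ _).trans (by simp))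
    rintro _ ⟨q, rfl⟩
    exact hconj q.out
  rw [← Subgroup.card_mul_index C]
  calc Nat.card C * C.index ≤ 4 * 2 := Nat.mul_le_mul hC4 hidx
    _ = 8 := rfl

theorem Small.two_group_le_eight (h : Small G) {p : ℕ} [Fact p.Prime] (hp : p ≠ 2) {O T : Subgroup G}
    (hO : IsPGroup p O) (hO1 : O ≠ ⊥) (hT : IsPGroup 2 T) (hn : T ≤ normalizer (O : Set G)) :
    Nat.card T ≤ 8 := by
  refine card_le_eight (fun g => ?_) fun u v hu hv => Subtype.ext ?_
  · obtain ⟨k, hk⟩ := (IsPGroup.iff_orderOf.mp hT) g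
    have h5 := h (g : G)
    rw [Subgroup.orderOf_coe, hk] at h5
    have : k ≤ 2 := by
      by_contra hc
      have : 2 ^ 3 ≤ 2 ^ k := Nat.pow_le_pow_right (by norm_num) (by omega)
      omega
    exact orderOf_dvd_iff_pow_eq_one.mp (hk ▸ (pow_dvd_pow 2 this : 2 ^ k ∣ 2 ^ 2))
  · refine h.involution_unique hp hO hO1 (by rw [Subgroup.orderOf_coe]; exact hu)
      (by rw [Subgroup.orderOf_coe]; exact hv) (fun x hx => (mem_normalizer_iff.mp (hn u.2) x).mp hx)
      (fun x hx => (mem_normalizer_iff.mp (hn v.2) x).mp hx) ?_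
    obtain ⟨k, hk⟩ := (IsPGroup.iff_orderOf.mp hT) (u * v)
    rw [← Subgroup.coe_mul, Subgroup.orderOf_coe, hk]
    exact Nat.Coprime.pow_left _ ((Nat.coprime_primes Nat.prime_two Fact.out).mpr hp.symm)

/-- A noncyclic group of order `r²` cannot act freely on a nontrivial abelian group of order prime
to `r`. -/
theorem eq_one_of_free_plane {A : Type*} [CommGroup A] {r : ℕ} (hr : r.Prime) (f g : A →* A)
    (hc : ∀ x, f (g x) = g (f x)) (hf : ∀ x, f^[r] x = x) (hg : ∀ x, g^[r] x = x)
    (hfree : ∀ i j : ℕ, i < r → j < r → ¬ (i = 0 ∧ j = 0) → ∀ x, f^[i] (g^[j] x) = x → x = 1) (x : A) :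
    x ^ r = 1 := by
  have hgen : ∀ u : A →* A, (∀ x, u^[r] x = x) → (∀ x, u x = x → x = 1) → ∀ x,
      ∏ k ∈ Finset.range r, u^[k] x = 1 := by
    intro u hu hfix x
    apply hfix
    rw [map_prod]
    have e : ∀ k, u (u^[k] x) = u^[k + 1] x := fun k => (Function.iterate_succ_apply' u k x).symm
    simp only [e]
    have h1 := Finset.prod_range_succ' (fun k => u^[k] x) r
    have h2 := Finset.prod_range_succ (fun k => u^[k] x) r
    rw [hu x] at h2
    rw [h2, Function.iterate_zero_apply] at h1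
    exact (mul_right_cancel h1).symm
  have hcomm : Function.Commute (f : A → A) g := hc
  -- the lines
  have hline : ∀ j, j < r → ∏ i ∈ Finset.range r, f^[i] (g^[j * i] x) = 1 := by
    intro j hj
    let gj : A →* A := { toFun := g^[j], map_one' := iterate_map_one g j, map_mul' := iterate_map_mul g j }
    have hgj : ∀ i, ∀ y, ((f.comp gj : A →* A) : A → A)^[i] y = f^[i] (g^[j * i] y) := by
      intro i
      induction i with
      | zero => intro y; simp
      | succ i ih =>
        intro y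
        rw [Function.iterate_succ_apply, ih]
        show f^[i] (g^[j * i] (f (g^[j] y))) = _
        rw [((hcomm.iterate_right (j * i)).eq (g^[j] y)).symm, ← Function.iterate_succ_apply f i,
          ← Function.iterate_add_apply, Nat.mul_succ]
    rw [← hgen (f.comp gj) (fun y => by
      rw [hgj, Nat.mul_comm, Function.iterate_mul, hf]
      exact Function.iterate_fixed (hg y) j)
      (fun y hy => hfree 1 j hr.one_lt hj (by omega) y hy) x]
    exact Finset.prod_congr rfl fun i _ => (hgj i x).symm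
  have hall : ∏ j ∈ Finset.range r, ∏ i ∈ Finset.range r, f^[i] (g^[j * i] x) = 1 :=
    Finset.prod_eq_one fun j hj => hline j (Finset.mem_range.mp hj)
  rw [Finset.prod_comm, Finset.prod_eq_single (0 : ℕ)] at hall
  · simpa using hall
  · intro i hi hi0
    have hir : i < r := Finset.mem_range.mp hi
    let gi : A →* A := { toFun := g^[i], map_one' := iterate_map_one g i, map_mul' := iterate_map_mul g i }
    have h1 := hgen gi (fun y => by
      show (g^[i])^[r] y = y
      rw [← Function.iterate_mul, Nat.mul_comm, Function.iterate_mul]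
      exact Function.iterate_fixed (hg y) i)
      (fun y hy => hfree 0 i hr.pos hir (by omega) y hy) x
    have h2 : ∀ j, g^[j * i] x = (g^[i])^[j] x := fun j => by
      rw [← Function.iterate_mul, Nat.mul_comm]
    simp only [h2]
    have h3 : ∀ j : ℕ, f^[i] ((g^[i])^[j] x) =
        ({ toFun := f^[i], map_one' := iterate_map_one f i, map_mul' := iterate_map_mul f i } : A →* A)
          ((g^[i])^[j] x) := fun _ => rfl
    simp only [h3]
    rw [← map_prod]
    show f^[i] _ = 1
    rw [show (∏ j ∈ Finset.range r, (g^[i])^[j] x) = 1 from h1, iterate_map_one]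
  · intro h0
    exact absurd (Finset.mem_range.mpr hr.pos) h0

/-- The other prime. -/
def cop (p : ℕ) : ℕ := if p = 3 then 5 else 3

/-- A group of order `r^m` acting freely on a nontrivial `p`-subgroup has order at most `r`. -/
theorem Small.r_group_le (h : Small G) {p : ℕ} [Fact p.Prime] {r : ℕ} (hr : r.Prime) (hr2 : r ≠ 2) (hrp : r ≠ p)
    {O T : Subgroup G} (hO : IsPGroup p O) (hO1 : O ≠ ⊥) (hT : IsPGroup r T)
    (hn : T ≤ normalizer (O : Set G)) : Nat.card T ≤ r := by
  classical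
  haveI := Fact.mk hr
  by_contra hlt
  push Not at hlt
  obtain ⟨m, hm⟩ := IsPGroup.iff_card.mp hT
  have hm2 : 2 ≤ m := by
    by_contra hc
    rw [hm] at hlt
    interval_cases m
    · simp at hlt; exact absurd hlt (by have := hr.two_le; omega)
    · simp at hlt
  obtain ⟨U', hU'⟩ := Sylow.exists_subgroup_card_pow_prime r (hm ▸ pow_dvd_pow r hm2 : r ^ 2 ∣ Nat.card T)
  set U : Subgroup G := U'.map T.subtype with hUdef
  have hUc : Nat.card U = r ^ 2 := by rw [← hU']; exact Nat.card_congr (U'.equivMapOfInjective _ T.subtype_injective).toEquiv.symm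
  have hUN : U ≤ normalizer (O : Set G) := (map_subtype_le U').trans hn
  have hUcomm : ∀ a b : U, a * b = b * a := IsPGroup.commutative_of_card_eq_prime_sq hUc
  have hUr : ∀ u : U, u ^ r = 1 := fun u => by
    have h1 : orderOf u ∣ r ^ 2 := hUc ▸ orderOf_dvd_natCard u
    obtain ⟨k, hk, hk'⟩ := (Nat.dvd_prime_pow hr).mp h1
    have h5 := h (u : G)
    rw [Subgroup.orderOf_coe, hk'] at h5
    rw [← orderOf_dvd_iff_pow_eq_one, hk']
    have hr3 : 3 ≤ r := by have := hr.two_le; omega
    have : k ≤ 1 := by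
      by_contra hc
      have : 3 ^ 2 ≤ r ^ k := (Nat.pow_le_pow_left hr3 2).trans (Nat.pow_le_pow_right hr.pos (by omega))
      omega
    exact (pow_dvd_pow r this).trans (pow_one r).dvd
  obtain ⟨a, ha⟩ : ∃ a : U, a ≠ 1 := by
    haveI : Nontrivial U := Finite.one_lt_card_iff_nontrivial.mp (hUc ▸ one_lt_pow₀ hr.one_lt two_ne_zero)
    exact exists_ne 1
  obtain ⟨b, hb⟩ : ∃ b : U, b ∉ zpowers a := by
    by_contra hcon
    push Not at hcon
    have htop : zpowers a = ⊤ := top_unique fun x _ => hcon x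
    have := congrArg (fun H : Subgroup U => Nat.card H) htop
    simp only [Nat.card_zpowers, card_top, hUc, orderOf_eq_prime (hUr a) ha] at this
    exact absurd this (lt_self_pow₀ hr.one_lt one_lt_two).ne
  have hind : ∀ i j : ℕ, i < r → j < r → a ^ i * b ^ j = 1 → i = 0 ∧ j = 0 := by
    intro i j hi hj hij
    have hj0 : j = 0 := by
      by_contra hj0
      obtain ⟨c, hc⟩ := (IsPGroup.powEquiv (IsPGroup.of_card (n := 2) hUc)
        (Nat.Coprime.symm ((Nat.coprime_comm.mp (hr.coprime_iff_not_dvd.mpr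
          (Nat.not_dvd_of_pos_of_lt (Nat.pos_of_ne_zero hj0) hj))))) ).surjective b
      have hbj : b ^ j ∈ zpowers a := by
        rw [eq_inv_of_mul_eq_one_right hij]
        exact inv_mem (pow_mem (mem_zpowers a) i)
      have hb' : orderOf b = r := orderOf_eq_prime (hUr b) fun e => hb (e ▸ one_mem _)
      obtain ⟨s, hs⟩ := exists_pow_eq_self_of_coprime (x := b) (n := j) (by
        rw [hb']; exact Nat.coprime_comm.mp (hr.coprime_iff_not_dvd.mpr
          (Nat.not_dvd_of_pos_of_lt (Nat.pos_of_ne_zero hj0) hj)))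
      exact hb (hs ▸ pow_mem hbj s)
    refine ⟨?_, hj0⟩
    by_contra hi0
    rw [hj0, pow_zero, mul_one] at hij
    exact Nat.not_dvd_of_pos_of_lt (Nat.pos_of_ne_zero hi0) hi
      (orderOf_eq_prime (hUr a) ha ▸ orderOf_dvd_of_pow_eq_one hij)
  haveI : Nontrivial O := O.nontrivial_iff_ne_bot.mpr hO1
  haveI := hO.center_nontrivial
  set Z : Subgroup G := (center O).map O.subtype with hZ
  have hZO : Z ≤ O := map_subtype_le _
  have hZn : ∀ u : U, ∀ z ∈ Z, (u : G) * z * (u : G)⁻¹ ∈ Z := by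
    rintro u _ ⟨z, hz, rfl⟩
    have hu := mem_normalizer_iff.mp (hUN u.2)
    refine ⟨⟨_, (hu _).mp z.2⟩, mem_center_iff.mpr fun y => Subtype.ext ?_, rfl⟩
    have hy : (u : G)⁻¹ * y * u ∈ O := by
      refine (hu _).mpr ?_
      simpa [mul_assoc] using y.2
    have := congrArg Subtype.val (mem_center_iff.mp hz ⟨_, hy⟩)
    simp only [coe_mul] at this ⊢
    calc (y : G) * ((u : G) * z * (u : G)⁻¹) = (u : G) * ((u : G)⁻¹ * y * u * z) * (u : G)⁻¹ := by group
      _ = (u : G) * (z * ((u : G)⁻¹ * y * u)) * (u : G)⁻¹ := by rw [this]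
      _ = (u : G) * z * (u : G)⁻¹ * y := by group
  letI : CommGroup Z :=
    { (inferInstance : Group Z) with
      mul_comm := by
        rintro ⟨_, x, hx, rfl⟩ ⟨_, y, -, rfl⟩
        apply Subtype.ext
        show (x : G) * (y : G) = (y : G) * (x : G)
        exact congrArg Subtype.val (mem_center_iff.mp hx y).symm }
  let c : U → (Z →* Z) := fun u =>
    { toFun := fun z => ⟨_, hZn u z z.2⟩
      map_one' := Subtype.ext (by simp)
      map_mul' := fun x y => Subtype.ext (by push_cast; group) }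
  have hit : ∀ (u : U) (n : ℕ) (z : Z), (((c u)^[n] z : Z) : G) = ((u ^ n : U) : G) * z * ((u ^ n : U) : G)⁻¹ := by
    intro u n
    induction n with
    | zero => simp
    | succ n ih =>
      intro z
      rw [Function.iterate_succ_apply']
      show (u : G) * _ * (u : G)⁻¹ = _
      rw [ih, pow_succ', coe_mul]
      group
  have hZr := eq_one_of_free_plane hr (c a) (c b)
    (fun z => Subtype.ext (by
      show (a : G) * ((b : G) * z * (b : G)⁻¹) * (a : G)⁻¹ = (b : G) * ((a : G) * z * (a : G)⁻¹) * (b : G)⁻¹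
      have e : (a : G) * b = b * a := congrArg Subtype.val (hUcomm a b)
      calc _ = ((a : G) * b) * z * ((a : G) * b)⁻¹ := by group
        _ = _ := by rw [e]; group))
    (fun z => Subtype.ext (by rw [hit, hUr]; simp))
    (fun z => Subtype.ext (by rw [hit, hUr]; simp))
    (fun i j hi hj hij z hz => Subtype.ext (by
      have e : ((a ^ i * b ^ j : U) : G) * z * ((a ^ i * b ^ j : U) : G)⁻¹ = z := by
        have := congrArg Subtype.val hz
        rw [hit, hit] at this
        calc _ = ((a ^ i : U) : G) * (((b ^ j : U) : G) * z * ((b ^ j : U) : G)⁻¹) * ((a ^ i : U) : G)⁻¹ := by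
              rw [coe_mul]; group
          _ = z := this
      have hne : a ^ i * b ^ j ≠ 1 := fun e => hij (hind i j hi hj e)
      refine h.free hO (not_ppow_of_orderOf Fact.out hr hrp ?_) (hZO z.2) (mul_inv_eq_iff_eq_mul.mp e)
      rw [Subgroup.orderOf_coe]
      exact orderOf_eq_prime (hUr _) hne))
  haveI : Nontrivial Z := (nontrivial_iff_ne_bot Z).mpr fun e => by
    have := (map_eq_bot_iff_of_injective _ O.subtype_injective).mp e
    exact (nontrivial_iff_ne_bot _).mp ‹Nontrivial (center O)› this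
  obtain ⟨z, hz⟩ := exists_ne (1 : Z)
  obtain ⟨k, hk⟩ := hO ⟨z, hZO z.2⟩
  exact hz (orderOf_eq_one_iff.mp (Nat.Coprime.eq_one_of_dvd
    (((Nat.coprime_primes hr Fact.out).mpr hrp).pow 1 k |>.symm.coprime_dvd_left
      (orderOf_dvd_of_pow_eq_one (Subtype.ext (congrArg Subtype.val hk :) : z ^ p ^ k = 1)) )
    (by simpa using orderOf_dvd_of_pow_eq_one (hZr z))))

omit [Finite G] in
theorem le_sylow_of_normal {p : ℕ} [Fact p.Prime] [Finite G] {N : Subgroup G} [hN : N.Normal] (hNp : IsPGroup p N)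
    (R : Sylow p G) : N ≤ (R : Subgroup G) := by
  obtain ⟨S, hS⟩ := hNp.exists_le_sylow
  obtain ⟨g, rfl⟩ := MulAction.exists_smul_eq G S R
  intro x hx
  rw [Sylow.coe_subgroup_smul, Subgroup.mem_pointwise_smul_iff_inv_smul_mem]
  exact hS (by simpa [MulAut.smul_def] using hN.conj_mem x hx g⁻¹)

/-- A group with a nontrivial normal `p`-subgroup has a single Sylow `p`-subgroup. -/
theorem Small.unique_sylow (h : Small G) {p : ℕ} [Fact p.Prime] (hp : p = 3 ∨ p = 5) (D : Subgroup G) [D.Normal]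
    (hD : IsPGroup p D) (hD1 : D ≠ ⊥) (R R' : Sylow p G) : R = R' := by
  have hp2 : p ≠ 2 := by omega
  suffices hn : (R : Subgroup G).Normal by
    haveI := hn
    have := Sylow.unique_of_normal R hn
    exact Subsingleton.elim R R'
  set O := (R : Subgroup G).normalCore with hOdef
  have hOR : O ≤ R := normalCore_le _
  have hO : IsPGroup p O := R.2.to_le hOR
  have hDO : D ≤ O := normal_le_normalCore.mpr (le_sylow_of_normal hD R)
  have hO1 : O ≠ ⊥ := fun e => hD1 (le_bot_iff.mp (e ▸ hDO))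
  have hOn : O.Normal := normalCore_normal _
  have hinvO : ∀ g : G, ∀ x ∈ O, g * x * g⁻¹ ∈ O := fun g x hx => hOn.conj_mem x hx g
  have hCO : centralizer (O : Set G) ≤ O := by
    obtain ⟨o, ho, ho1⟩ : ∃ o ∈ O, o ≠ 1 := by
      by_contra hcon
      push Not at hcon
      exact hO1 ((Subgroup.eq_bot_iff_forall _).mpr hcon)
    obtain ⟨k, hk⟩ := hO ⟨o, ho⟩
    have hCp : IsPGroup p (centralizer (O : Set G)) :=
      (h.isPGroup_centralizer (congrArg Subtype.val hk) ho1).to_le
        (centralizer_le (Set.singleton_subset_iff.mpr ho))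
    haveI : (centralizer (O : Set G)).Normal := by
      haveI := hOn
      infer_instance
    exact normal_le_normalCore.mpr (le_sylow_of_normal hCp R)
  by_cases h2 : 2 ∣ Nat.card G
  · obtain ⟨t, ht⟩ := exists_prime_orderOf_dvd_card' 2 h2
    have hu : ∀ g : G, t * (g * t * g⁻¹) ∈ O := fun g => hCO (mem_centralizer_iff.mpr fun x hx =>
      (h.involution_congr hp2 hO hO1 ht (by
        rw [← ht]; exact ((SemiconjBy.orderOf_eq g (by show g * t = g * t * g⁻¹ * g; group)).symm))
        (hinvO t) (hinvO _) x hx).symm)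
    have hti : t⁻¹ = t := inv_eq_of_mul_eq_one_right ((CfsgLib.HJType.orderOf_two_iff).mp ht).1
    have hRn : ∀ x ∈ (R : Subgroup G), t * x * t⁻¹ ∈ (R : Subgroup G) := by
      intro x hx
      have : t * x * t⁻¹ = t * (x * t * x⁻¹) * x := by rw [hti]; group
      rw [this]
      exact mul_mem (hOR (hu x)) hx
    have hRO : (R : Subgroup G) ≤ O := by
      intro x hx
      have e1 := h.inverts hp2 R.2 ht hRn x hx
      have e2 : x * x ∈ O := by
        have := inv_mem (hu x)
        have e3 : t * (x * t * x⁻¹) = x⁻¹ * x⁻¹ := by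
          calc t * (x * t * x⁻¹) = (t * x * t⁻¹) * (t * t) * t⁻¹ * t * x⁻¹ := by group
            _ = x⁻¹ * x⁻¹ := by rw [e1, ((CfsgLib.HJType.orderOf_two_iff).mp ht).1]; group
        rw [e3] at this
        simpa using this
      have hx' := h.pow_eq_one hp R.2 hx
      rcases hp with rfl | rfl
      · have : x = (x * x) * (x * x) := by
          calc x = x * x ^ 3 := by rw [hx', mul_one]
            _ = _ := by simp [pow_succ, mul_assoc]
        rw [this]; exact mul_mem e2 e2
      · have : x = (x * x) * (x * x) * (x * x) := by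
          calc x = x * x ^ 5 := by rw [hx', mul_one]
            _ = _ := by simp [pow_succ, mul_assoc]
        rw [this]; exact mul_mem (mul_mem e2 e2) e2
    rw [le_antisymm hRO hOR]
    exact hOn
  · have hr : (cop p).Prime := by rcases hp with rfl | rfl <;> norm_num [cop]
    have hrp : cop p ≠ p := by rcases hp with rfl | rfl <;> norm_num [cop]
    haveI := Fact.mk hr
    obtain ⟨T⟩ := (inferInstance : Nonempty (Sylow (cop p) G))
    have hTle : Nat.card (T : Subgroup G) ≤ cop p :=
      h.r_group_le hr (by rcases hp with rfl | rfl <;> norm_num [cop]) hrp hO hO1 T.2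
        (fun g _ => mem_normalizer_iff.mpr fun x => ⟨hinvO g x, fun hx => by
          simpa [mul_assoc] using hinvO g⁻¹ _ hx⟩)
    have hidx : (R : Subgroup G).index ∣ cop p := by
      have hi0 : (R : Subgroup G).index ≠ 0 := index_ne_zero_of_finite
      have hip : ∀ {q : ℕ}, q.Prime → q ∣ (R : Subgroup G).index → q = cop p := by
        intro q hq hd
        rcases h.prime_le hq (hd.trans (index_dvd_card _)) with rfl | rfl | rfl
        · exact absurd (hd.trans (index_dvd_card _)) h2
        · rcases hp with rfl | rfl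
          · exact absurd hd R.not_dvd_index
          · rfl
        · rcases hp with rfl | rfl
          · rfl
          · exact absurd hd R.not_dvd_index
      rw [Nat.eq_prime_pow_of_unique_prime_dvd hi0 hip]
      refine pow_dvd_pow (cop p) (?_ : _ ≤ 1) |>.trans (by rw [pow_one])
      by_contra hlt
      have hd2 : cop p ^ 2 ∣ Nat.card G :=
        ((pow_dvd_pow (cop p) (Nat.lt_of_not_ge hlt)).trans
          (Nat.eq_prime_pow_of_unique_prime_dvd hi0 hip).symm.dvd).trans (index_dvd_card _)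
      have := Nat.le_of_dvd Nat.card_pos (T.pow_dvd_card_of_pow_dvd_card hd2)
      have := hr.two_le
      nlinarith
    have h1 := card_sylow_modEq_one p G
    have h2' : Nat.card (Sylow p G) ∣ cop p := (R.card_dvd_index).trans hidx
    rw [← normalizer_eq_top_iff]
    refine index_eq_one.mp ((R.card_eq_index_normalizer).symm.trans ?_)
    rcases (Nat.dvd_prime hr).mp h2' with e | e
    · exact e
    · rw [e] at h1
      rcases hp with rfl | rfl <;> simp [cop, Nat.ModEq] at h1

/-- The Sylow `p`-subgroups meet trivially. -/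
theorem Small.sylow_inf_eq_bot (h : Small G) {p : ℕ} [Fact p.Prime] (hp : p = 3 ∨ p = 5) {P Q : Sylow p G}
    (hne : P ≠ Q) : (P : Subgroup G) ⊓ Q = ⊥ := by
  classical
  by_contra hbad
  obtain ⟨⟨P₀, Q₀⟩, hPQ, hmax⟩ := Set.exists_max_image
    {q : Sylow p G × Sylow p G | q.1 ≠ q.2 ∧ (q.1 : Subgroup G) ⊓ q.2 ≠ ⊥}
    (fun q => Nat.card ((q.1 : Subgroup G) ⊓ q.2 : Subgroup G)) (Set.toFinite _) ⟨(P, Q), hne, hbad⟩
  obtain ⟨hne₀, hD1⟩ := hPQ
  simp only at hne₀ hD1 hmax
  set D := (P₀ : Subgroup G) ⊓ Q₀ with hDdef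
  set H := normalizer (D : Set G) with hH
  have hgrow : ∀ S : Sylow p G, D ≤ S → D ≠ S → ∃ x, x ∈ (S : Subgroup G) ∧ x ∈ H ∧ x ∉ D := by
    intro S hle hneS
    have hlt : D.subgroupOf S < ⊤ := lt_top_iff_ne_top.mpr fun e =>
      hneS (le_antisymm hle (subgroupOf_eq_top.mp e))
    haveI : Group.IsNilpotent (S : Subgroup G) := S.2.isNilpotent
    have h1 := normalizerCondition_of_isNilpotent (D.subgroupOf S) hlt
    obtain ⟨x, hx, hxD⟩ := SetLike.exists_of_lt h1
    refine ⟨x, x.2, ?_, fun e => hxD (mem_subgroupOf.mpr e)⟩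
    rw [hH, mem_normalizer_iff]
    intro y
    constructor
    · intro hy
      exact mem_subgroupOf.mp ((mem_normalizer_iff.mp hx ⟨y, hle hy⟩).mp (mem_subgroupOf.mpr hy))
    · intro hy
      have hy' : y ∈ (S : Subgroup G) := by
        have := mul_mem (mul_mem (inv_mem x.2) (hle hy)) x.2
        simpa [mul_assoc] using this
      exact mem_subgroupOf.mp ((mem_normalizer_iff.mp hx ⟨y, hy'⟩).mpr (mem_subgroupOf.mpr hy))
  have hsame : ∀ S S' : Sylow p G, D ≤ S → D ≤ S' → (∃ x, x ∈ (S : Subgroup G) ∧ x ∈ (S' : Subgroup G) ∧ x ∉ D) → S = S' := by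
    intro S S' hS hS' ⟨x, hx, hx', hxD⟩
    by_contra hSS
    have hle : D ≤ (S : Subgroup G) ⊓ S' := le_inf hS hS'
    have hne' : (S : Subgroup G) ⊓ S' ≠ ⊥ := fun e => hD1 (le_bot_iff.mp (e ▸ hle))
    exact hxD ((Subgroup.eq_of_le_of_card_ge hle (hmax (S, S') ⟨hSS, hne'⟩)).symm ▸ ⟨hx, hx'⟩)
  have hP0 : D ≠ P₀ := fun e =>
    hne₀ (Sylow.ext (P₀.is_maximal' Q₀.2 (e ▸ (inf_le_right : D ≤ Q₀))).symm)
  have hQ0 : D ≠ Q₀ := fun e =>
    hne₀ (Sylow.ext (Q₀.is_maximal' P₀.2 (e ▸ (inf_le_left : D ≤ P₀))))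
  obtain ⟨x, hxP, hxH, hxD⟩ := hgrow P₀ inf_le_left hP0
  obtain ⟨y, hyQ, hyH, hyD⟩ := hgrow Q₀ inf_le_right hQ0
  have hDH : D ≤ H := le_normalizer
  -- the two traces lie in one Sylow subgroup of `H`
  obtain ⟨R, hR⟩ := (P₀.2.to_le (inf_le_left : (P₀ : Subgroup G) ⊓ H ≤ _)).comap_subtype.exists_le_sylow
  obtain ⟨R', hR'⟩ := (Q₀.2.to_le (inf_le_left : (Q₀ : Subgroup G) ⊓ H ≤ _)).comap_subtype.exists_le_sylow
  haveI : (D.subgroupOf H).Normal := normal_in_normalizer
  have hRR : R = R' := (h.subgroup H).unique_sylow hp (D.subgroupOf H)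
    ((P₀.2.to_le inf_le_left).comap_subtype)
    (fun e => hD1 ((subgroupOf_eq_bot.mp e).eq_bot_of_le hDH)) R R'
  obtain ⟨S, hS⟩ := (R.2.map H.subtype).exists_le_sylow
  have hS1 : (P₀ : Subgroup G) ⊓ H ≤ S := fun u hu =>
    hS ⟨⟨u, hu.2⟩, hR (show (u : G) ∈ (P₀ : Subgroup G) ⊓ H from hu), rfl⟩
  have hS2 : (Q₀ : Subgroup G) ⊓ H ≤ S := fun u hu =>
    hS ⟨⟨u, hu.2⟩, hRR ▸ hR' (show (u : G) ∈ (Q₀ : Subgroup G) ⊓ H from hu), rfl⟩
  have hDS : D ≤ S := (le_inf inf_le_left hDH).trans hS1
  have e1 := hsame P₀ S inf_le_left hDS ⟨x, hxP, hS1 ⟨hxP, hxH⟩, hxD⟩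
  have e2 := hsame Q₀ S inf_le_right hDS ⟨y, hyQ, hS2 ⟨hyQ, hyH⟩, hyD⟩
  exact hne₀ (e1.trans e2.symm)

theorem Small.isTI (h : Small G) {p : ℕ} [Fact p.Prime] (hp : p = 3 ∨ p = 5) (P : Sylow p G) :
    Cfsg.IsTISubset ((P : Subgroup G) : Set G) := by
  intro g hg x hx hgx
  by_contra hx1
  have hne : g • P ≠ P := fun e => hg (Sylow.smul_eq_iff_mem_normalizer.mp e)
  have := h.sylow_inf_eq_bot hp hne
  have hm : g * x * g⁻¹ ∈ ((g • P : Sylow p G) : Subgroup G) ⊓ P := by
    refine ⟨?_, hgx⟩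
    have := smul_mem_pointwise_smul x (MulAut.conj g) _ hx
    exact this
  rw [this, mem_bot] at hm
  exact hx1 (conj_eq_one_iff.mp hm)

theorem Small.centralizer_le (h : Small G) {p : ℕ} [Fact p.Prime] (hp : p = 3 ∨ p = 5) (P : Sylow p G)
    {x : G} (hx : x ∈ (P : Subgroup G)) (hx1 : x ≠ 1) : centralizer ({x} : Set G) ≤ (P : Subgroup G) := by
  obtain ⟨k, hk⟩ := P.2 ⟨x, hx⟩
  obtain ⟨S, hS⟩ := (h.isPGroup_centralizer (congrArg Subtype.val hk) hx1).exists_le_sylow
  by_cases e : S = P
  · exact e ▸ hS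
  · have := h.sylow_inf_eq_bot hp e
    exact absurd (mem_bot.mp (this ▸ ⟨hS (mem_centralizer_singleton_iff.mpr rfl), hx⟩ : x ∈ (⊥ : Subgroup G))) hx1

/-- The number of Sylow subgroups is one modulo their order. -/
theorem Small.card_sylow_mod (h : Small G) {p : ℕ} [Fact p.Prime] (hp : p = 3 ∨ p = 5) (P : Sylow p G) :
    Nat.card (P : Subgroup G) ∣ Nat.card (Sylow p G) - 1 :=
  CfsgLib.U35MinIndex.card_sylow_mod_of_trivial_meet P fun _ hQ => h.sylow_inf_eq_bot hp (Ne.symm hQ)

/-- The index of a Sylow subgroup in its normalizer. -/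
theorem Small.normalizer_index (h : Small G) {p : ℕ} [Fact p.Prime] (hp : p = 3 ∨ p = 5) (P : Sylow p G)
    (hP1 : (P : Subgroup G) ≠ ⊥) {e : ℕ}
    (he : e = ((P : Subgroup G).subgroupOf (normalizer ((P : Subgroup G) : Set G))).index) :
    e = 1 ∨ e = 2 ∨ e = 4 ∨ e = 8 ∨ e = cop p := by
  classical
  set N := normalizer ((P : Subgroup G) : Set G) with hN
  set K := (P : Subgroup G).subgroupOf N with hK
  have hr : (cop p).Prime := by rcases hp with rfl | rfl <;> norm_num [cop]
  have hrp : cop p ≠ p := by rcases hp with rfl | rfl <;> norm_num [cop]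
  have hr2 : cop p ≠ 2 := by rcases hp with rfl | rfl <;> norm_num [cop]
  have hp2 : p ≠ 2 := by omega
  haveI := Fact.mk hr
  have hcard : Nat.card K * K.index = Nat.card N := K.card_mul_index
  have hKc : Nat.card K = Nat.card (P : Subgroup G) :=
    Nat.card_congr (subgroupOfEquivOfLe le_normalizer).toEquiv
  have hcop : ¬ p ∣ K.index := (P.subtype le_normalizer).not_dvd_index
  have he0 : e ≠ 0 := he ▸ index_ne_zero_of_finite
  obtain ⟨T⟩ := (inferInstance : Nonempty (Sylow 2 N))
  obtain ⟨U⟩ := (inferInstance : Nonempty (Sylow (cop p) N))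
  have hT := h.two_group_le_eight hp2 P.2 hP1 (T.2.map N.subtype) (map_subtype_le _)
  have hU := h.r_group_le hr hr2 hrp P.2 hP1 (U.2.map N.subtype) (map_subtype_le _)
  rw [Nat.card_congr (T.toSubgroup.equivMapOfInjective _ N.subtype_injective).toEquiv.symm] at hT
  rw [Nat.card_congr (U.toSubgroup.equivMapOfInjective _ N.subtype_injective).toEquiv.symm] at hU
  have hboth : ¬ (2 ∣ e ∧ cop p ∣ e) := by
    rintro ⟨h2, hr'⟩
    haveI : K.Normal := normal_in_normalizer
    rw [he, index_eq_card] at h2 hr'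
    obtain ⟨t', ht'⟩ := exists_prime_orderOf_dvd_card' 2 h2
    obtain ⟨y', hy'⟩ := exists_prime_orderOf_dvd_card' (cop p) hr'
    obtain ⟨t0, rfl⟩ := QuotientGroup.mk_surjective t'
    obtain ⟨t, ht, htt⟩ : ∃ t : N, orderOf t = 2 ∧ (t : N ⧸ K) = t0 := by
      have hd : orderOf (t0 : N ⧸ K) ∣ orderOf t0 := orderOf_map_dvd (QuotientGroup.mk' K) t0
      rw [ht'] at hd
      have h5 := h (t0 : G)
      rw [Subgroup.orderOf_coe] at h5
      have hpos := orderOf_pos t0
      rcases (show orderOf t0 = 2 ∨ orderOf t0 = 4 by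
        generalize orderOf t0 = o at hd h5 hpos; omega) with e2 | e4
      · exact ⟨t0, e2, rfl⟩
      · exfalso
        have hq : (t0 : N ⧸ K) ^ 2 = 1 := ht' ▸ pow_orderOf_eq_one _
        rw [← QuotientGroup.mk_pow, QuotientGroup.eq_one_iff] at hq
        obtain ⟨k, hk⟩ := P.2 ⟨_, mem_subgroupOf.mp hq⟩
        have hk' : ((t0 : G) ^ 2) ^ p ^ k = 1 := congrArg Subtype.val hk
        have h2' : orderOf ((t0 : G) ^ 2) = 2 := by
          rw [orderOf_pow, Subgroup.orderOf_coe, e4]; rfl
        exact not_ppow_of_orderOf Fact.out Nat.prime_two hp2.symm h2' ⟨k, hk'⟩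
    rw [← htt] at ht'
    obtain ⟨y, rfl⟩ := QuotientGroup.mk_surjective y'
    have hnz : ∀ n : N, ∀ x ∈ (P : Subgroup G), (n : G) * x * (n : G)⁻¹ ∈ (P : Subgroup G) :=
      fun n x hx => (mem_normalizer_iff.mp n.2 x).mp hx
    have htG : orderOf (t : G) = 2 := (Subgroup.orderOf_coe t).trans ht
    have huG : orderOf ((y * t * y⁻¹ : N) : G) = 2 := by
      rw [Subgroup.orderOf_coe, ← ht]
      exact (SemiconjBy.orderOf_eq y (by show y * t = y * t * y⁻¹ * y; group)).symm
    have hmem : t * (y * t * y⁻¹) ∈ K := by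
      rw [hK, mem_subgroupOf, coe_mul]
      obtain ⟨x, hx, hx1⟩ : ∃ x ∈ (P : Subgroup G), x ≠ 1 := by
        by_contra hcon
        push Not at hcon
        exact hP1 ((Subgroup.eq_bot_iff_forall _).mpr hcon)
      exact h.centralizer_le hp P hx hx1 (mem_centralizer_singleton_iff.mpr
        (h.involution_congr hp2 P.2 hP1 htG huG (hnz t) (hnz _) x hx))
    have hc : Commute (t : N ⧸ K) (y : N ⧸ K) := by
      have e1 : (t : N ⧸ K) * ((y : N ⧸ K) * t * (y : N ⧸ K)⁻¹) = 1 := by
        rw [← QuotientGroup.mk_inv, ← QuotientGroup.mk_mul, ← QuotientGroup.mk_mul, ← QuotientGroup.mk_mul]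
        exact (QuotientGroup.eq_one_iff _).mpr hmem
      have e2 : (t : N ⧸ K)⁻¹ = t := inv_eq_of_mul_eq_one_right ((CfsgLib.HJType.orderOf_two_iff).mp ht').1
      have e3 := eq_inv_of_mul_eq_one_right e1
      rw [e2, mul_inv_eq_iff_eq_mul] at e3
      exact e3.symm
    exact ((h.subgroup N).quotient K).eq_one_of_commute Nat.prime_two hr hr2.symm ht' hy' hc
  have hprime : ∀ {q : ℕ}, q.Prime → q ∣ e → q = 2 ∨ q = cop p := by
    intro q hq hd
    have hd' : q ∣ Nat.card G := (hd.trans (he ▸ index_dvd_card K)).trans (card_subgroup_dvd_card N)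
    rcases h.prime_le hq hd' with rfl | rfl | rfl <;> rcases hp with rfl | rfl <;>
      first | (left; rfl) | (right; rfl) | exact absurd (he ▸ hd) hcop
  have hpow : ∀ q : ℕ, q.Prime → ∀ S : Sylow q N, (∀ {s : ℕ}, s.Prime → s ∣ e → s = q) →
      ∃ i, e = q ^ i ∧ q ^ i ≤ Nat.card (S : Subgroup N) := by
    intro q hq S hu
    haveI := Fact.mk hq
    refine ⟨_, Nat.eq_prime_pow_of_unique_prime_dvd he0 hu, Nat.le_of_dvd Nat.card_pos
      (S.pow_dvd_card_of_pow_dvd_card ?_)⟩
    rw [← Nat.eq_prime_pow_of_unique_prime_dvd he0 hu, he]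
    exact index_dvd_card K
  by_cases h2 : 2 ∣ e
  · obtain ⟨i, hi, hi8⟩ := hpow 2 Nat.prime_two T fun hs hd =>
      (hprime hs hd).resolve_right fun e => hboth ⟨h2, e ▸ hd⟩
    have hi3 : i ≤ 3 := by
      by_contra hc
      have : 2 ^ 4 ≤ 2 ^ i := Nat.pow_le_pow_right (by norm_num) (by omega)
      omega
    interval_cases i <;> simp_all
  · obtain ⟨i, hi, hir⟩ := hpow (cop p) hr U fun hs hd =>
      (hprime hs hd).resolve_left fun e => h2 (e ▸ hd)
    have hi1 : i ≤ 1 := by
      by_contra hc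
      have : cop p ^ 2 ≤ cop p ^ i := Nat.pow_le_pow_right hr.pos (by omega)
      have := hr.two_le
      nlinarith
    interval_cases i <;> simp_all

end CfsgLib.SixSpectrum
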