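import Mathlib
import Cfsg.Agent.Lib.SixSpectrum.Local

/-!
# No proper overgroup of `A₆` has all element orders at most five
-/

set_option autoImplicit false

namespace CfsgLib.SixSpectrum

open Subgroup Equiv

/-- `A₆`. -/
abbrev A6 := ↥(alternatingGroup (Fin 6))

/-- `(12)(34)` -/
def zA : A6 := ⟨swap 0 1 * swap 2 3, Equiv.Perm.mem_alternatingGroup.mpr (by decide +kernel)⟩
/-- `(13)(24)` -/
def aA : A6 := ⟨swap 0 2 * swap 1 3, Equiv.Perm.mem_alternatingGroup.mpr (by decide +kernel)⟩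
/-- `(12)(56)` -/
def bA : A6 := ⟨swap 0 1 * swap 4 5, Equiv.Perm.mem_alternatingGroup.mpr (by decide +kernel)⟩
/-- The first four-group. -/
def fourOne : List A6 := [1, zA, aA, zA * aA]
/-- The second four-group. -/
def fourTwo : List A6 := [1, zA, bA, zA * bA]
/-- A Sylow 2-subgroup. -/
def eight : List A6 := fourOne ++ [bA, zA * bA, aA * bA, zA * (aA * bA)]

theorem eight_mul : ∀ u ∈ eight, ∀ v ∈ eight, u * v ∈ eight := by decide +kernel

theorem eight_inv : ∀ u ∈ eight, u⁻¹ ∈ eight := by decide +kernel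

theorem eight_length : eight.length = 8 ∧ eight.Nodup := by decide +kernel

/-- The Sylow 2-subgroup. -/
def eightGroup : Subgroup A6 where
  carrier := {u | u ∈ eight}
  one_mem' := by decide +kernel
  mul_mem' := fun hu hv => eight_mul _ hu _ hv
  inv_mem' := fun hu => eight_inv _ hu

theorem card_eightGroup : Nat.card eightGroup = 8 := by
  rw [← eight_length.1, ← List.toFinset_card_of_nodup eight_length.2, ← Nat.card_eq_finsetCard]
  exact Nat.card_congr (Equiv.subtypeEquivRight fun u => by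
    show u ∈ eight ↔ u ∈ eight.toFinset
    rw [List.mem_toFinset])

set_option maxRecDepth 20000 in
set_option synthInstance.maxSize 4000 in
theorem eight_facts : (∀ u ∈ eight, u * u = 1 ∨ u * u = zA) ∧
    ((zA * aA) * (bA * aA) ∈ eight ∧ (aA * bA) * (aA * bA) = zA ∧ zA ≠ 1) ∧
    (∀ A ∈ eight, A * A = 1 → A ≠ 1 → A ≠ zA → A ∉ fourOne → A = bA ∨ A = zA * bA) ∧
    (∀ u ∈ fourOne, u ≠ 1 → u ≠ zA → ∀ v ∈ fourOne, v = 1 ∨ v = zA ∨ v = u ∨ v = zA * u) ∧
    (∀ u ∈ fourTwo, u ≠ 1 → u ≠ zA → ∀ v ∈ fourTwo, v = 1 ∨ v = zA ∨ v = u ∨ v = zA * u) ∧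
    (∀ u ∈ eight, u * u = 1 → u = 1 ∨ u = zA ∨ u ∈ fourOne ∨ u ∈ fourTwo) ∧
    (∀ A ∈ [bA, zA * bA], ∀ w ∈ [1, zA], ((A * w * aA) * (A * w * aA) : A6) ≠ 1) ∧
    (aA ∈ eight ∧ zA ∈ eight ∧ aA ≠ 1 ∧ aA ≠ zA ∧ aA * aA = 1 ∧ aA ∈ fourOne) := by
  decide +kernel

set_option maxRecDepth 20000 in
set_option synthInstance.maxSize 4000 in
theorem four_closed : (∀ u ∈ fourOne, zA * u ∈ fourOne) ∧ (∀ u ∈ fourTwo, zA * u ∈ fourTwo) ∧
    (∀ u ∈ fourOne, u ∈ eight) ∧ (∀ u ∈ fourTwo, u ∈ eight) := by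
  decide +kernel

/-- The three cycle normalizing the first four-group. -/
def cA : A6 := ⟨swap 0 1 * swap 1 2, Equiv.Perm.mem_alternatingGroup.mpr (by decide +kernel)⟩
/-- The element of order three normalizing the second four-group. -/
def dA : A6 := ⟨(swap 0 2 * swap 2 4) * (swap 1 3 * swap 3 5), Equiv.Perm.mem_alternatingGroup.mpr (by decide +kernel)⟩

set_option maxRecDepth 20000 in
theorem norm_facts : orderOf cA = 3 ∧ orderOf dA = 3 ∧ (∀ u ∈ fourOne, cA * u * cA⁻¹ ∈ fourOne) ∧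
    (∀ u ∈ fourTwo, dA * u * dA⁻¹ ∈ fourTwo) := by
  refine ⟨orderOf_eq_prime (by decide +kernel) (by decide +kernel),
    orderOf_eq_prime (by decide +kernel) (by decide +kernel), ?_, ?_⟩ <;> decide +kernel

set_option maxRecDepth 20000 in
theorem class_one : ∀ x : A6, x * x * x = 1 → x ≠ 1 → x * aA * x⁻¹ ∈ fourOne → x * zA * x⁻¹ ∈ fourOne →
    ∃ m : A6, m * x * m⁻¹ = cA := by
  decide +kernel

set_option maxRecDepth 20000 in
theorem class_two : ∀ x : A6, x * x * x = 1 → x ≠ 1 → x * bA * x⁻¹ ∈ fourTwo → x * zA * x⁻¹ ∈ fourTwo →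
    ∃ m : A6, m * x * m⁻¹ = dA := by
  decide +kernel

/-- An automorphism fixing `zA` and moving no class of elements of order three moves both four-groups. -/
theorem moves_four (φ : A6 ≃* A6) (hno : ∀ c : A6, orderOf c = 3 → ∀ m : A6, m * φ c * m⁻¹ ≠ c)
    (hz : φ zA = zA) :
    (∀ u ∈ fourOne, u ≠ 1 → u ≠ zA → φ u ∉ fourOne) ∧ (∀ u ∈ fourTwo, u ≠ 1 → u ≠ zA → φ u ∉ fourTwo) := by
  obtain ⟨-, -, -, h1, h2, -, -, -⟩ := eight_facts
  obtain ⟨hc1, hd1, hcn, hdn⟩ := norm_facts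
  obtain ⟨hq1, hq2, -, -⟩ := four_closed
  have hcz : zA ∈ fourOne ∧ zA ∈ fourTwo ∧ (1 : A6) ∈ fourOne ∧ (1 : A6) ∈ fourTwo ∧ aA ∈ fourOne ∧
      bA ∈ fourTwo := by decide +kernel
  constructor
  · intro u hu hu1 huz hφ
    have hall : ∀ v ∈ fourOne, φ v ∈ fourOne := by
      intro v hv
      rcases h1 u hu hu1 huz v hv with rfl | rfl | rfl | rfl
      · rw [map_one]; exact hcz.2.2.1
      · rw [hz]; exact hcz.1
      · exact hφ
      · rw [map_mul, hz]; exact hq1 _ hφ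
    have hsurj : ∀ v ∈ fourOne, ∃ v' ∈ fourOne, φ v' = v := by
      have hinj : Function.Injective (fun v : {x // x ∈ fourOne} => (⟨φ v, hall v v.2⟩ : {x // x ∈ fourOne})) :=
        fun v v' e => Subtype.ext (φ.injective (congrArg Subtype.val e))
      intro v hv
      obtain ⟨⟨v', hv'⟩, e⟩ := Finite.surjective_of_injective hinj ⟨v, hv⟩
      exact ⟨v', hv', congrArg Subtype.val e⟩
    have hn : ∀ v ∈ fourOne, φ cA * v * (φ cA)⁻¹ ∈ fourOne := by
      intro v hv
      obtain ⟨v', hv', rfl⟩ := hsurj v hv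
      rw [← map_inv, ← map_mul, ← map_mul]
      exact hall _ (hcn v' hv')
    have h3 : orderOf (φ cA) = 3 := by rw [MulEquiv.orderOf_eq, hc1]
    obtain ⟨m, hm⟩ := class_one (φ cA)
      (by have := pow_orderOf_eq_one (φ cA); rwa [h3, pow_succ, pow_succ, pow_one] at this)
      (fun e => by rw [e, orderOf_one] at h3; omega) (hn _ hcz.2.2.2.2.1) (hn _ hcz.1)
    exact hno cA hc1 m hm
  · intro u hu hu1 huz hφ
    have hall : ∀ v ∈ fourTwo, φ v ∈ fourTwo := by
      intro v hv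
      rcases h2 u hu hu1 huz v hv with rfl | rfl | rfl | rfl
      · rw [map_one]; exact hcz.2.2.2.1
      · rw [hz]; exact hcz.2.1
      · exact hφ
      · rw [map_mul, hz]; exact hq2 _ hφ
    have hsurj : ∀ v ∈ fourTwo, ∃ v' ∈ fourTwo, φ v' = v := by
      have hinj : Function.Injective (fun v : {x // x ∈ fourTwo} => (⟨φ v, hall v v.2⟩ : {x // x ∈ fourTwo})) :=
        fun v v' e => Subtype.ext (φ.injective (congrArg Subtype.val e))
      intro v hv
      obtain ⟨⟨v', hv'⟩, e⟩ := Finite.surjective_of_injective hinj ⟨v, hv⟩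
      exact ⟨v', hv', congrArg Subtype.val e⟩
    have hn : ∀ v ∈ fourTwo, φ dA * v * (φ dA)⁻¹ ∈ fourTwo := by
      intro v hv
      obtain ⟨v', hv', rfl⟩ := hsurj v hv
      rw [← map_inv, ← map_mul, ← map_mul]
      exact hall _ (hdn v' hv')
    have h3 : orderOf (φ dA) = 3 := by rw [MulEquiv.orderOf_eq, hd1]
    obtain ⟨m, hm⟩ := class_two (φ dA)
      (by have := pow_orderOf_eq_one (φ dA); rwa [h3, pow_succ, pow_succ, pow_one] at this)
      (fun e => by rw [e, orderOf_one] at h3; omega) (hn _ hcz.2.2.2.2.2) (hn _ hcz.2.1)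
    exact hno dA hd1 m hm

variable {Q : Type*} [Group Q] [Finite Q]

/-- A 2-element outside a normal `A₆` that normalizes a Sylow 2-subgroup of it and squares into it
gives an element of order eight. -/
theorem Small.outer_false (h : Small Q) (M : Subgroup Q) [hM : M.Normal] (e : ↥M ≃* A6) (y : Q)
    (hyM : y ∉ M) (hy2 : ∃ k, orderOf y = 2 ^ k) (hysq : y * y ∈ M)
    (hsqD : e ⟨y * y, hysq⟩ ∈ eight)
    (hyD : ∀ u : A6, u ∈ eight → e ⟨y * (e.symm u : Q) * y⁻¹, hM.conj_mem _ (e.symm u).2 y⟩ ∈ eight) : False := by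
  haveI := Fact.mk Nat.prime_three
  let φ : A6 ≃* A6 := e.symm.trans ((MulAut.conjNormal (H := M) y).trans e)
  have hφ : ∀ u : A6, φ u = e ⟨y * (e.symm u : Q) * y⁻¹, hM.conj_mem _ (e.symm u).2 y⟩ := fun u => rfl
  have hno : ∀ c : A6, orderOf c = 3 → ∀ m : A6, m * φ c * m⁻¹ ≠ c := by
    intro c hc m hm
    set g : Q := (e.symm m : Q) * y with hg
    have hgc : g * (e.symm c : Q) = (e.symm c : Q) * g := by
      have h1 := congrArg (fun t : A6 => ((e.symm t : ↥M) : Q)) hm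
      simp only [map_mul, map_inv, hφ, e.symm_apply_apply, coe_mul, coe_inv] at h1
      calc g * (e.symm c : Q) = (e.symm m : Q) * (y * (e.symm c : Q) * y⁻¹) * (e.symm m : Q)⁻¹ * g := by
            rw [hg]; group
        _ = (e.symm c : Q) * g := by rw [h1]
    have hc3 : orderOf (e.symm c : Q) = 3 := by rw [Subgroup.orderOf_coe, MulEquiv.orderOf_eq, hc]
    obtain ⟨j, hj⟩ := h.isPGroup_centralizer (p := 3) (x := (e.symm c : Q)) (k := 1)
      (by rw [pow_one, ← hc3, pow_orderOf_eq_one]) (fun e1 => by rw [e1, orderOf_one] at hc3; omega)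
      ⟨g, mem_centralizer_singleton_iff.mpr hgc⟩
    have hj' : g ^ 3 ^ j = 1 := congrArg Subtype.val hj
    refine hyM ?_
    have hmem : (g : Q ⧸ M) = (y : Q ⧸ M) := by
      rw [hg, QuotientGroup.mk_mul, (QuotientGroup.eq_one_iff _).mpr (e.symm m).2, one_mul]
    have h1 : orderOf (y : Q ⧸ M) ∣ 3 ^ j := by
      rw [← hmem]; exact orderOf_dvd_of_pow_eq_one (by rw [← QuotientGroup.mk_pow, hj', QuotientGroup.mk_one])
    have h2 : orderOf (y : Q ⧸ M) ∣ 2 := orderOf_dvd_of_pow_eq_one (by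
      rw [sq, ← QuotientGroup.mk_mul]; exact (QuotientGroup.eq_one_iff _).mpr hysq)
    exact (QuotientGroup.eq_one_iff _).mp (orderOf_eq_one_iff.mp
      (Nat.eq_one_of_dvd_coprimes (Nat.Coprime.pow_left j (by norm_num)) h1 h2))
  obtain ⟨f1, ⟨-, f2, hz1⟩, f3, -, -, f6, f7, ⟨haE, hzE, ha1, haz, haa, ha4⟩⟩ := eight_facts
  obtain ⟨-, -, hsub1, hsub2⟩ := four_closed
  have hφE : ∀ u ∈ eight, φ u ∈ eight := fun u hu => by rw [hφ]; exact hyD u hu
  have hz : φ zA = zA := by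
    rw [← f2, map_mul]
    rcases f1 _ (hφE _ (by decide +kernel : aA * bA ∈ eight)) with e1 | e1
    · exfalso
      rw [← map_mul, f2, ← map_one φ] at e1
      exact hz1 (φ.injective e1)
    · rw [e1, f2]
  obtain ⟨hm1, hm2⟩ := moves_four φ hno hz
  have hA := f3 (φ aA) (hφE _ haE) (by rw [← map_mul, haa, map_one])
    (fun e1 => ha1 (φ.injective (e1.trans (map_one φ).symm)))
    (fun e1 => haz (φ.injective (e1.trans hz.symm))) (hm1 aA ha4 ha1 haz)
  set w : A6 := e ⟨y * y, hysq⟩ with hw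
  have hw1 : w * w = 1 := by
    obtain ⟨k, hk⟩ := hy2
    have h5 := h y
    rw [hk] at h5
    have hk2 : k ≤ 2 := by
      by_contra hc
      have : 2 ^ 3 ≤ 2 ^ k := Nat.pow_le_pow_right (by norm_num) (by omega)
      omega
    have h4 : y ^ 4 = 1 := orderOf_dvd_iff_pow_eq_one.mp (hk ▸ (pow_dvd_pow 2 hk2 : 2 ^ k ∣ 2 ^ 2))
    rw [hw, ← map_mul, ← map_one e]
    refine congrArg e (Subtype.ext ?_)
    rw [coe_mul, coe_one, ← h4]
    simp [pow_succ, mul_assoc]
  have hφw : φ w = w := by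
    rw [hφ, hw]
    refine congrArg e (Subtype.ext ?_)
    rw [e.symm_apply_apply]
    show y * (y * y) * y⁻¹ = y * y
    group
  have hw' : w = 1 ∨ w = zA := by
    by_contra hcon
    push Not at hcon
    rcases f6 w hsqD hw1 with r | r | r | r
    · exact hcon.1 r
    · exact hcon.2 r
    · exact hm1 w r hcon.1 hcon.2 (by rw [hφw]; exact r)
    · exact hm2 w r hcon.1 hcon.2 (by rw [hφw]; exact r)
  have hne : (φ aA * w * aA) * (φ aA * w * aA) ≠ 1 := by
    refine f7 (φ aA) ?_ w ?_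
    · rcases hA with e1 | e1 <;> rw [e1] <;> simp
    · rcases hw' with e1 | e1 <;> rw [e1] <;> simp
  set v : Q := y * (e.symm aA : Q) with hv
  have hv2 : v * v = ((e.symm (φ aA * w * aA) : ↥M) : Q) := by
    rw [map_mul, map_mul, hφ, hw, e.symm_apply_apply, e.symm_apply_apply, coe_mul, coe_mul, hv]
    group
  have hmem : φ aA * w * aA ∈ eightGroup :=
    mul_mem (mul_mem (show φ aA ∈ eightGroup from hφE _ haE) (show w ∈ eightGroup from hsqD))
      (show aA ∈ eightGroup from haE)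
  have h4 : v ^ 4 ≠ 1 := fun e1 => hne (by
    apply e.symm.injective
    apply Subtype.ext
    rw [map_mul, map_one, coe_mul, coe_one, ← hv2, ← e1]
    simp [pow_succ, mul_assoc])
  have h8 : v ^ 8 = 1 := by
    obtain ⟨k, hk⟩ := (IsPGroup.of_card (G := eightGroup) (n := 3) (by rw [card_eightGroup]; rfl) :
      IsPGroup 2 eightGroup) ⟨_, hmem⟩
    have h4' : (φ aA * w * aA) ^ 4 = 1 := by
      rcases f1 _ hmem with e1 | e1
      · exact absurd e1 hne
      · rw [show (4 : ℕ) = 2 + 2 from rfl, pow_add, sq, e1]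
        decide +kernel
    have := congrArg (fun t : A6 => ((e.symm t : ↥M) : Q)) h4'
    simp only [map_pow, map_one, SubmonoidClass.coe_pow, coe_one, ← hv2] at this
    rw [show (8 : ℕ) = 2 * 4 from rfl, pow_mul, sq]
    exact this
  have := orderOf_eq_prime_pow (x := v) (p := 2) (n := 2) (by norm_num; exact h4) (by norm_num; exact h8)
  have := h v
  omega

end CfsgLib.SixSpectrum
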