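import Mathlib

/-!
# Arithmetic for groups with element orders at most five
-/

set_option autoImplicit false

namespace CfsgLib.SixSpectrum

/-- A degree congruent to a coefficient of modulus at most 2. -/
theorem exists_four_pow {n i : ℕ} (hn : Odd n) (hn1 : 1 < n) {c : ℤ} (hc0 : c ≠ 0) (hc : c ^ 2 ≤ 8)
    {k : ℕ} (hk : 1 ≤ k) (hi : 1 ≤ i) (h : ((2 ^ i : ℕ) : ℤ) = c + k * n) :
    ∃ j, 1 ≤ j ∧ j ≤ i ∧ n ∣ 4 ^ j - 1 := by
  have hc2 : c = 1 ∨ c = -1 ∨ c = 2 ∨ c = -2 := by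
    have h1 : c ≤ 2 := by nlinarith
    have h2 : -2 ≤ c := by nlinarith
    omega
  have hn3 : 3 ≤ n := by
    obtain ⟨m, rfl⟩ := hn
    omega
  have hkn : (3 : ℤ) ≤ (k : ℤ) * n := by
    have h1 : (3 : ℤ) ≤ n := by exact_mod_cast hn3
    have h2 : (1 : ℤ) ≤ k := by exact_mod_cast hk
    nlinarith
  have key : ∀ j : ℕ, (n : ℤ) ∣ (2 : ℤ) ^ j - 1 ∨ (n : ℤ) ∣ (2 : ℤ) ^ j + 1 → n ∣ 4 ^ j - 1 := by
    intro j hj
    have h4 : (n : ℤ) ∣ (4 : ℤ) ^ j - 1 := by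
      have e : (4 : ℤ) ^ j - 1 = ((2 : ℤ) ^ j - 1) * ((2 : ℤ) ^ j + 1) := by
        rw [show (4 : ℤ) = 2 * 2 from rfl, mul_pow]; ring
      rw [e]
      rcases hj with h | h
      · exact dvd_mul_of_dvd_left h _
      · exact dvd_mul_of_dvd_right h _
    rw [← Int.natCast_dvd_natCast, Nat.cast_sub (Nat.one_le_pow _ _ (by norm_num))]
    · exact_mod_cast h4
  push_cast at h
  rcases hc2 with rfl | rfl | rfl | rfl
  · exact ⟨i, hi, le_rfl, key i (Or.inl ⟨k, by rw [h]; ring⟩)⟩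
  · exact ⟨i, hi, le_rfl, key i (Or.inr ⟨k, by rw [h]; ring⟩)⟩
  all_goals
    have hi : 2 ≤ i := by
      by_contra hlt
      have e1 : i = 1 := by omega
      subst e1
      rw [pow_one] at h
      have h4 : k * n = 0 ∨ k * n = 4 := by
        first
          | (left; have : ((k * n : ℕ) : ℤ) = 0 := by push_cast; linarith
             exact_mod_cast this)
          | (right; have : ((k * n : ℕ) : ℤ) = 4 := by push_cast; linarith
             exact_mod_cast this)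
      rcases h4 with h4 | h4
      · rcases mul_eq_zero.mp h4 with h5 | h5 <;> omega
      · have hd : n ∣ 4 := ⟨k, by rw [mul_comm]; exact h4.symm⟩
        have hle := Nat.le_of_dvd (by norm_num) hd
        obtain ⟨m, rfl⟩ := hn
        have hm : m ≤ 1 := by omega
        interval_cases m <;> omega
    obtain ⟨j, rfl⟩ : ∃ j, i = j + 1 := ⟨i - 1, by omega⟩
    have hcop : IsCoprime (n : ℤ) 2 := by
      rw [Int.isCoprime_iff_nat_coprime]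
      simpa using hn.coprime_two_right
    refine ⟨j, by omega, by omega, key j ?_⟩
    first
      | exact Or.inl (hcop.dvd_of_dvd_mul_left ⟨k, by rw [pow_succ] at h; linarith⟩)
      | exact Or.inr (hcop.dvd_of_dvd_mul_left ⟨k, by rw [pow_succ] at h; linarith⟩)

theorem three_adic {a j : ℕ} (hj : 1 ≤ j) (h : 3 ^ a ∣ 4 ^ j - 1) : 3 ^ (a - 1) ≤ j := by
  haveI := Fact.mk Nat.prime_three
  have h1 : padicValNat 3 (4 ^ j - 1 ^ j) = padicValNat 3 (4 - 1) + padicValNat 3 j :=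
    padicValNat.pow_sub_pow (by decide) (by norm_num) (by norm_num) (by norm_num) (by omega)
  rw [one_pow] at h1
  have hne : (4 : ℕ) ^ j - 1 ≠ 0 := by
    have : 4 ≤ 4 ^ j := Nat.le_self_pow (by omega) 4
    omega
  have ha : a ≤ padicValNat 3 (4 ^ j - 1) := (padicValNat_dvd_iff_le hne).mp h
  have h3 : padicValNat 3 (4 - 1) = 1 := by
    rw [show (4 : ℕ) - 1 = 3 from rfl]; exact padicValNat_self
  have hdvd : 3 ^ (a - 1) ∣ j := (padicValNat_dvd_iff_le (by omega)).mpr (by omega)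
  exact Nat.le_of_dvd (by omega) hdvd

theorem five_adic {b j : ℕ} (hb : 1 ≤ b) (hj : 1 ≤ j) (h : 5 ^ b ∣ 4 ^ j - 1) : 2 * 5 ^ (b - 1) ≤ j := by
  haveI : Fact (Nat.Prime 5) := ⟨by norm_num⟩
  have h5 : 5 ∣ 4 ^ j - 1 := (dvd_pow_self 5 (by omega)).trans h
  rcases Nat.even_or_odd j with ⟨l, rfl⟩ | ⟨l, rfl⟩
  · have hl : 1 ≤ l := by omega
    have e : 4 ^ (l + l) - 1 = 16 ^ l - 1 ^ l := by
      rw [← two_mul, pow_mul, one_pow]; norm_num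
    have h1 : padicValNat 5 (16 ^ l - 1 ^ l) = padicValNat 5 (16 - 1) + padicValNat 5 l :=
      padicValNat.pow_sub_pow (by decide) (by norm_num) (by norm_num) (by norm_num) (by omega)
    have hne : (4 : ℕ) ^ (l + l) - 1 ≠ 0 := by
      have : 4 ≤ 4 ^ (l + l) := Nat.le_self_pow (by omega) 4
      omega
    have hbv : b ≤ padicValNat 5 (4 ^ (l + l) - 1) := (padicValNat_dvd_iff_le hne).mp h
    have h15 : padicValNat 5 (16 - 1) = 1 := by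
      rw [show (16 : ℕ) - 1 = 5 * 3 from rfl, padicValNat.mul (by norm_num) (by norm_num), padicValNat_self,
        padicValNat.eq_zero_of_not_dvd (by norm_num)]
    rw [e, h1] at hbv
    have hdvd : 5 ^ (b - 1) ∣ l := (padicValNat_dvd_iff_le (by omega)).mpr (by omega)
    have := Nat.le_of_dvd (by omega) hdvd
    omega
  · exfalso
    have e : 4 ^ (2 * l + 1) % 5 = 4 := by
      rw [pow_succ, pow_mul, Nat.mul_mod, Nat.pow_mod]; norm_num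
    have h1 : 1 ≤ 4 ^ (2 * l + 1) := Nat.one_le_pow _ _ (by norm_num)
    generalize 4 ^ (2 * l + 1) = w at h5 e h1
    omega

theorem five_mul_add_lt {a : ℕ} (ha : 4 ≤ a) : 5 * a + 5 < 3 ^ (a - 1) := by
  induction a, ha using Nat.le_induction with
  | base => norm_num
  | succ a ha ih =>
    have : 3 ^ (a + 1 - 1) = 3 * 3 ^ (a - 1) := by
      rw [show a + 1 - 1 = (a - 1) + 1 by omega, pow_succ, mul_comm]
    omega

theorem seven_mul_add_lt {b : ℕ} (hb : 3 ≤ b) : 7 * b + 7 < 2 * 5 ^ (b - 1) := by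
  induction b, hb using Nat.le_induction with
  | base => norm_num
  | succ b hb ih =>
    have : 5 ^ (b + 1 - 1) = 5 * 5 ^ (b - 1) := by
      rw [show b + 1 - 1 = (b - 1) + 1 by omega, pow_succ, mul_comm]
    omega

theorem le_of_two_pow_lt {c m : ℕ} (h : 2 ^ c < 2 ^ (m + 1)) : c ≤ m := by
  have := (Nat.pow_lt_pow_iff_right (by norm_num : 1 < 2)).mp h
  omega

/-- Real prime five: the exponent of two. -/
theorem bound_five {a b c : ℕ} (ha : 1 ≤ a) (hb : 1 ≤ b)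
    (h : 2 ^ c ≤ 146 * 3 ^ a ∨ 2 ^ c * (5 ^ b - 1) ^ 4 ≤ 1024 * 5 ^ b * (3 ^ a) ^ 3) : c ≤ 5 * a + 4 := by
  apply le_of_two_pow_lt
  have h32 : (3 ^ a) ^ 3 ≤ 2 ^ (5 * a) := by
    rw [← pow_mul, mul_comm a 3, pow_mul, pow_mul]
    exact Nat.pow_le_pow_left (by norm_num) a
  have h3 : 3 ^ a ≤ 2 ^ (5 * a) := by
    rw [pow_mul]; exact Nat.pow_le_pow_left (by norm_num) a
  have hpow : 2 ^ (5 * a + 4 + 1) = 32 * 2 ^ (5 * a) := by ring
  rw [hpow]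
  have hpos : 0 < 2 ^ (5 * a) := by positivity
  rcases h with h | h
  · have h10 : 10 * 3 ^ a ≤ 2 ^ (5 * a) := by
      obtain ⟨k, rfl⟩ : ∃ k, a = k + 1 := ⟨a - 1, by omega⟩
      have : 3 ^ k ≤ 2 ^ (5 * k) := by rw [pow_mul]; exact Nat.pow_le_pow_left (by norm_num) k
      have e1 : 2 ^ (5 * (k + 1)) = 32 * 2 ^ (5 * k) := by ring
      have e2 : 3 ^ (k + 1) = 3 * 3 ^ k := by ring
      omega
    omega
  · have hq5 : 5 ≤ 5 ^ b := Nat.le_self_pow (by omega) 5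
    have hq : 4 * 5 ^ b ≤ 5 * (5 ^ b - 1) := by omega
    have hq4 : 4 ≤ 5 ^ b - 1 := by omega
    -- `1024 n ≤ 20 (n - 1) ^ 4`
    have hkey : 1024 * 5 ^ b ≤ 20 * (5 ^ b - 1) ^ 4 := by
      have h1 : 64 * (5 ^ b - 1) ≤ (5 ^ b - 1) ^ 4 := by
        have : 4 ^ 3 ≤ (5 ^ b - 1) ^ 3 := Nat.pow_le_pow_left hq4 3
        calc 64 * (5 ^ b - 1) ≤ (5 ^ b - 1) ^ 3 * (5 ^ b - 1) := Nat.mul_le_mul_right _ this
          _ = _ := by ring
      nlinarith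
    have h2 : 2 ^ c * (5 ^ b - 1) ^ 4 ≤ (20 * 2 ^ (5 * a)) * (5 ^ b - 1) ^ 4 := by
      calc _ ≤ 1024 * 5 ^ b * (3 ^ a) ^ 3 := h
        _ ≤ 20 * (5 ^ b - 1) ^ 4 * 2 ^ (5 * a) := Nat.mul_le_mul hkey h32
        _ = _ := by ring
    have := Nat.le_of_mul_le_mul_right h2 (by positivity)
    nlinarith

/-- Real prime three: the exponent of two. -/
theorem bound_three {a b c : ℕ} (ha : 2 ≤ a)
    (h : 2 ^ c ≤ 146 * 5 ^ b ∨ 2 ^ c * (3 ^ a - 1) ^ 4 ≤ 1024 * 3 ^ a * (5 ^ b) ^ 3) :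
    2 ^ c ≤ 146 * 5 ^ b ∨ 2 ^ c ≤ 3 * (5 ^ b) ^ 3 := by
  refine h.imp_right fun h => ?_
  have hq : 8 ≤ 3 ^ a - 1 := by
    have : 3 ^ 2 ≤ 3 ^ a := Nat.pow_le_pow_right (by norm_num) ha
    omega
  have hkey : 1024 * 3 ^ a ≤ 3 * (3 ^ a - 1) ^ 4 := by
    have h1 : 512 * (3 ^ a - 1) ≤ (3 ^ a - 1) ^ 4 := by
      have : 8 ^ 3 ≤ (3 ^ a - 1) ^ 3 := Nat.pow_le_pow_left hq 3
      calc 512 * (3 ^ a - 1) ≤ (3 ^ a - 1) ^ 3 * (3 ^ a - 1) := Nat.mul_le_mul_right _ this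
        _ = _ := by ring
    omega
  refine Nat.le_of_mul_le_mul_right (c := (3 ^ a - 1) ^ 4) ?_ (by positivity)
  calc _ ≤ 1024 * 3 ^ a * (5 ^ b) ^ 3 := h
    _ ≤ 3 * (3 ^ a - 1) ^ 4 * (5 ^ b) ^ 3 := Nat.mul_le_mul_right _ hkey
    _ = _ := by ring

theorem bound_three_big {b c : ℕ} (h : 2 ^ c ≤ 146 * 5 ^ b ∨ 2 ^ c ≤ 3 * (5 ^ b) ^ 3) : c ≤ 7 * b + 7 := by
  apply le_of_two_pow_lt
  have h1 : (5 ^ b) ^ 3 ≤ 2 ^ (7 * b) := by
    rw [← pow_mul, mul_comm b 3, pow_mul, pow_mul]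
    exact Nat.pow_le_pow_left (by norm_num) b
  have h2 : 5 ^ b ≤ 2 ^ (7 * b) := by
    rw [pow_mul]; exact Nat.pow_le_pow_left (by norm_num) b
  have hpow : 2 ^ (7 * b + 7 + 1) = 256 * 2 ^ (7 * b) := by ring
  rw [hpow]
  have hpos : 0 < 2 ^ (7 * b) := by positivity
  omega

/-- The exponent of two when `|P| = 9` and `|Q| ≤ 25`. -/
theorem bound_nine {b c : ℕ} (hb1 : 1 ≤ b) (hb : b ≤ 2)
    (h : (2 ^ c ≤ 146 * 3 ^ 2 ∨ 2 ^ c * (5 ^ b - 1) ^ 4 ≤ 1024 * 5 ^ b * (3 ^ 2) ^ 3) ∨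
      (2 ^ c ≤ 146 * 5 ^ b ∨ 2 ^ c * (3 ^ 2 - 1) ^ 4 ≤ 1024 * 3 ^ 2 * (5 ^ b) ^ 3)) : c ≤ 15 := by
  apply le_of_two_pow_lt
  interval_cases b <;> norm_num at h ⊢ <;> omega

/-- Members of a coherent family have degree prime to `p`. -/
theorem member_not_dvd {p a e M : ℕ} (hp : p = 3 ∨ p = 5) (ha : 1 ≤ a) (hel : e = 2 ∨ e = 4 ∨ e = 8 ∨ (p = 3 ∧ e = 5) ∨ (p = 5 ∧ e = 3))
    (hM : e * M + 1 = p ^ a) (hM2 : 2 ≤ M) {x b : ℤ} (hb : b = x ∨ b = 1 + x) (hb0 : b ≠ 0)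
    (hbes : x ^ 2 + ((M : ℤ) - 1) * (1 + x) ^ 2 ≤ e) : ¬ (p : ℤ) ∣ (e : ℤ) + 1 + x := by
  intro hd
  have hpa : p ∣ p ^ a := dvd_pow_self p (by omega)
  rw [← hM] at hpa
  have hM1 : (1 : ℤ) ≤ (M : ℤ) - 1 := by omega
  have he8 : e ≤ 8 := by omega
  by_cases hx : x = -1
  · subst hx
    have : p ∣ e := by
      have : (p : ℤ) ∣ (e : ℤ) := by simpa using hd
      exact_mod_cast this
    have h1 := (Nat.dvd_add_right (dvd_mul_of_dvd_left this M)).mp hpa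
    rcases hp with rfl | rfl <;> simp at h1
  have hsq : (1 : ℤ) ≤ (1 + x) ^ 2 := by
    have : 0 < (1 + x) ^ 2 := by
      have : (1 + x) ≠ 0 := fun h => hx (by linarith)
      positivity
    omega
  have hx3 : -3 ≤ x ∧ x ≤ 2 := ⟨by nlinarith, by nlinarith⟩
  have hMle : M ≤ 9 := by
    have : (M : ℤ) ≤ 9 := by nlinarith
    omega
  have ha4 : a ≤ 4 := by
    by_contra hc
    have h1 : p ^ 5 ≤ p ^ a := Nat.pow_le_pow_right (by omega) (by omega)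
    have h2 : e * M ≤ 8 * 9 := Nat.mul_le_mul he8 hMle
    rcases hp with rfl | rfl <;> omega
  obtain ⟨hx3a, hx3b⟩ := hx3
  rcases hp with rfl | rfl <;> interval_cases a <;>
    rcases hel with rfl | rfl | rfl | ⟨hp', rfl⟩ | ⟨hp', rfl⟩ <;> (try norm_num at hp') <;>
    (interval_cases x <;> first | omega | (norm_num at hd hbes hb hb0 ⊢ <;> omega))

/-- Sylow counts in the case `|P| = 9`, `[N(P) : P] = 8`. -/
theorem survivor {b c e5 : ℕ} (hb1 : 1 ≤ b) (hb : b ≤ 2) (hc : c ≤ 15) (hc3 : 3 ≤ c)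
    (he : e5 = 2 ∨ e5 = 4 ∨ e5 = 8 ∨ e5 = 3) (hdiv : e5 ∣ 5 ^ b - 1)
    (h3 : (2 ^ (c - 3) * 5 ^ b) % 9 = 1) {n5 : ℕ} (hn5 : n5 * (5 ^ b * e5) = 2 ^ c * 9 * 5 ^ b)
    (h5 : n5 % 5 ^ b = 1) : b = 1 ∧ c = 4 := by
  interval_cases b <;> interval_cases c <;> norm_num at h3 <;>
    rcases he with rfl | rfl | rfl | rfl <;> first | omega | (norm_num at hdiv) | (norm_num at hn5 h5 ⊢; omega)

end CfsgLib.SixSpectrum
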