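import Mathlib
import Cfsg.Agent.S1533
import Cfsg.Agent.Lib.Char.TI
import Cfsg.Agent.Lib.Char.FrobeniusKernel
import Cfsg.Agent.Lib.Transfer.PairProducts.Elementary

/-!
# A self-centralizing TI subgroup and the characters of its normalizer

`Ctx` records a subgroup `P` of order `n` with `[N(P) : P] = e`, a relevant character `θ` of degree `e`
and the class function `al = e·1_P − θ`.
-/

set_option autoImplicit false

namespace CfsgLib.SixSpectrum

open CfsgLib.Char
open scoped ComplexConjugate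

universe u

variable {G : Type u} [Group G] [Fintype G]

/-- The normalizer. -/
abbrev nrm (P : Subgroup G) : Subgroup G := Subgroup.normalizer (P : Set G)

/-- The subgroup inside its normalizer. -/
abbrev ker (P : Subgroup G) : Subgroup (nrm P) := P.subgroupOf (nrm P)

variable {P : Subgroup G} [Fintype (nrm P)] {n e : ℕ}

open Classical in
/-- The relevant characters. -/
noncomputable def rel (P : Subgroup G) [Fintype (nrm P)] : Finset (Cfsg.IrrCharacter (nrm P)) :=
  Finset.univ.filter fun χ => IsRelevant (ker P) (χ : nrm P → ℂ)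

theorem mem_rel {χ : Cfsg.IrrCharacter (nrm P)} : χ ∈ rel P ↔ IsRelevant (ker P) (χ : nrm P → ℂ) := by
  simp [rel]

/-- The setting. -/
structure Ctx (P : Subgroup G) [Fintype (nrm P)] (n e : ℕ) where
  ne_bot : P ≠ ⊥
  ti : ∀ g : G, g ∉ nrm P → ∀ t ∈ (P : Set G), g * t * g⁻¹ ∈ (P : Set G) → t = 1
  cent : ∀ k ∈ ker P, k ≠ 1 → Subgroup.centralizer ({k} : Set (nrm P)) ≤ ker P
  card_ker : Nat.card (ker P) = n
  index_ker : (ker P).index = e
  dg : Cfsg.IrrCharacter (nrm P) → ℕ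
  dg_spec : ∀ χ ∈ rel P, 0 < dg χ ∧ dg χ ∣ n ∧ (χ : nrm P → ℂ) 1 = ((e * dg χ : ℕ) : ℂ)
  θ : Cfsg.IrrCharacter (nrm P)
  θ_mem : θ ∈ rel P
  θ_dg : dg θ = 1

theorem Ctx.exists_of_sylow {p : ℕ} [Fact p.Prime] (hP : IsPGroup p P) (hP1 : P ≠ ⊥)
    (hTI : Cfsg.IsTISubset (P : Set G))
    (hC : ∀ k ∈ P, k ≠ 1 → Subgroup.centralizer ({k} : Set G) ≤ P)
    (hn : Nat.card P = n) (he : (ker P).index = e) : Nonempty (Ctx P n e) := by
  classical
  haveI : (ker P).Normal := Subgroup.normal_in_normalizer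
  haveI := Fintype.ofFinite (ker P)
  have hPN : P ≤ nrm P := Subgroup.le_normalizer
  have hKc : Nat.card (ker P) = n := by
    rw [← hn]; exact Nat.card_congr (Subgroup.subgroupOfEquivOfLe hPN).toEquiv
  have hCK : ∀ k ∈ ker P, k ≠ 1 → Subgroup.centralizer ({k} : Set (nrm P)) ≤ ker P := by
    intro k hk hk1 y hy
    refine Subgroup.mem_subgroupOf.mpr (hC _ (Subgroup.mem_subgroupOf.mp hk) (fun h => hk1 (Subtype.ext h))
      (Subgroup.mem_centralizer_singleton_iff.mpr ?_))
    exact congrArg Subtype.val (Subgroup.mem_centralizer_singleton_iff.mp hy)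
  have hdeg0 : ∀ χ : Cfsg.IrrCharacter (nrm P), ∃ d : ℕ, χ ∈ rel P →
      0 < d ∧ d ∣ n ∧ (χ : nrm P → ℂ) 1 = ((e * d : ℕ) : ℂ) := fun χ => by
    by_cases h : IsRelevant (ker P) (χ : nrm P → ℂ)
    · obtain ⟨d, h1, h2, h3⟩ := exists_relevant_degree (ker P) hCK χ.2 h
      exact ⟨d, fun _ => ⟨h1, hKc ▸ h2, he ▸ h3⟩⟩
    · exact ⟨0, fun h' => absurd (mem_rel.mp h') h⟩
  choose dg hdg using hdeg0
  have hn1 : 1 < n := by
    rw [← hn]
    exact (Subgroup.one_lt_card_iff_ne_bot _).mpr hP1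
  have hex : ∃ χ : Cfsg.IrrCharacter (nrm P), IsRelevant (ker P) (χ : nrm P → ℂ) := by
    by_contra hno
    have hf : Finset.univ.filter (fun χ : Cfsg.IrrCharacter (nrm P) => ¬ IsRelevant (ker P) (χ : nrm P → ℂ)) =
        Finset.univ := Finset.filter_true_of_mem fun χ _ h => hno ⟨χ, h⟩
    have h := sum_degree_sq_not_relevant (ker P)
    rw [hf, sum_degree_sq, ← (ker P).index_mul_card, he, hKc] at h
    have h' : e * n = e := by exact_mod_cast h
    have he0 : 0 < e := he ▸ Nat.pos_of_ne_zero Subgroup.index_ne_zero_of_finite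
    nlinarith
  obtain ⟨θ, hθR, hθd⟩ : ∃ θ ∈ rel P, dg θ = 1 := by
    by_contra hno
    push Not at hno
    have hg := gcd_degree_eq_one (ker P) hCK dg (fun χ h => by rw [he]; exact (hdg χ (mem_rel.mpr h)).2.2) hex
    have hpd : p ∣ (Finset.univ.filter fun χ : Cfsg.IrrCharacter (nrm P) =>
        IsRelevant (ker P) (χ : nrm P → ℂ)).gcd dg := Finset.dvd_gcd fun χ hχ => by
      have hχ' : χ ∈ rel P := mem_rel.mpr (Finset.mem_filter.mp hχ).2
      obtain ⟨-, h2, -⟩ := hdg χ hχ'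
      obtain ⟨k, hk⟩ := IsPGroup.iff_card.mp hP
      rw [← hn, hk] at h2
      obtain ⟨j, -, hj⟩ := (Nat.dvd_prime_pow Fact.out).mp h2
      rw [hj]
      exact dvd_pow_self p fun h0 => hno χ hχ' (by rw [hj, h0, pow_zero])
    rw [hg] at hpd
    exact (Fact.out : p.Prime).ne_one (Nat.dvd_one.mp hpd)
  exact ⟨⟨hP1, hTI, hCK, hKc, he, dg, hdg, θ, hθR, hθd⟩⟩

namespace Ctx

variable (C : Ctx P n e)
include C

theorem index_pos : 0 < e := C.index_ker ▸ Nat.pos_of_ne_zero Subgroup.index_ne_zero_of_finite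

theorem card_nrm : (Nat.card (nrm P) : ℂ) = (e : ℂ) * n := by
  rw [← (ker P).index_mul_card, C.index_ker, C.card_ker, Nat.cast_mul]

theorem one_lt : 1 < n := by
  rw [← C.card_ker, Nat.card_congr (Subgroup.subgroupOfEquivOfLe Subgroup.le_normalizer).toEquiv]
  exact (Subgroup.one_lt_card_iff_ne_bot _).mpr C.ne_bot

/-- The sum of the squares of the reduced degrees. -/
noncomputable def M : ℕ := ∑ χ ∈ rel P, C.dg χ ^ 2

theorem M_eq : e * C.M + 1 = n := by
  classical
  haveI : (ker P).Normal := Subgroup.normal_in_normalizer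
  have h := sum_degree_sq (G := nrm P)
  rw [← Finset.sum_filter_add_sum_filter_not Finset.univ
    (fun χ : Cfsg.IrrCharacter (nrm P) => IsRelevant (ker P) (χ : nrm P → ℂ)), sum_degree_sq_not_relevant,
    C.card_nrm, C.index_ker,
    Finset.sum_congr rfl fun χ hχ => by rw [(C.dg_spec χ (mem_rel.mpr (Finset.mem_filter.mp hχ).2)).2.2]] at h
  have h' : ∑ χ ∈ rel P, (e * C.dg χ) ^ 2 + e = e * n := by
    have hr : rel P = Finset.univ.filter (fun χ : Cfsg.IrrCharacter (nrm P) =>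
        IsRelevant (ker P) (χ : nrm P → ℂ)) := by ext; simp [mem_rel]
    rw [hr]
    exact_mod_cast h
  have h'' : ∑ χ ∈ rel P, (e * C.dg χ) ^ 2 = e * (e * C.M) := by
    rw [M, Finset.mul_sum, Finset.mul_sum]
    exact Finset.sum_congr rfl fun χ _ => by ring
  refine Nat.eq_of_mul_eq_mul_left C.index_pos ?_
  rw [h''] at h'
  rw [Nat.mul_add, mul_one, h']

theorem vanish {χ : Cfsg.IrrCharacter (nrm P)} (hχ : χ ∈ rel P) {x : nrm P} (hx : x ∉ ker P) :
    (χ : nrm P → ℂ) x = 0 := by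
  haveI : (ker P).Normal := Subgroup.normal_in_normalizer
  haveI := Fintype.ofFinite (ker P)
  exact relevant_apply_eq_zero (ker P) C.cent χ.2 (mem_rel.mp hχ) hx

omit C in
theorem ne_one_of_mem {χ : Cfsg.IrrCharacter (nrm P)} (hχ : χ ∈ rel P) :
    (χ : nrm P → ℂ) ≠ fun _ => 1 := by
  intro h
  obtain ⟨k, -, hk⟩ := mem_rel.mp hχ
  rw [h] at hk
  exact hk rfl

theorem θ_one : (C.θ : nrm P → ℂ) 1 = e := by rw [(C.dg_spec _ C.θ_mem).2.2, C.θ_dg, mul_one]

open Classical in
/-- The class function `e·1_P − θ`. -/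
noncomputable def al : nrm P → ℂ := fun x => (if x ∈ ker P then (e : ℂ) else 0) - (C.θ : nrm P → ℂ) x

theorem al_class : Cfsg.IsClassFunction (nrm P) C.al := by
  classical
  have hn : (ker P).Normal := Subgroup.normal_in_normalizer
  intro g h
  have h1 : h * g * h⁻¹ ∈ ker P ↔ g ∈ ker P := ⟨fun hm => by
    simpa [mul_assoc] using hn.conj_mem _ hm h⁻¹, fun hm => hn.conj_mem _ hm h⟩
  have h2 := isClassFunction_of_isIrr C.θ.2 g h
  simp only [al, h1, h2]

theorem al_eq_zero {x : nrm P} (hx : x ∉ ker P) : C.al x = 0 := by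
  simp [al, hx, C.vanish C.θ_mem hx]

theorem al_supp : ∀ x : nrm P, (x : G) ∉ (P : Set G) → C.al x = 0 := fun _ hx =>
  C.al_eq_zero fun h => hx h

theorem al_one : C.al 1 = 0 := by simp [al, C.θ_one]

open Classical in
theorem inner_al (χ : Cfsg.IrrCharacter (nrm P)) : Cfsg.classInner C.al χ =
    (if χ ∈ rel P then (0 : ℂ) else (χ : nrm P → ℂ) 1) - if C.θ = χ then 1 else 0 := by
  haveI : (ker P).Normal := Subgroup.normal_in_normalizer
  rw [show C.al = (fun x : nrm P => if x ∈ ker P then (e : ℂ) else 0) - (C.θ : nrm P → ℂ) from rfl,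
    classInner_sub_left, classInner_irrCharacter]
  congr 1
  rw [classInner_def]
  simp only [ite_mul, zero_mul]
  rw [← Finset.sum_filter, ← Finset.mul_sum]
  split_ifs with h
  · have h1 := classInner_irr_ne isIrrCharacter_one χ.2 (ne_one_of_mem h).symm
    rw [classInner_def] at h1
    have h2 := (mul_eq_zero.mp h1).resolve_left (inv_ne_zero card_ne_zero')
    simp only [one_mul] at h2
    rw [Finset.sum_subset (Finset.subset_univ _) fun x _ hx => by
      rw [C.vanish h (by simpa using hx), map_zero], h2, mul_zero, mul_zero]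
  · have h1 : ∀ x ∈ Finset.univ.filter (fun x : nrm P => x ∈ ker P),
        conj ((χ : nrm P → ℂ) x) = (χ : nrm P → ℂ) 1 := fun x hx => by
      rw [(not_relevant_iff (ker P) _).mp (fun h' => h (mem_rel.mpr h')) x (Finset.mem_filter.mp hx).2,
        char_conj_one (isCharacter_of_isIrr χ.2)]
    rw [Finset.sum_congr rfl h1, Finset.sum_const, nsmul_eq_mul, C.card_nrm,
      show (Finset.univ.filter fun x : nrm P => x ∈ ker P).card = n by
        rw [← C.card_ker, Nat.card_eq_fintype_card, Fintype.card_subtype]]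
    have : (e : ℂ) ≠ 0 := by exact_mod_cast C.index_pos.ne'
    have : (n : ℂ) ≠ 0 := by exact_mod_cast (by have := C.one_lt; omega : n ≠ 0)
    field_simp

theorem al_gen : Cfsg.IsGeneralizedCharacter (nrm P) C.al := by
  classical
  refine isGen_of_classInner_int C.al_class fun χ hχ => ?_
  obtain ⟨d, -, hd⟩ := exists_degree_pos hχ
  refine ⟨(if (⟨χ, hχ⟩ : Cfsg.IrrCharacter (nrm P)) ∈ rel P then 0 else (d : ℤ)) -
    if C.θ = ⟨χ, hχ⟩ then 1 else 0, ?_⟩
  rw [C.inner_al ⟨χ, hχ⟩, show ((⟨χ, hχ⟩ : Cfsg.IrrCharacter (nrm P)) : nrm P → ℂ) 1 = d from hd]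
  push_cast
  rfl

theorem al_inner_one : Cfsg.classInner C.al (fun _ : nrm P => (1 : ℂ)) = 1 := by
  classical
  have h := C.inner_al irrOne
  have h1 : (irrOne : Cfsg.IrrCharacter (nrm P)) ∉ rel P := fun h' => ne_one_of_mem h' (funext irrOne_apply)
  have h2 : C.θ ≠ irrOne := fun e1 => by rw [← e1] at h1; exact h1 C.θ_mem
  rw [if_neg h1, if_neg h2] at h
  simp only [irrOne_apply, sub_zero] at h
  exact h

theorem al_norm : Cfsg.classInner C.al C.al = (e : ℂ) + 1 := by
  classical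
  haveI : (ker P).Normal := Subgroup.normal_in_normalizer
  rw [classInner_eq_sum C.al_class, ← Finset.sum_filter_add_sum_filter_not Finset.univ
    (fun χ : Cfsg.IrrCharacter (nrm P) => IsRelevant (ker P) (χ : nrm P → ℂ)), add_comm (e : ℂ) 1]
  congr 1
  · rw [Finset.sum_eq_single C.θ]
    · simp [C.inner_al, C.θ_mem]
    · intro χ hχ hne
      simp [C.inner_al, mem_rel.mpr (Finset.mem_filter.mp hχ).2, hne.symm]
    · intro h
      exact absurd (mem_rel.mp C.θ_mem) (by simpa using h)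
  · refine Eq.trans ?_ ((sum_degree_sq_not_relevant (ker P)).trans (congrArg (fun m : ℕ => (m : ℂ)) C.index_ker))
    refine Finset.sum_congr rfl fun χ hχ => ?_
    have hnr : χ ∉ rel P := fun h => (Finset.mem_filter.mp hχ).2 (mem_rel.mp h)
    have hne : C.θ ≠ χ := fun e1 => hnr (e1 ▸ C.θ_mem)
    rw [C.inner_al, if_neg hnr, if_neg hne, sub_zero, char_conj_one (isCharacter_of_isIrr χ.2), sq]

/-- The induced class function. -/
noncomputable def beta : G → ℂ := Cfsg.indFun (nrm P) C.al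

theorem beta_class : Cfsg.IsClassFunction G C.beta := isClassFunction_indFun _ _

/-- Its coefficients. -/
noncomputable def coef : Cfsg.IrrCharacter G → ℤ := (gen_decomp (isGen_indFun (nrm P) C.al_gen)).choose

theorem inner_beta (ψ : Cfsg.IrrCharacter G) : Cfsg.classInner C.beta ψ = C.coef ψ :=
  (gen_decomp (isGen_indFun (nrm P) C.al_gen)).choose_spec.2.1 ψ

theorem coef_sq : ∑ ψ, C.coef ψ ^ 2 = (e : ℤ) + 1 := by
  have h : ∑ ψ, ((C.coef ψ ^ 2 : ℤ) : ℂ) = (e : ℂ) + 1 :=
    (gen_decomp (isGen_indFun (nrm P) C.al_gen)).choose_spec.2.2.symm.trans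
      ((classInner_indFun_of_TI (nrm P) _ C.ti C.al_class C.al_supp C.al_supp C.al_one).trans C.al_norm)
  exact_mod_cast h

theorem coef_one : C.coef irrOne = 1 := by
  have h := C.inner_beta irrOne
  rw [beta, frobenius_reciprocity (nrm P) C.al (isClassFunction_of_isIrr irrOne.2)] at h
  have h' : ((C.coef irrOne : ℤ) : ℂ) = 1 := h.symm.trans C.al_inner_one
  exact_mod_cast h'

omit C in
/-- The multiplicities in the restriction. -/
noncomputable def mult (ψ : Cfsg.IrrCharacter G) : Cfsg.IrrCharacter (nrm P) → ℕ :=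
  (char_decomp (isCharacter_res (nrm P) (isCharacter_of_isIrr ψ.2))).choose

omit C in
theorem mult_decomp (ψ : Cfsg.IrrCharacter G) :
    (fun x : nrm P => (ψ : G → ℂ) x) = ∑ χ : Cfsg.IrrCharacter (nrm P), (mult ψ χ : ℂ) • (χ : nrm P → ℂ) :=
  (char_decomp (isCharacter_res (nrm P) (isCharacter_of_isIrr ψ.2))).choose_spec.1

omit C in
theorem inner_mult (ψ : Cfsg.IrrCharacter G) (χ : Cfsg.IrrCharacter (nrm P)) :
    Cfsg.classInner (fun x : nrm P => (ψ : G → ℂ) x) χ = mult ψ χ :=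
  (char_decomp (isCharacter_res (nrm P) (isCharacter_of_isIrr ψ.2))).choose_spec.2 χ

omit C in
/-- The degree. -/
noncomputable def dgr (χ : Cfsg.IrrCharacter (nrm P)) : ℕ := (exists_degree_pos χ.2).choose

omit C in
theorem dgr_spec (χ : Cfsg.IrrCharacter (nrm P)) : (χ : nrm P → ℂ) 1 = dgr χ :=
  (exists_degree_pos χ.2).choose_spec.2

omit C in
open Classical in
/-- The part of the degree coming from characters trivial on the subgroup. -/
noncomputable def triv (P : Subgroup G) [Fintype (nrm P)] (ψ : Cfsg.IrrCharacter G) : ℕ :=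
  ∑ χ ∈ (Finset.univ : Finset (Cfsg.IrrCharacter (nrm P))).filter (fun χ => χ ∉ rel P), mult ψ χ * dgr χ

theorem coef_eq (ψ : Cfsg.IrrCharacter G) : C.coef ψ = (triv P ψ : ℤ) - mult ψ C.θ := by
  classical
  have h := C.inner_beta ψ
  rw [beta, frobenius_reciprocity (nrm P) C.al (isClassFunction_of_isIrr ψ.2), classInner_eq_sum C.al_class] at h
  simp only [inner_mult, map_natCast, C.inner_al] at h
  have h' : (∑ χ : Cfsg.IrrCharacter (nrm P), ((if χ ∈ rel P then (0 : ℂ) else (χ : nrm P → ℂ) 1) -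
      if C.θ = χ then 1 else 0) * (mult ψ χ : ℂ)) = (triv P ψ : ℂ) - (mult ψ C.θ : ℂ) := by
    simp only [sub_mul, Finset.sum_sub_distrib]
    congr 1
    · rw [triv]
      push_cast
      rw [Finset.sum_filter]
      refine Finset.sum_congr rfl fun χ _ => ?_
      by_cases hx : χ ∈ rel P
      · simp [hx]
      · simp [hx, dgr_spec χ, mul_comm]
    · simp
  have h'' : ((C.coef ψ : ℤ) : ℂ) = (((triv P ψ : ℤ) - mult ψ C.θ : ℤ) : ℂ) := by
    rw [← h, h']; push_cast; rfl
  exact_mod_cast h''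

theorem degree_eq {ψ : Cfsg.IrrCharacter G} {d : ℕ} (hd : (ψ : G → ℂ) 1 = d) :
    d = triv P ψ + e * ∑ χ ∈ rel P, mult ψ χ * C.dg χ := by
  classical
  have h := congrFun (mult_decomp (P := P) ψ) 1
  simp only [Finset.sum_apply, Pi.smul_apply, smul_eq_mul, Subgroup.coe_one, hd, dgr_spec] at h
  have h' : d = ∑ χ : Cfsg.IrrCharacter (nrm P), mult ψ χ * dgr χ := by exact_mod_cast h
  rw [h', ← Finset.sum_filter_add_sum_filter_not Finset.univ (fun χ => χ ∈ rel P), add_comm]
  congr 1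
  rw [Finset.mul_sum, show Finset.univ.filter (fun χ => χ ∈ rel P) = rel P by ext; simp]
  refine Finset.sum_congr rfl fun χ hχ => ?_
  have := (C.dg_spec χ hχ).2.2
  rw [dgr_spec χ] at this
  have h2 : dgr χ = e * C.dg χ := by exact_mod_cast this
  rw [h2]; ring

/-- The differences. -/
noncomputable def delta (ψ : Cfsg.IrrCharacter G) (χ : Cfsg.IrrCharacter (nrm P)) : ℤ :=
  (mult ψ χ : ℤ) - C.dg χ * mult ψ C.θ

/-- The vanishing combination of two relevant characters. -/
noncomputable def dif (χ : Cfsg.IrrCharacter (nrm P)) : nrm P → ℂ :=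
  (χ : nrm P → ℂ) - (C.dg χ : ℂ) • (C.θ : nrm P → ℂ)

theorem dif_eq_zero {χ : Cfsg.IrrCharacter (nrm P)} (hχ : χ ∈ rel P) {x : nrm P} (hx : x ∉ ker P) :
    C.dif χ x = 0 := by
  simp [dif, C.vanish hχ hx, C.vanish C.θ_mem hx]

theorem dif_class (χ : Cfsg.IrrCharacter (nrm P)) : Cfsg.IsClassFunction (nrm P) (C.dif χ) :=
  isClassFunction_sub (isClassFunction_of_isIrr χ.2) (isClassFunction_smul (isClassFunction_of_isIrr C.θ.2) _)

theorem inner_dif (ψ : Cfsg.IrrCharacter G) (χ : Cfsg.IrrCharacter (nrm P)) :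
    Cfsg.classInner (Cfsg.indFun (nrm P) (C.dif χ)) (ψ : G → ℂ) = C.delta ψ χ := by
  rw [frobenius_reciprocity (nrm P) _ (isClassFunction_of_isIrr ψ.2), dif, classInner_sub_left,
    classInner_smul_left, ← classInner_conj_symm, inner_mult,
    ← classInner_conj_symm _ (C.θ : nrm P → ℂ), inner_mult, map_natCast, map_natCast]
  simp [delta]

theorem degree_delta {ψ : Cfsg.IrrCharacter G} {d : ℕ} (hd : (ψ : G → ℂ) 1 = d) :
    (d : ℤ) = C.coef ψ + mult ψ C.θ * n + e * ∑ χ ∈ rel P, C.delta ψ χ * C.dg χ := by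
  have h1 : (d : ℤ) = (triv P ψ : ℤ) + e * ∑ χ ∈ rel P, (mult ψ χ : ℤ) * C.dg χ := by
    exact_mod_cast C.degree_eq hd
  have h2 : ∑ χ ∈ rel P, C.delta ψ χ * C.dg χ =
      (∑ χ ∈ rel P, (mult ψ χ : ℤ) * C.dg χ) - mult ψ C.θ * (C.M : ℤ) := by
    rw [M]
    push_cast
    rw [Finset.mul_sum, ← Finset.sum_sub_distrib]
    exact Finset.sum_congr rfl fun χ _ => by simp only [delta]; ring
  have h3 : (e : ℤ) * C.M + 1 = n := by exact_mod_cast C.M_eq
  rw [h1, C.coef_eq, h2, ← h3]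
  ring

end Ctx

end CfsgLib.SixSpectrum
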