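import Mathlib
import Cfsg.Agent.Lib.SixSpectrum.Ctx

/-!
# Coherence for the relevant characters of the normalizer
-/

set_option autoImplicit false

namespace CfsgLib.SixSpectrum

open CfsgLib.Char
open scoped ComplexConjugate

universe u

variable {G : Type u} [Group G] [Fintype G] {P : Subgroup G} [Fintype (nrm P)] {n e : ℕ}

namespace Ctx

/-- The image of the relevant characters under a coherent isometry. -/
structure Img (C : Ctx P n e) where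
  μ : Cfsg.IrrCharacter (nrm P) → Cfsg.IrrCharacter G
  ε : Cfsg.IrrCharacter (nrm P) → ℤ
  sign : ∀ χ ∈ rel P, ε χ = 1 ∨ ε χ = -1
  inj : Set.InjOn μ (rel P : Set (Cfsg.IrrCharacter (nrm P)))
  diff : ∀ χ ∈ rel P, Cfsg.indFun (nrm P) (C.dif χ) =
    (ε χ : ℂ) • (μ χ : G → ℂ) - (C.dg χ : ℂ) • ((ε C.θ : ℂ) • (μ C.θ : G → ℂ))

variable (C : Ctx P n e)
include C

theorem exists_img (hco : Cfsg.IsCoherent {χ : nrm P → ℂ | Cfsg.IsIrrCharacter (nrm P) χ ∧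
      ∃ x : nrm P, (x : G) ∈ P ∧ χ x ≠ χ 1} {1}ᶜ (fun α => Cfsg.indFun (nrm P) α)) :
    Nonempty (Img C) := by
  classical
  obtain ⟨-, τ, ⟨hadd, hsmul, hiso, hτgen⟩, hagree⟩ := hco
  set S : Set (nrm P → ℂ) := {χ | Cfsg.IsIrrCharacter (nrm P) χ ∧ ∃ x : nrm P, (x : G) ∈ P ∧ χ x ≠ χ 1}
    with hS
  have hmem : ∀ χ ∈ rel P, (χ : nrm P → ℂ) ∈ Cfsg.zspan S := fun χ hχ => Submodule.subset_span
    (show (χ : nrm P → ℂ) ∈ S from ⟨χ.2, by
      obtain ⟨k, hk, hk'⟩ := mem_rel.mp hχ; exact ⟨k, Subgroup.mem_subgroupOf.mp hk, hk'⟩⟩)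
  haveI : Nonempty (Cfsg.IrrCharacter G) := ⟨irrOne⟩
  have hirr : ∀ χ ∈ rel P, ∃ (μ : Cfsg.IrrCharacter G) (ε : ℤ), (ε = 1 ∨ ε = -1) ∧
      τ (χ : nrm P → ℂ) = (ε : ℂ) • (μ : G → ℂ) := by
    intro χ hχ
    rcases gen_norm_one (hτgen _ (hmem χ hχ))
      (by rw [hiso _ (hmem χ hχ) _ (hmem χ hχ), classInner_irr_self χ.2]) with h | h
    · exact ⟨⟨_, h⟩, 1, Or.inl rfl, by simp⟩
    · exact ⟨⟨_, h⟩, -1, Or.inr rfl, by simp⟩
  choose! μ ε hε hμ using hirr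
  refine ⟨⟨μ, ε, hε, ?_, ?_⟩⟩
  · intro a ha b hb hab
    by_contra hne
    have h := hiso _ (hmem a ha) _ (hmem b hb)
    rw [classInner_irr_ne a.2 b.2 (fun e1 => hne (Subtype.ext e1)), hμ a ha, hμ b hb, classInner_smul_left,
      classInner_smul_right, hab, classInner_irr_self (μ b).2, mul_one] at h
    rcases hε a ha with e1 | e1 <;> rcases hε b hb with e2 | e2 <;> simp [e1, e2] at h
  · intro χ hχ
    have hneg : ((-(C.dg χ : ℤ)) • (C.θ : nrm P → ℂ)) ∈ Cfsg.zspan S :=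
      Submodule.smul_mem _ _ (hmem C.θ C.θ_mem)
    have heq : C.dif χ = (χ : nrm P → ℂ) + (-(C.dg χ : ℤ)) • (C.θ : nrm P → ℂ) := by
      funext x
      simp [dif, sub_eq_add_neg]
    have hon : (χ : nrm P → ℂ) + (-(C.dg χ : ℤ)) • (C.θ : nrm P → ℂ) ∈ Cfsg.zspanOn S {1}ᶜ := by
      refine ⟨Submodule.add_mem _ (hmem χ hχ) hneg, fun x hx => ?_⟩
      have hx1 : x = 1 := not_not.mp hx
      subst hx1
      rw [← heq]
      simp only [dif, Pi.sub_apply, Pi.smul_apply, smul_eq_mul, C.θ_one, (C.dg_spec χ hχ).2.2]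
      push_cast
      ring
    rw [heq]
    refine (hagree _ hon).symm.trans ?_
    rw [hadd _ (hmem χ hχ) _ hneg, hsmul _ (hmem C.θ C.θ_mem), hμ χ hχ, hμ C.θ C.θ_mem]
    funext x
    simp [sub_eq_add_neg]
    ring

theorem eq_theta_of_M_lt (hM2 : C.M < 2) {χ : Cfsg.IrrCharacter (nrm P)} (hχ : χ ∈ rel P) : χ = C.θ := by
  classical
  by_contra hne
  have h1 : C.dg χ ^ 2 + C.dg C.θ ^ 2 ≤ C.M := by
    rw [M, ← Finset.sum_pair (f := fun η => C.dg η ^ 2) hne]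
    refine Finset.sum_le_sum_of_subset ?_
    intro η hη
    simp only [Finset.mem_insert, Finset.mem_singleton] at hη
    rcases hη with rfl | rfl
    · exact hχ
    · exact C.θ_mem
  have := (C.dg_spec χ hχ).1
  rw [C.θ_dg] at h1
  nlinarith

theorem delta_of_M_lt (hM2 : C.M < 2) (ψ : Cfsg.IrrCharacter G) {χ : Cfsg.IrrCharacter (nrm P)}
    (hχ : χ ∈ rel P) : C.delta ψ χ = 0 := by
  rw [C.eq_theta_of_M_lt hM2 hχ]
  simp [delta, C.θ_dg]

theorem exists_ne_theta (hM2 : 2 ≤ C.M) : ∃ η ∈ rel P, η ≠ C.θ := by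
  by_contra hno
  push Not at hno
  have : C.M = 1 := by
    rw [M, Finset.sum_eq_single C.θ (fun b hb hb' => absurd (hno b hb) hb') (fun h => absurd C.θ_mem h),
      C.θ_dg]
    rfl
  omega

open Classical in
theorem delta_img (I : Img C) (ψ : Cfsg.IrrCharacter G) {χ : Cfsg.IrrCharacter (nrm P)} (hχ : χ ∈ rel P) :
    C.delta ψ χ = (if I.μ χ = ψ then I.ε χ else 0) - C.dg χ * (if I.μ C.θ = ψ then I.ε C.θ else 0) := by
  have h := C.inner_dif ψ χ
  rw [I.diff χ hχ, classInner_sub_left, classInner_smul_left, classInner_smul_left, classInner_smul_left,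
    classInner_irrCharacter, classInner_irrCharacter] at h
  have h' : ((C.delta ψ χ : ℤ) : ℂ) =
      (((if I.μ χ = ψ then I.ε χ else 0) - C.dg χ * (if I.μ C.θ = ψ then I.ε C.θ else 0) : ℤ) : ℂ) := by
    rw [← h]; push_cast; split_ifs <;> simp
  exact_mod_cast h'

theorem delta_one {η : Cfsg.IrrCharacter (nrm P)} (hη : η ∈ rel P) : C.delta irrOne η = 0 := by
  have hd := C.inner_dif irrOne η
  rw [frobenius_reciprocity (nrm P) _ (isClassFunction_of_isIrr irrOne.2), dif, classInner_sub_left,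
    classInner_smul_left] at hd
  have e0 : ∀ ζ : Cfsg.IrrCharacter (nrm P), ζ ∈ rel P →
      Cfsg.classInner (ζ : nrm P → ℂ) (fun x : nrm P => (irrOne : Cfsg.IrrCharacter G).1 x) = 0 := fun ζ hζ =>
    classInner_irr_ne ζ.2 isIrrCharacter_one (ne_one_of_mem hζ)
  rw [e0 η hη, e0 C.θ C.θ_mem, mul_zero, sub_zero] at hd
  exact_mod_cast hd.symm

theorem img_ne_one (I : Img C) (hM2 : 2 ≤ C.M) {χ : Cfsg.IrrCharacter (nrm P)} (hχ : χ ∈ rel P) :
    I.μ χ ≠ irrOne := by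
  classical
  intro h1
  obtain ⟨η, hη, hηne⟩ := C.exists_ne_theta hM2
  by_cases hχθ : χ = C.θ
  · subst hχθ
    have h2 := C.delta_img I irrOne hη
    rw [C.delta_one hη, if_neg (fun e1 => hηne (I.inj hη hχ (e1.trans h1.symm))), if_pos h1] at h2
    have h3 := (C.dg_spec η hη).1
    rcases I.sign C.θ hχ with e1 | e1 <;> rw [e1] at h2 <;> omega
  · have h2 := C.delta_img I irrOne hχ
    rw [C.delta_one hχ, if_pos h1, if_neg (fun e1 => hχθ (I.inj hχ C.θ_mem (h1.trans e1.symm)))] at h2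
    rcases I.sign χ hχ with e1 | e1 <;> rw [e1] at h2 <;> simp at h2

open Classical in
theorem delta_member (I : Img C) {χ₀ χ : Cfsg.IrrCharacter (nrm P)} (h₀ : χ₀ ∈ rel P) (hχ : χ ∈ rel P) :
    C.delta (I.μ χ₀) χ = (if χ = χ₀ then I.ε χ₀ else 0) - C.dg χ * (if C.θ = χ₀ then I.ε χ₀ else 0) := by
  rw [C.delta_img I _ hχ]
  have q1 : (I.μ χ = I.μ χ₀) ↔ χ = χ₀ := ⟨fun h => I.inj hχ h₀ h, fun h => by rw [h]⟩
  have q2 : (I.μ C.θ = I.μ χ₀) ↔ C.θ = χ₀ := ⟨fun h => I.inj C.θ_mem h₀ h, fun h => by rw [h]⟩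
  simp only [q1, q2]
  split_ifs with r1 r2 r2 <;> simp_all

/-- The values of another class function on the images. -/
theorem img_coeff (I : Img C) {β' : G → ℂ} {c' : Cfsg.IrrCharacter G → ℤ}
    (hc' : ∀ ψ : Cfsg.IrrCharacter G, Cfsg.classInner β' ψ = c' ψ) {χ : Cfsg.IrrCharacter (nrm P)}
    (hχ : χ ∈ rel P) {y : ℤ} (hy : Cfsg.classInner β' (Cfsg.indFun (nrm P) (C.dif χ)) = y) :
    I.ε χ * c' (I.μ χ) = y + C.dg χ * (I.ε C.θ * c' (I.μ C.θ)) := by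
  rw [I.diff χ hχ, classInner_sub_right, classInner_smul_right, classInner_smul_right, classInner_smul_right,
    hc', hc'] at hy
  simp only [map_natCast, map_intCast] at hy
  have h' : ((I.ε χ * c' (I.μ χ) : ℤ) : ℂ) = ((y + C.dg χ * (I.ε C.θ * c' (I.μ C.θ)) : ℤ) : ℂ) := by
    push_cast
    linear_combination hy
  exact_mod_cast h'

theorem img_bessel (I : Img C) (hM2 : 2 ≤ C.M) {c' : Cfsg.IrrCharacter G → ℤ} {B : ℕ}
    (h1 : c' irrOne = 1) (h2 : ∑ ψ, c' ψ ^ 2 = (B : ℤ) + 1) :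
    ∑ χ ∈ rel P, c' (I.μ χ) ^ 2 ≤ (B : ℤ) := by
  classical
  rw [← Finset.sum_image (f := fun ψ => c' ψ ^ 2) I.inj]
  rw [← Finset.add_sum_erase _ _ (Finset.mem_univ irrOne), h1] at h2
  have hle : ∑ ψ ∈ (rel P).image I.μ, c' ψ ^ 2 ≤ ∑ ψ ∈ Finset.univ.erase irrOne, c' ψ ^ 2 := by
    refine Finset.sum_le_sum_of_subset_of_nonneg ?_ fun _ _ _ => sq_nonneg _
    intro ψ hψ
    obtain ⟨χ, hχ, rfl⟩ := Finset.mem_image.mp hψ
    exact Finset.mem_erase.mpr ⟨C.img_ne_one I hM2 hχ, Finset.mem_univ _⟩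
  omega

theorem dif_inner_beta {χ : Cfsg.IrrCharacter (nrm P)} (hχ : χ ∈ rel P) [Decidable (C.θ = χ)] :
    Cfsg.classInner C.beta (Cfsg.indFun (nrm P) (C.dif χ)) =
      (((C.dg χ : ℤ) - if C.θ = χ then 1 else 0 : ℤ) : ℂ) := by
  classical
  rw [beta, classInner_indFun_of_TI (nrm P) _ C.ti (C.dif_class χ) C.al_supp
    (fun x hx => C.dif_eq_zero hχ fun h => hx h) C.al_one,
    dif, classInner_sub_right, classInner_smul_right, C.inner_al, C.inner_al, if_pos hχ, if_pos C.θ_mem,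
    if_pos rfl]
  push_cast
  simp only [map_natCast]
  split_ifs <;> ring

end Ctx

end CfsgLib.SixSpectrum
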