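import Mathlib
import Cfsg.Agent.Lib.SixSpectrum.Coh

/-!
# The exceptional generalized character of a self-centralizing TI Sylow subgroup

For a Sylow subgroup `P` of order `n` with `[N(P) : P] = e` the function `e·1_P − θ` induced to `G`
gives coefficients whose squares sum to `e + 1`; the degrees of the characters involved are
controlled modulo `n`.
-/

set_option autoImplicit false

namespace CfsgLib.SixSpectrum

open CfsgLib.Char
open scoped ComplexConjugate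

universe u

variable {G : Type u} [Group G] [Fintype G] {p : ℕ} [Fact p.Prime]

/-- The degree is congruent to the coefficient. -/
def Rigid (n d : ℕ) (c : ℤ) : Prop := ∃ k : ℕ, 1 ≤ k ∧ (d : ℤ) = c + k * n

/-- The data of a member of a coherent family. -/
def Member (n e d : ℕ) (c : ℤ) : Prop :=
  ∃ (M d0 : ℕ) (σ x b : ℤ), e * M + 1 = n ∧ 2 ≤ M ∧ d0 ∣ n ∧ (σ = 1 ∨ σ = -1) ∧
    x ^ 2 + ((M : ℤ) - 1) * (1 + x) ^ 2 ≤ e ∧ ((d0 = 1 ∧ b = x) ∨ b = 1 + x) ∧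
    c = σ * d0 * b ∧ (n : ℤ) ∣ (d : ℤ) - σ * d0 * (e + 1 + x)

/-- The exceptional class function of `P` with its coefficients. -/
structure Exceptional (P : Subgroup G) (n e : ℕ) (β : G → ℂ) (c : Cfsg.IrrCharacter G → ℤ) : Prop where
  cls : Cfsg.IsClassFunction G β
  coeff : ∀ ψ : Cfsg.IrrCharacter G, Cfsg.classInner β ψ = c ψ
  princ : c irrOne = 1
  sq : ∑ ψ, c ψ ^ 2 = (e : ℤ) + 1
  supp : ∀ g : G, (∀ y : G, y⁻¹ * g * y ∈ P → g = 1) → β g = 0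
  one : β 1 = 0
  const : ∀ (f : G → ℂ) (a : ℂ), Cfsg.IsClassFunction G f → (∀ x ∈ P, x ≠ 1 → f x = a) →
    Cfsg.classInner β f = conj a
  cases : ∀ ψ : Cfsg.IrrCharacter G, ψ ≠ irrOne → ∀ d : ℕ, (ψ : G → ℂ) 1 = d →
    Rigid n d (c ψ) ∨ Member n e d (c ψ)
  share : ∀ (β' : G → ℂ) (c' : Cfsg.IrrCharacter G → ℤ) (B : ℕ), Cfsg.IsClassFunction G β' →
    (∀ ψ : Cfsg.IrrCharacter G, Cfsg.classInner β' ψ = c' ψ) → c' irrOne = 1 →
    ∑ ψ, c' ψ ^ 2 = (B : ℤ) + 1 → (∀ x ∈ P, β' x = 0) → e * B + 1 < n →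
    ∀ ψ : Cfsg.IrrCharacter G, ψ ≠ irrOne → ∀ d : ℕ, (ψ : G → ℂ) 1 = d → c ψ ≠ 0 → c' ψ ≠ 0 →
      Rigid n d (c ψ)
  ubound : ∀ z : G, z ∈ Subgroup.normalizer (P : Set G) → z ∉ P →
    ∀ ψ : Cfsg.IrrCharacter G, ψ ≠ irrOne → ∀ d : ℕ, (ψ : G → ℂ) 1 = d →
      (‖(ψ : G → ℂ) z‖ - |(c ψ : ℝ)| - 1) * ((n : ℝ) - 1) ≤ d

variable {P : Subgroup G} [Fintype (nrm P)] {n e : ℕ}

omit [Fact p.Prime] in
theorem Ctx.rigid [IsSimpleGroup G] (C : Ctx P n e) {ψ : Cfsg.IrrCharacter G} (hψ : ψ ≠ irrOne)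
    (h0 : ∀ χ ∈ rel P, C.delta ψ χ = 0) {d : ℕ} (hd : (ψ : G → ℂ) 1 = d) : Rigid n d (C.coef ψ) := by
  classical
  refine ⟨Ctx.mult ψ C.θ, ?_, by
    rw [C.degree_delta hd, Finset.sum_eq_zero fun χ hχ => by rw [h0 χ hχ, zero_mul]]; ring⟩
  by_contra hm0
  have hm0' : Ctx.mult ψ C.θ = 0 := by omega
  obtain ⟨x, hx, hx1⟩ : ∃ x ∈ P, x ≠ 1 := by
    by_contra hcon
    push Not at hcon
    exact C.ne_bot ((Subgroup.eq_bot_iff_forall _).mpr hcon)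
  refine hx1 (CfsgLib.Transfer.PairProducts.eq_one_of_apply_eq_degree inferInstance hψ ?_)
  have hxN : x ∈ nrm P := Subgroup.le_normalizer hx
  have h1 := congrFun (Ctx.mult_decomp (P := P) ψ) ⟨x, hxN⟩
  have h2 := congrFun (Ctx.mult_decomp (P := P) ψ) 1
  simp only [Finset.sum_apply, Pi.smul_apply, smul_eq_mul, Subgroup.coe_one] at h1 h2
  rw [h1, h2]
  refine Finset.sum_congr rfl fun χ _ => ?_
  by_cases hr : IsRelevant (ker P) (χ : nrm P → ℂ)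
  · have := h0 χ (mem_rel.mpr hr)
    simp only [Ctx.delta, hm0', Nat.cast_zero, mul_zero, sub_zero] at this
    have h' : Ctx.mult ψ χ = 0 := by exact_mod_cast this
    simp [h']
  · rw [(not_relevant_iff (ker P) _).mp hr ⟨x, hxN⟩ (Subgroup.mem_subgroupOf.mpr hx)]

omit [Fact p.Prime] in
theorem Ctx.rigid_or_img [IsSimpleGroup G] (C : Ctx P n e) (hI : 2 ≤ C.M → Nonempty (Ctx.Img C))
    {ψ : Cfsg.IrrCharacter G} (hψ : ψ ≠ irrOne) :
    (∀ χ ∈ rel P, C.delta ψ χ = 0) ∨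
      (2 ≤ C.M ∧ ∃ I : Ctx.Img C, ∃ χ₀ ∈ rel P, ψ = I.μ χ₀) := by
  classical
  by_cases hall : ∀ χ ∈ rel P, C.delta ψ χ = 0
  · exact Or.inl hall
  right
  push Not at hall
  obtain ⟨χ, hχ, hne⟩ := hall
  have hM2 : 2 ≤ C.M := by
    by_contra hc2
    exact hne (C.delta_of_M_lt (by omega) ψ hχ)
  obtain ⟨I⟩ := hI hM2
  refine ⟨hM2, I, ?_⟩
  by_contra hno
  push Not at hno
  rw [C.delta_img I ψ hχ, if_neg (hno χ hχ).symm, if_neg (hno C.θ C.θ_mem).symm] at hne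
  simp at hne

omit [Fact p.Prime] in
theorem Ctx.member [IsSimpleGroup G] (C : Ctx P n e) (hM2 : 2 ≤ C.M) (I : Ctx.Img C)
    {χ₀ : Cfsg.IrrCharacter (nrm P)} (hχ₀ : χ₀ ∈ rel P) {d : ℕ} (hd : (I.μ χ₀ : G → ℂ) 1 = d) :
    Member n e d (C.coef (I.μ χ₀)) := by
  classical
  have himg : ∀ χ ∈ rel P, I.ε χ * C.coef (I.μ χ) =
      ((C.dg χ : ℤ) - if C.θ = χ then 1 else 0) + C.dg χ * (I.ε C.θ * C.coef (I.μ C.θ)) :=
    fun χ hχ => C.img_coeff I C.inner_beta hχ (C.dif_inner_beta hχ)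
  set x := I.ε C.θ * C.coef (I.μ C.θ) with hx
  have hcμ : ∀ χ ∈ rel P, C.coef (I.μ χ) ^ 2 =
      if χ = C.θ then x ^ 2 else (C.dg χ : ℤ) ^ 2 * (1 + x) ^ 2 := by
    intro χ hχ
    split_ifs with h
    · subst h
      rcases I.sign C.θ hχ with e1 | e1 <;> simp [hx, e1]
    · have h1 := himg χ hχ
      have h2 : C.coef (I.μ χ) ^ 2 = (I.ε χ * C.coef (I.μ χ)) ^ 2 := by
        rcases I.sign χ hχ with e1 | e1 <;> simp [e1]
      rw [h2, h1, if_neg (fun e1 => h e1.symm)]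
      ring
  have hMe : (C.M : ℤ) - 1 = ∑ χ ∈ (rel P).erase C.θ, (C.dg χ : ℤ) ^ 2 := by
    rw [Ctx.M]; push_cast
    rw [← Finset.add_sum_erase _ _ C.θ_mem, C.θ_dg]
    ring
  have hbes : x ^ 2 + ((C.M : ℤ) - 1) * (1 + x) ^ 2 ≤ e := by
    have h := C.img_bessel I hM2 C.coef_one C.coef_sq
    rw [Finset.sum_congr rfl hcμ, ← Finset.add_sum_erase _ _ C.θ_mem, if_pos rfl,
      Finset.sum_congr rfl (fun χ hχ => if_neg (Finset.ne_of_mem_erase hχ)), ← Finset.sum_mul] at h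
    rw [hMe]
    exact h
  have hd' := C.degree_delta hd
  have hsumδ : ∑ χ ∈ rel P, C.delta (I.μ χ₀) χ * C.dg χ =
      I.ε χ₀ * C.dg χ₀ - (if C.θ = χ₀ then I.ε χ₀ else 0) * (C.M : ℤ) := by
    rw [Finset.sum_congr rfl fun χ hχ => by rw [C.delta_member I hχ₀ hχ, sub_mul, mul_comm (C.dg χ : ℤ) _,
      mul_assoc], Finset.sum_sub_distrib, ← Finset.mul_sum]
    congr 1
    · simp [ite_mul, hχ₀]
    · rw [Ctx.M]; push_cast
      congr 1
      exact Finset.sum_congr rfl fun χ _ => by ring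
  have heM : (e : ℤ) * C.M + 1 = n := by exact_mod_cast C.M_eq
  have hc0 := himg χ₀ hχ₀
  have hεsq : I.ε χ₀ * I.ε χ₀ = 1 := by rcases I.sign χ₀ hχ₀ with e1 | e1 <;> simp [e1]
  by_cases hχθ : C.θ = χ₀
  · subst hχθ
    have hcx : C.coef (I.μ C.θ) = I.ε C.θ * x := by
      rw [hx]; linear_combination -(C.coef (I.μ C.θ)) * hεsq
    refine ⟨C.M, 1, I.ε C.θ, x, x, C.M_eq, hM2, one_dvd _, I.sign C.θ C.θ_mem, hbes, Or.inl ⟨rfl, rfl⟩, ?_, ?_⟩
    · rw [hcx]; push_cast; ring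
    · rw [hd', hsumδ, if_pos rfl, C.θ_dg, hcx]
      refine ⟨(Ctx.mult (I.μ C.θ) C.θ : ℤ) - I.ε C.θ, ?_⟩
      push_cast
      linear_combination -(I.ε C.θ) * heM
  · rw [if_neg hχθ] at hsumδ hc0
    have hcv : C.coef (I.μ χ₀) = I.ε χ₀ * C.dg χ₀ * (1 + x) := by
      linear_combination (I.ε χ₀) * hc0 - (C.coef (I.μ χ₀)) * hεsq
    refine ⟨C.M, C.dg χ₀, I.ε χ₀, x, 1 + x, C.M_eq, hM2, (C.dg_spec χ₀ hχ₀).2.1, I.sign χ₀ hχ₀, hbes,
      Or.inr rfl, hcv, ⟨Ctx.mult (I.μ χ₀) C.θ, ?_⟩⟩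
    rw [hd', hsumδ, hcv]
    ring

omit [Fact p.Prime] in
theorem Ctx.delta_ge [IsSimpleGroup G] (C : Ctx P n e) (hI : 2 ≤ C.M → Nonempty (Ctx.Img C))
    {ψ : Cfsg.IrrCharacter G} (hψ : ψ ≠ irrOne) {χ : Cfsg.IrrCharacter (nrm P)} (hχ : χ ∈ rel P) :
    -(C.dg χ : ℤ) ≤ C.delta ψ χ := by
  classical
  rcases C.rigid_or_img hI hψ with h0 | ⟨-, I, χ₀, hχ₀, rfl⟩
  · rw [h0 χ hχ]; simp
  · rw [C.delta_member I hχ₀ hχ]
    have hd1 := (C.dg_spec χ hχ).1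
    by_cases a : χ = χ₀ <;> by_cases b : C.θ = χ₀
    · have : C.dg χ = 1 := by rw [a, ← b, C.θ_dg]
      rw [if_pos a, if_pos b, this]; simp
    · rw [if_pos a, if_neg b]
      rcases I.sign χ₀ hχ₀ with e1 | e1 <;> rw [e1] <;> omega
    · rw [if_neg a, if_pos b]
      rcases I.sign χ₀ hχ₀ with e1 | e1 <;> rw [e1] <;> omega
    · rw [if_neg a, if_neg b]; simp

omit [Fact p.Prime] in
theorem Ctx.norm_le [IsSimpleGroup G] (C : Ctx P n e) (hI : 2 ≤ C.M → Nonempty (Ctx.Img C)) {z : G}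
    (hzN : z ∈ nrm P) (hzP : z ∉ P) {ψ : Cfsg.IrrCharacter G} (hψ : ψ ≠ irrOne) {d : ℕ}
    (hd : (ψ : G → ℂ) 1 = d) : (‖(ψ : G → ℂ) z‖ - |(C.coef ψ : ℝ)| - 1) * ((n : ℝ) - 1) ≤ d := by
  classical
  have hzK : (⟨z, hzN⟩ : nrm P) ∉ ker P := fun h => hzP (Subgroup.mem_subgroupOf.mp h)
  have hA' : ‖(ψ : G → ℂ) z‖ ≤ (Ctx.triv P ψ : ℝ) := by
    have h := congrFun (Ctx.mult_decomp (P := P) ψ) ⟨z, hzN⟩
    simp only [Finset.sum_apply, Pi.smul_apply, smul_eq_mul] at h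
    rw [h, ← Finset.sum_filter_add_sum_filter_not Finset.univ (fun χ => χ ∈ rel P),
      Finset.sum_eq_zero (fun χ hχ => by
        rw [C.vanish (Finset.mem_filter.mp hχ).2 hzK, mul_zero]), zero_add, Ctx.triv]
    push_cast
    refine (norm_sum_le _ _).trans (Finset.sum_le_sum fun χ _ => ?_)
    rw [norm_mul, Complex.norm_natCast]
    refine mul_le_mul_of_nonneg_left ?_ (Nat.cast_nonneg _)
    have h1 := norm_char_le (isCharacter_of_isIrr χ.2) ⟨z, hzN⟩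
    rwa [Ctx.dgr_spec χ, Complex.natCast_re] at h1
  have hd' := C.degree_delta hd
  have hb : -((C.M : ℤ)) ≤ ∑ χ ∈ rel P, C.delta ψ χ * C.dg χ := by
    rw [Ctx.M]; push_cast
    rw [← Finset.sum_neg_distrib]
    refine Finset.sum_le_sum fun χ hχ => ?_
    have := C.delta_ge hI hψ hχ
    nlinarith [(Nat.cast_nonneg (C.dg χ) : (0 : ℤ) ≤ C.dg χ)]
  have heM : (e : ℤ) * C.M + 1 = n := by exact_mod_cast C.M_eq
  have hcA' := C.coef_eq ψ
  have hn1 := C.one_lt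
  have hkey' : ((Ctx.triv P ψ : ℤ) - |C.coef ψ| - 1) * ((n : ℤ) - 1) ≤ d := by
    have h1 : (Ctx.triv P ψ : ℤ) + ((n : ℤ) - 1) * ((Ctx.mult ψ C.θ : ℤ) - 1) ≤ d := by
      have he := mul_le_mul_of_nonneg_left hb (Int.natCast_nonneg e)
      rw [hd', hcA', ← heM]
      ring_nf at he ⊢
      linarith
    have h2 := le_abs_self (C.coef ψ)
    have h3 : (0 : ℤ) ≤ (n : ℤ) - 1 := by omega
    have h4 : (0 : ℤ) ≤ Ctx.triv P ψ := Int.natCast_nonneg _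
    nlinarith [mul_nonneg h3 (sub_nonneg.mpr h2)]
  have hkey'' : (((Ctx.triv P ψ : ℤ) : ℝ) - |(C.coef ψ : ℝ)| - 1) * ((n : ℝ) - 1) ≤ d := by
    have := (Int.cast_le (R := ℝ)).mpr hkey'
    push_cast at this
    push_cast
    exact this
  refine le_trans ?_ hkey''
  have h3 : (0 : ℝ) ≤ (n : ℝ) - 1 := by
    have : (1 : ℝ) ≤ n := by exact_mod_cast hn1.le
    linarith
  exact mul_le_mul_of_nonneg_right (by push_cast; linarith) h3

omit [Fact p.Prime] in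
theorem Ctx.share [IsSimpleGroup G] (C : Ctx P n e) (hI : 2 ≤ C.M → Nonempty (Ctx.Img C))
    {β' : G → ℂ} {c' : Cfsg.IrrCharacter G → ℤ} {B : ℕ} (hβ'c : Cfsg.IsClassFunction G β')
    (hc' : ∀ ψ : Cfsg.IrrCharacter G, Cfsg.classInner β' ψ = c' ψ) (hc'1 : c' irrOne = 1)
    (hc'sq : ∑ ψ, c' ψ ^ 2 = (B : ℤ) + 1) (hvan : ∀ x ∈ P, β' x = 0) (hlt : e * B + 1 < n)
    {ψ : Cfsg.IrrCharacter G} (hψ : ψ ≠ irrOne) {d : ℕ} (hd : (ψ : G → ℂ) 1 = d)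
    (hc'ψ : c' ψ ≠ 0) : Rigid n d (C.coef ψ) := by
  classical
  rcases C.rigid_or_img hI hψ with h0 | ⟨hM2, I, χ₀, hχ₀, hψ0⟩
  · exact C.rigid hψ h0 hd
  exfalso
  have hy' : ∀ χ ∈ rel P,
      Cfsg.classInner β' (Cfsg.indFun (nrm P) (C.dif χ)) = ((0 : ℤ) : ℂ) := by
    intro χ hχ
    rw [frobenius_reciprocity' (nrm P) _ hβ'c, Int.cast_zero, classInner_def]
    refine mul_eq_zero_of_right _ (Finset.sum_eq_zero fun x _ => ?_)
    by_cases hx : (x : G) ∈ P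
    · rw [hvan _ hx, zero_mul]
    · rw [C.dif_eq_zero hχ (fun h => hx h), map_zero, mul_zero]
  have himg : ∀ χ ∈ rel P, I.ε χ * c' (I.μ χ) = 0 + C.dg χ * (I.ε C.θ * c' (I.μ C.θ)) :=
    fun χ hχ => C.img_coeff I hc' hχ (hy' χ hχ)
  set y := I.ε C.θ * c' (I.μ C.θ) with hy
  have hy0 : y ≠ 0 := by
    intro h0
    have h1 := himg χ₀ hχ₀
    simp only [h0, mul_zero, add_zero] at h1
    rw [hψ0] at hc'ψ
    rcases mul_eq_zero.mp h1 with h2 | h2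
    · rcases I.sign χ₀ hχ₀ with e1 | e1 <;> omega
    · exact hc'ψ h2
  have hb := C.img_bessel I hM2 hc'1 hc'sq
  have hge : (C.M : ℤ) ≤ ∑ χ ∈ rel P, c' (I.μ χ) ^ 2 := by
    rw [Ctx.M]
    push_cast
    refine Finset.sum_le_sum fun χ hχ => ?_
    have h2 : c' (I.μ χ) ^ 2 = (I.ε χ * c' (I.μ χ)) ^ 2 := by
      rcases I.sign χ hχ with e1 | e1 <;> simp [e1]
    rw [h2, himg χ hχ, zero_add, mul_pow]
    refine le_mul_of_one_le_right (sq_nonneg _) ?_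
    have : 0 < y ^ 2 := by positivity
    omega
  have hMB : C.M ≤ B := by exact_mod_cast hge.trans hb
  have := C.M_eq
  nlinarith

/-- Existence of the exceptional function. -/
theorem exists_exceptional [IsSimpleGroup G] (hp : p ≠ 2) (P : Sylow p G) (hP1 : (P : Subgroup G) ≠ ⊥)
    (hTI : Cfsg.IsTISubset ((P : Subgroup G) : Set G))
    (hlt : (P : Subgroup G) < Subgroup.normalizer ((P : Subgroup G) : Set G))
    (hC : ∀ k ∈ (P : Subgroup G), k ≠ 1 → Subgroup.centralizer ({k} : Set G) ≤ (P : Subgroup G))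
    {n e : ℕ} (hn : Nat.card (P : Subgroup G) = n)
    (he : ((P : Subgroup G).subgroupOf (Subgroup.normalizer ((P : Subgroup G) : Set G))).index = e) :
    e ∣ n - 1 ∧ ∃ (β : G → ℂ) (c : Cfsg.IrrCharacter G → ℤ), Exceptional (P : Subgroup G) n e β c := by
  classical
  haveI := Fintype.ofFinite (nrm (P : Subgroup G))
  obtain ⟨C⟩ := Ctx.exists_of_sylow P.2 hP1 hTI hC hn he
  have hI : 2 ≤ C.M → Nonempty (Ctx.Img C) := by
    intro hM2
    rcases Cfsg.Agent.S1533.result p hp P hP1 hTI hlt hC with ⟨-, -, hone⟩ | hco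
    · exfalso
      rw [hn, he] at hone
      have := C.M_eq
      have := C.index_pos
      nlinarith
    · exact C.exists_img hco
  refine ⟨⟨C.M, by have := C.M_eq; omega⟩, C.beta, C.coef, C.beta_class, C.inner_beta, C.coef_one, C.coef_sq,
    ?_, ?_, ?_, ?_, ?_, fun z hzN hzP ψ hψ d hd => C.norm_le hI hzN hzP hψ hd⟩
  · intro g hg
    refine indFun_eq_zero_of_forall _ fun y hy => ?_
    by_cases hyP : y⁻¹ * g * y ∈ (P : Subgroup G)
    · have hg1 := hg y hyP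
      rw [show (⟨y⁻¹ * g * y, hy⟩ : nrm (P : Subgroup G)) = 1 from Subtype.ext (by simp [hg1])]
      exact C.al_one
    · exact C.al_eq_zero fun h => hyP (Subgroup.mem_subgroupOf.mp h)
  · rw [Ctx.beta, indFun_one, C.al_one, mul_zero]
  · intro f a hf hfa
    rw [Ctx.beta, frobenius_reciprocity (nrm (P : Subgroup G)) C.al hf, classInner_def]
    have h1 : ∑ x, C.al x * conj (f x) = ∑ x, C.al x * conj a := by
      refine Finset.sum_congr rfl fun x _ => ?_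
      by_cases hx : x ∈ ker (P : Subgroup G)
      · by_cases hx1 : x = 1
        · simp [hx1, C.al_one]
        · rw [hfa _ (Subgroup.mem_subgroupOf.mp hx) fun e1 => hx1 (Subtype.ext e1)]
      · simp [C.al_eq_zero hx]
    have h2 := C.al_inner_one
    rw [classInner_def] at h2
    simp only [map_one, mul_one] at h2
    rw [h1, ← Finset.sum_mul, ← mul_assoc, h2, one_mul]
  · intro ψ hψ d hd
    rcases C.rigid_or_img hI hψ with h0 | ⟨hM2, I, χ₀, hχ₀, rfl⟩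
    · exact Or.inl (C.rigid hψ h0 hd)
    · exact Or.inr (C.member hM2 I hχ₀ hd)
  · intro β' c' B h1 h2 h3 h4 h5 h6 ψ hψ d hd _ hc'ψ
    exact C.share hI h1 h2 h3 h4 h5 h6 hψ hd hc'ψ

end CfsgLib.SixSpectrum
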