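import Mathlib
import Cfsg.Agent.Lib.SixSpectrum.Local
import Cfsg.Agent.Lib.SixSpectrum.Frob
import Cfsg.Agent.Lib.SixSpectrum.Arith
import Cfsg.Agent.Lib.FGS.TIHall
import Cfsg.Agent.Lib.Invol.BaerSuzuki
import Cfsg.Agent.Lib.Char.ClassAlgebra
import Cfsg.Agent.Lib.Char.Integral

/-!
# Simple groups with element orders at most five: the two exceptional functions
-/

set_option autoImplicit false

namespace CfsgLib.SixSpectrum

open CfsgLib.Char Subgroup
open scoped ComplexConjugate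

universe u

variable {G : Type u} [Group G] [Fintype G]

/-- The data attached to a prime `p ∈ {3, 5}`. -/
structure PData (p : ℕ) [Fact p.Prime] (G : Type u) [Group G] [Fintype G] where
  P : Sylow p G
  a : ℕ
  e : ℕ
  a_pos : 1 ≤ a
  card_P : Nat.card (P : Subgroup G) = p ^ a
  index_eq : ((P : Subgroup G).subgroupOf (normalizer ((P : Subgroup G) : Set G))).index = e
  e_list : e = 2 ∨ e = 4 ∨ e = 8 ∨ (p = 3 ∧ e = 5) ∨ (p = 5 ∧ e = 3)
  e_dvd : e ∣ p ^ a - 1
  sylow_mod : p ^ a ∣ Nat.card (Sylow p G) - 1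
  β : G → ℂ
  c : Cfsg.IrrCharacter G → ℤ
  exc : Exceptional (P : Subgroup G) (p ^ a) e β c

theorem isMulCommutative_of_simple_pgroup [IsSimpleGroup G] {p : ℕ} [Fact p.Prime] (hG : IsPGroup p G) :
    IsMulCommutative G := by
  haveI := hG.center_nontrivial
  rcases IsSimpleGroup.eq_bot_or_eq_top_of_normal (center G) inferInstance with e | e
  · exact absurd e ((Subgroup.nontrivial_iff_ne_bot _).mp ‹_›)
  · exact ⟨⟨fun x y => (mem_center_iff.mp (e ▸ mem_top x) y).symm⟩⟩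

theorem normalizer_ne_sylow [IsSimpleGroup G] (hna : ¬ IsMulCommutative G) {p : ℕ} [Fact p.Prime]
    (P : Sylow p G) (hP1 : (P : Subgroup G) ≠ ⊥) (hTI : Cfsg.IsTISubset ((P : Subgroup G) : Set G)) :
    normalizer ((P : Subgroup G) : Set G) ≠ (P : Subgroup G) := by
  intro he
  set H' := (P : Subgroup G).subgroupOf (normalizer ((P : Subgroup G) : Set G)) with hH'
  have htop : H' = ⊤ := by rw [hH', subgroupOf_eq_top, he]
  obtain ⟨N, hN, hc⟩ := CfsgLib.FGS.exists_normal_complement_of_TI_hall (P : Subgroup G) hTI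
    (by rw [show H'.index = 1 from index_eq_one.mpr htop]; exact Nat.coprime_one_right _)
    ⟨⊥, inferInstance, by rw [← hH', htop]; exact isComplement'_bot_top⟩
  rcases hN.eq_bot_or_eq_top with rfl | rfl
  · have hP : (P : Subgroup G) = ⊤ := isComplement'_bot_left.mp hc
    exact hna (isMulCommutative_of_simple_pgroup (P.2.of_equiv ((MulEquiv.subgroupCongr hP).trans topEquiv)))
  · exact hP1 (isComplement'_top_left.mp hc)

theorem exists_pdata [IsSimpleGroup G] (hna : ¬ IsMulCommutative G) (h : Small G) {p : ℕ} [Fact p.Prime]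
    (hp : p = 3 ∨ p = 5) (hd : p ∣ Nat.card G) : Nonempty (PData p G) := by
  obtain ⟨P⟩ := (inferInstance : Nonempty (Sylow p G))
  obtain ⟨a, ha⟩ := IsPGroup.iff_card.mp P.2
  have ha1 : 1 ≤ a := by
    have := P.dvd_card_of_dvd_card hd
    rw [ha] at this
    by_contra hc
    rw [show a = 0 by omega, pow_zero] at this
    exact (Fact.out : p.Prime).ne_one (Nat.dvd_one.mp this)
  have hP1 : (P : Subgroup G) ≠ ⊥ := fun e => by
    rw [e, card_bot] at ha
    exact (Fact.out : p.Prime).ne_one (Nat.dvd_one.mp (ha ▸ dvd_pow_self p (by omega)))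
  have hTI := h.isTI hp P
  have hne := normalizer_ne_sylow hna P hP1 hTI
  have hlt : (P : Subgroup G) < normalizer ((P : Subgroup G) : Set G) := lt_of_le_of_ne le_normalizer hne.symm
  obtain ⟨hed, β, c, hexc⟩ := exists_exceptional (by omega) P hP1 hTI hlt
    (fun k hk hk1 => h.centralizer_le hp P hk hk1) ha rfl
  have hlist := h.normalizer_index hp P hP1 rfl
  refine ⟨⟨P, a, _, ha1, ha, rfl, ?_, hed, ha ▸ h.card_sylow_mod hp P, β, c, hexc⟩⟩
  rcases hlist with e1 | e1 | e1 | e1 | e1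
  · exact absurd (le_antisymm le_normalizer (subgroupOf_eq_top.mp (index_eq_one.mp e1))).symm hne
  · exact Or.inl e1
  · exact Or.inr (Or.inl e1)
  · exact Or.inr (Or.inr (Or.inl e1))
  · rcases hp with rfl | rfl
    · exact Or.inr (Or.inr (Or.inr (Or.inl ⟨rfl, e1⟩)))
    · exact Or.inr (Or.inr (Or.inr (Or.inr ⟨rfl, e1⟩)))

namespace PData

variable {p : ℕ} [Fact p.Prime] (D : PData p G)
include D

theorem e_le : 2 ≤ D.e ∧ D.e ≤ 8 := by have := D.e_list; omega

theorem card_normalizer : Nat.card (normalizer ((D.P : Subgroup G) : Set G)) = p ^ D.a * D.e := by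
  rw [← D.index_eq, ← D.card_P,
    ← ((D.P : Subgroup G).subgroupOf (normalizer ((D.P : Subgroup G) : Set G))).card_mul_index,
    Nat.card_congr (subgroupOfEquivOfLe (le_normalizer (H := (D.P : Subgroup G)))).toEquiv]

theorem card_sylow : Nat.card (Sylow p G) * (p ^ D.a * D.e) = Nat.card G := by
  rw [← D.card_normalizer]
  exact (congrArg (· * _) D.P.card_eq_index_normalizer).trans (index_mul_card _)

theorem abs_sum : ∑ ψ ∈ Finset.univ.erase irrOne, |D.c ψ| ≤ (D.e : ℤ) ∧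
    ∀ ψ, ψ ≠ irrOne → D.c ψ ^ 2 ≤ (D.e : ℤ) := by
  classical
  have h := D.exc.sq
  rw [← Finset.add_sum_erase _ _ (Finset.mem_univ irrOne), D.exc.princ] at h
  refine ⟨?_, fun ψ hψ => ?_⟩
  · have hle : ∑ ψ ∈ Finset.univ.erase irrOne, |D.c ψ| ≤ ∑ ψ ∈ Finset.univ.erase irrOne, D.c ψ ^ 2 := by
      refine Finset.sum_le_sum fun ψ _ => ?_
      rw [← sq_abs]
      exact Int.le_self_sq _
    omega
  · have h1 := Finset.single_le_sum (f := fun φ => D.c φ ^ 2) (fun φ _ => sq_nonneg (D.c φ))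
      (Finset.mem_erase.mpr ⟨hψ, Finset.mem_univ ψ⟩)
    omega

/-- Degrees of the nonprincipal characters involved are prime to `p`. -/
theorem not_dvd_degree (hp : p = 3 ∨ p = 5) {ψ : Cfsg.IrrCharacter G} (hψ : ψ ≠ irrOne) (hc : D.c ψ ≠ 0)
    {d : ℕ} (hd : (ψ : G → ℂ) 1 = d) : ¬ p ∣ d := by
  intro hpd
  have hp3 : 3 ≤ p := by omega
  have hc8 : D.c ψ ^ 2 ≤ 8 := (D.abs_sum.2 ψ hψ).trans (by have := D.e_le; omega)
  have hpd' : (p : ℤ) ∣ (d : ℤ) := Int.natCast_dvd_natCast.mpr hpd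
  have hpn : (p : ℤ) ∣ ((p ^ D.a : ℕ) : ℤ) :=
    Int.natCast_dvd_natCast.mpr (dvd_pow_self p (by have := D.a_pos; omega))
  rcases D.exc.cases ψ hψ d hd with ⟨k, -, hk⟩ | ⟨M, d0, σ, x, b, hM, hM2, hd0, hσ, hbes, hb, hcv, hdvd⟩
  · have hpc : (p : ℤ) ∣ D.c ψ := by
      have : D.c ψ = d - k * ((p ^ D.a : ℕ) : ℤ) := by linarith
      rw [this]
      exact dvd_sub hpd' (dvd_mul_of_dvd_right hpn _)
    have h1 := Int.le_of_dvd (abs_pos.mpr hc) ((dvd_abs _ _).mpr hpc)
    have h2 := sq_abs (D.c ψ)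
    nlinarith
  · have hb0 : b ≠ 0 := fun e => hc (by rw [hcv, e, mul_zero])
    have hd01 : d0 = 1 := by
      obtain ⟨j, -, rfl⟩ := (Nat.dvd_prime_pow Fact.out).mp hd0
      rcases Nat.eq_zero_or_pos j with rfl | hj
      · simp
      exfalso
      have h3 : p ≤ p ^ j := Nat.le_self_pow (by omega) p
      have h4 : D.c ψ ^ 2 = ((p ^ j : ℕ) : ℤ) ^ 2 * b ^ 2 := by
        rw [hcv]; rcases hσ with rfl | rfl <;> ring
      have h5 : (1 : ℤ) ≤ b ^ 2 := by have : 0 < b ^ 2 := by positivity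
                                      omega
      have h6 : (9 : ℤ) ≤ ((p ^ j : ℕ) : ℤ) ^ 2 := by
        have : (3 : ℤ) ≤ ((p ^ j : ℕ) : ℤ) := by exact_mod_cast hp3.trans h3
        nlinarith
      nlinarith
    subst hd01
    refine member_not_dvd hp D.a_pos D.e_list hM hM2 (hb.imp (fun h => h.2) id) hb0 hbes ?_
    have h1 : (p : ℤ) ∣ σ * ((1 : ℕ) : ℤ) * (D.e + 1 + x) := by
      have := dvd_sub hpd' ((hpn.trans hdvd))
      simpa using this
    rcases hσ with rfl | rfl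
    · simpa using h1
    · have h2 : (p : ℤ) ∣ -((D.e : ℤ) + 1 + x) := by
        convert h1 using 1
        push_cast
        ring
      exact dvd_neg.mp h2

end PData

theorem eq_one_of_two_pgroups {p q : ℕ} [hp : Fact p.Prime] [hq : Fact q.Prime] (hpq : p ≠ q) {g : G}
    {H K : Subgroup G} (hH : IsPGroup p H) (hK : IsPGroup q K) {x y : G} (hx : x⁻¹ * g * x ∈ H)
    (hy : y⁻¹ * g * y ∈ K) : g = 1 := by
  obtain ⟨i, hi⟩ := hH ⟨_, hx⟩
  obtain ⟨j, hj⟩ := hK ⟨_, hy⟩
  have e : ∀ w : G, orderOf (w⁻¹ * g * w) = orderOf g := fun w =>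
    (SemiconjBy.orderOf_eq w⁻¹ (by show w⁻¹ * g = w⁻¹ * g * w * w⁻¹; group)).symm
  have h1 := orderOf_dvd_of_pow_eq_one (congrArg Subtype.val hi : (x⁻¹ * g * x) ^ p ^ i = 1)
  have h2 := orderOf_dvd_of_pow_eq_one (congrArg Subtype.val hj : (y⁻¹ * g * y) ^ q ^ j = 1)
  rw [e] at h1 h2
  exact orderOf_eq_one_iff.mp (Nat.eq_one_of_dvd_coprimes
    (Nat.coprime_pow_primes i j hp.out hq.out hpq) h1 h2)

/-- Distinct primes share a nonprincipal character. -/
theorem exists_shared {p q : ℕ} [Fact p.Prime] [Fact q.Prime] (hpq : p ≠ q) (D : PData p G) (E : PData q G) :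
    ∃ ψ : Cfsg.IrrCharacter G, ψ ≠ irrOne ∧ D.c ψ ≠ 0 ∧ E.c ψ ≠ 0 := by
  classical
  have h0 : Cfsg.classInner D.β E.β = 0 := by
    rw [classInner_def]
    refine mul_eq_zero_of_right _ (Finset.sum_eq_zero fun g _ => ?_)
    by_cases h1 : D.β g = 0
    · rw [h1, zero_mul]
    by_cases h2 : E.β g = 0
    · rw [h2, map_zero, mul_zero]
    exfalso
    have hA : ∃ y : G, y⁻¹ * g * y ∈ (D.P : Subgroup G) ∧ g ≠ 1 := by
      by_contra hno
      push Not at hno
      exact h1 (D.exc.supp g hno)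
    have hB : ∃ y : G, y⁻¹ * g * y ∈ (E.P : Subgroup G) ∧ g ≠ 1 := by
      by_contra hno
      push Not at hno
      exact h2 (E.exc.supp g hno)
    obtain ⟨x, hx, hg1⟩ := hA
    obtain ⟨y, hy, -⟩ := hB
    exact hg1 (eq_one_of_two_pgroups hpq D.P.2 E.P.2 hx hy)
  rw [classInner_eq_sum D.exc.cls] at h0
  simp only [D.exc.coeff, E.exc.coeff, map_intCast] at h0
  have h' : ∑ ψ, D.c ψ * E.c ψ = 0 := by exact_mod_cast h0
  rw [← Finset.add_sum_erase _ _ (Finset.mem_univ irrOne), D.exc.princ, E.exc.princ] at h'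
  by_contra hno
  push Not at hno
  rw [Finset.sum_eq_zero (fun ψ hψ => by
    rcases eq_or_ne (D.c ψ) 0 with e | e
    · rw [e, zero_mul]
    · rw [hno ψ (Finset.ne_of_mem_erase hψ) e, mul_zero])] at h'
  norm_num at h'

theorem vanish_on_other {p q : ℕ} [Fact p.Prime] [Fact q.Prime] (hpq : p ≠ q) (D : PData p G) (E : PData q G)
    {x : G} (hx : x ∈ (D.P : Subgroup G)) : E.β x = 0 := by
  rcases eq_or_ne x 1 with rfl | h
  · exact E.exc.one
  refine E.exc.supp x fun y hy => ?_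
  exact eq_one_of_two_pgroups hpq D.P.2 E.P.2 (x := 1) (by simpa using hx) hy

theorem two_le_degree [IsSimpleGroup G] (hna : ¬ IsMulCommutative G) {ψ : Cfsg.IrrCharacter G}
    (hψ : ψ ≠ irrOne) {d : ℕ} (hd : (ψ : G → ℂ) 1 = d) : 2 ≤ d := by
  by_contra hlt
  obtain ⟨d', hd0, hd'⟩ := exists_degree_pos ψ.2
  have e : d = d' := by exact_mod_cast hd.symm.trans hd'
  have h1 : (ψ : G → ℂ) 1 = 1 := by rw [hd, show d = 1 by omega, Nat.cast_one]
  have hχ := isCharacter_of_isIrr ψ.2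
  rcases IsSimpleGroup.eq_bot_or_eq_top_of_normal _ (MonoidHom.normal_ker (linearHom hχ h1)) with hk | hk
  · have hinj := (MonoidHom.ker_eq_bot_iff _).mp hk
    exact hna ⟨⟨fun a b => hinj (by rw [map_mul, map_mul, mul_comm])⟩⟩
  · refine hψ (Subtype.ext (funext fun g => ?_))
    have hg : linearHom hχ h1 g = 1 := MonoidHom.mem_ker.mp (hk ▸ mem_top g)
    rw [← linearHom_apply hχ h1 g, hg, irrOne_apply]
    rfl

theorem only_primes (h : Small G) {r : ℕ} (hr : r.Prime) (hd : r ∣ Nat.card G) : r = 2 ∨ r = 3 ∨ r = 5 :=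
  h.prime_le hr hd

theorem card_eq (h : Small G) (T : Sylow 2 G) {p q : ℕ} [Fact p.Prime] [Fact q.Prime]
    (hpq : p = 3 ∧ q = 5 ∨ p = 5 ∧ q = 3) (P : Sylow p G) (Q : Sylow q G) :
    Nat.card G = Nat.card (T : Subgroup G) * Nat.card (P : Subgroup G) * Nat.card (Q : Subgroup G) := by
  rw [T.card_eq_multiplicity, P.card_eq_multiplicity, Q.card_eq_multiplicity]
  conv_lhs => rw [← Nat.prod_factorization_pow_eq_self (n := Nat.card G) Nat.card_pos.ne']
  rw [Finsupp.prod_of_support_subset _ (s := ({2, 3, 5} : Finset ℕ)) (fun r hr => by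
    rw [Nat.support_factorization, Nat.mem_primeFactors] at hr
    rcases only_primes h hr.1 hr.2.1 with rfl | rfl | rfl <;> simp) _ (fun r _ => pow_zero r)]
  rcases hpq with ⟨rfl, rfl⟩ | ⟨rfl, rfl⟩
  · rw [Finset.prod_insert (by decide), Finset.prod_insert (by decide), Finset.prod_singleton, mul_assoc]
  · rw [Finset.prod_insert (by decide), Finset.prod_insert (by decide), Finset.prod_singleton]; ring

end CfsgLib.SixSpectrum
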