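import Mathlib
import Cfsg.Agent.Lib.SixSpectrum.Setup

/-!
# The bound on the Sylow 2-subgroup from a real element of order 3 or 5
-/

set_option autoImplicit false

namespace CfsgLib.SixSpectrum

open CfsgLib.Char Subgroup
open scoped ComplexConjugate

universe u

variable {G : Type u} [Group G] [Fintype G]

theorem exists_central_involution (h : Small G) (T : Sylow 2 G) (h2 : 2 ∣ Nat.card G) :
    ∃ z : G, orderOf z = 2 ∧ Nat.card (centralizer ({z} : Set G)) = Nat.card (T : Subgroup G) := by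
  have hd := T.dvd_card_of_dvd_card h2
  haveI : Nontrivial (T : Subgroup G) := Finite.one_lt_card_iff_nontrivial.mp
    (lt_of_lt_of_le one_lt_two (Nat.le_of_dvd Nat.card_pos hd))
  haveI := T.2.center_nontrivial
  have hc2 : 2 ∣ Nat.card (center (T : Subgroup G)) := by
    obtain ⟨n, hn0, hn⟩ := (T.2.to_subgroup _).nontrivial_iff_card.mp (inferInstance : Nontrivial (center (T : Subgroup G)))
    exact hn ▸ dvd_pow_self 2 hn0.ne'
  obtain ⟨⟨⟨z, hzT⟩, hzc⟩, hz⟩ := exists_prime_orderOf_dvd_card' 2 hc2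
  have hz' : orderOf z = 2 := by
    rw [Subgroup.orderOf_mk, Subgroup.orderOf_mk] at hz
    exact hz
  refine ⟨z, hz', le_antisymm ?_ ?_⟩
  · have hz1 : z ≠ 1 := fun e => by rw [e, orderOf_one] at hz'; omega
    have hC := h.isPGroup_centralizer (p := 2) (k := 1) (by rw [pow_one, ← hz', pow_orderOf_eq_one]) hz1
    obtain ⟨k, hk⟩ := IsPGroup.iff_card.mp hC
    rw [hk, T.card_eq_multiplicity]
    exact Nat.pow_le_pow_right two_pos
      ((Nat.prime_two.pow_dvd_iff_le_factorization Nat.card_pos.ne').mp (hk ▸ card_subgroup_dvd_card _))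
  · refine card_le_of_le fun t ht => mem_centralizer_singleton_iff.mpr ?_
    exact congrArg Subtype.val (mem_center_iff.mp hzc ⟨t, ht⟩)

/-- A central involution inverts an element of order three or five. -/
theorem exists_real [IsSimpleGroup G] (hna : ¬ IsMulCommutative G) (h : Small G) (T : Sylow 2 G)
    (h2 : 2 ∣ Nat.card G) :
    ∃ p, (p = 3 ∨ p = 5) ∧ ∀ (_ : Fact p.Prime) (P : Sylow p G), ∃ z : G, orderOf z = 2 ∧
      Nat.card (centralizer ({z} : Set G)) = Nat.card (T : Subgroup G) ∧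
      z ∈ normalizer ((P : Subgroup G) : Set G) := by
  obtain ⟨z, hz, hzc⟩ := exists_central_involution h T h2
  have hz1 : z ≠ 1 := fun e => by rw [e, orderOf_one] at hz; omega
  obtain ⟨x, hx1, hxodd, hxinv⟩ := CfsgLib.Invol.exists_inverted_odd z hz fun N hN hN2 hzN => by
    rcases hN.eq_bot_or_eq_top with rfl | rfl
    · exact hz1 (mem_bot.mp hzN)
    · exact hna (isMulCommutative_of_simple_pgroup (hN2.of_equiv topEquiv))
  have hox : orderOf x = 3 ∨ orderOf x = 5 := by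
    have h5 := h x
    have h0 := orderOf_pos x
    have h1 : orderOf x ≠ 1 := fun e => hx1 (orderOf_eq_one_iff.mp e)
    obtain ⟨m, hm⟩ := hxodd
    omega
  refine ⟨orderOf x, hox, fun hp P => ?_⟩
  haveI := hp
  obtain ⟨S, hS⟩ := (IsPGroup.of_card (n := 1) (by rw [Nat.card_zpowers, pow_one]) :
    IsPGroup (orderOf x) (zpowers x)).exists_le_sylow
  have hxS : x ∈ (S : Subgroup G) := hS (mem_zpowers x)
  have hzS : z ∈ normalizer ((S : Subgroup G) : Set G) := by
    by_contra hzn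
    exact hx1 (h.isTI hox S z hzn x hxS (by rw [hxinv]; exact inv_mem hxS))
  obtain ⟨g, hg⟩ := MulAction.exists_smul_eq G S P
  refine ⟨g * z * g⁻¹, ?_, ?_, ?_⟩
  · rw [← hz]; exact (SemiconjBy.orderOf_eq g (by show g * z = g * z * g⁻¹ * g; group)).symm
  · rw [← hzc]
    refine (Nat.card_congr ((MulAut.conj g).toEquiv.subtypeEquiv fun y => ?_)).symm
    exact CfsgLib.HJType.mem_centralizer_conj.symm
  · refine Sylow.smul_eq_iff_mem_normalizer.mp ?_
    rw [← hg, ← mul_smul, inv_mul_cancel_right, mul_smul, Sylow.smul_eq_iff_mem_normalizer.mpr hzS]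

namespace PData

variable {p : ℕ} [Fact p.Prime] (D : PData p G)

theorem count_eq (hp : p = 3 ∨ p = 5) (h : Small G) {z : G} (hz : orderOf z = 2)
    (hzN : z ∈ normalizer ((D.P : Subgroup G) : Set G)) {x : G} (hx : x ∈ (D.P : Subgroup G)) (hx1 : x ≠ 1) :
    Nat.card {q : G × G // IsConj z q.1 ∧ IsConj z q.2 ∧ q.1 * q.2 = x} = p ^ D.a := by
  have hp2 : p ≠ 2 := by omega
  obtain ⟨hzz, hz1⟩ := CfsgLib.HJType.orderOf_two_iff.mp hz
  have hzi : z⁻¹ = z := inv_eq_of_mul_eq_one_right hzz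
  have hn : ∀ v ∈ (D.P : Subgroup G), z * v * z⁻¹ ∈ (D.P : Subgroup G) :=
    fun v hv => (mem_normalizer_iff.mp hzN v).mp hv
  have hinv := h.inverts hp2 D.P.2 hz hn
  have hconj : ∀ v ∈ (D.P : Subgroup G), IsConj z (z * v) := by
    intro v hv
    have hvp := h.pow_eq_one hp D.P.2 hv
    obtain ⟨r, hr, hrv⟩ : ∃ r ∈ (D.P : Subgroup G), r * r = v := by
      refine ⟨v ^ ((p + 1) / 2), pow_mem hv _, ?_⟩
      rw [← pow_add, show (p + 1) / 2 + (p + 1) / 2 = p + 1 by omega, pow_succ, hvp, one_mul]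
    refine isConj_iff.mpr ⟨r⁻¹, ?_⟩
    have e := hinv r hr
    rw [inv_inv, ← hrv]
    calc r⁻¹ * z * r = (z * r * z⁻¹) * z * r := by rw [e]
      _ = z * (r * r) := by group
  have hord : ∀ u : G, IsConj z u → u * u = 1 ∧ u ≠ 1 := by
    intro u hu
    obtain ⟨g, rfl⟩ := isConj_iff.mp hu
    refine CfsgLib.HJType.orderOf_two_iff.mp ?_
    rw [← hz]; exact (SemiconjBy.orderOf_eq g (by show g * z = g * z * g⁻¹ * g; group)).symm
  rw [← D.card_P]
  refine (Nat.card_congr (Equiv.ofBijective (fun v : (D.P : Subgroup G) =>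
    (⟨(z * v, z * (v * x)), hconj v v.2, hconj _ (mul_mem v.2 hx), ?_⟩ :
      {q : G × G // IsConj z q.1 ∧ IsConj z q.2 ∧ q.1 * q.2 = x})) ⟨?_, ?_⟩)).symm
  · show z * (v : G) * (z * ((v : G) * x)) = x
    have e := hinv v v.2
    rw [hzi] at e
    calc z * (v : G) * (z * ((v : G) * x)) = (z * (v : G) * z) * (v : G) * x := by group
      _ = x := by rw [e]; group
  · intro a b hab
    exact Subtype.ext (mul_left_cancel (congrArg (fun q => q.1.1) hab))
  · rintro ⟨⟨u, w⟩, hu, hw, huw⟩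
    simp only at hu hw huw
    obtain ⟨huu, hu1⟩ := hord u hu
    obtain ⟨hww, -⟩ := hord w hw
    have hui : u⁻¹ = u := inv_eq_of_mul_eq_one_right huu
    have hux : u * x * u⁻¹ = x⁻¹ := by
      rw [← huw, mul_inv_rev, hui, inv_eq_of_mul_eq_one_right hww]
      calc u * (u * w) * u = (u * u) * (w * u) := by group
        _ = w * u := by rw [huu, one_mul]
    have hzx : z * x * z⁻¹ = x⁻¹ := hinv x hx
    have hzu : z * u ∈ (D.P : Subgroup G) := by
      refine h.centralizer_le hp D.P hx hx1 (mem_centralizer_singleton_iff.mpr ?_)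
      have e : z * x⁻¹ * z⁻¹ = x := by
        rw [← hzx, hzi]
        calc z * (z * x * z) * z = (z * z) * x * (z * z) := by group
          _ = x := by rw [hzz, one_mul, mul_one]
      calc z * u * x = z * (u * x * u⁻¹) * z⁻¹ * (z * u) := by group
        _ = x * (z * u) := by rw [hux, e]
    refine ⟨⟨z * u, hzu⟩, Subtype.ext (Prod.ext ?_ ?_)⟩
    · show z * (z * u) = u
      rw [← mul_assoc, hzz, one_mul]
    · show z * (z * u * x) = w
      rw [← huw]
      calc z * (z * u * (u * w)) = (z * z) * (u * u) * w := by group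
        _ = w := by rw [hzz, huu]; simp

theorem identity (hp : p = 3 ∨ p = 5) (h : Small G) {z : G} (hz : orderOf z = 2)
    (hzN : z ∈ normalizer ((D.P : Subgroup G) : Set G)) :
    ((p ^ D.a : ℕ) : ℂ) * (Nat.card (centralizer ({z} : Set G)) : ℂ) ^ 2 =
      (Nat.card G : ℂ) * ∑ ψ : Cfsg.IrrCharacter G,
        (D.c ψ : ℂ) * ((ψ : G → ℂ) z * (ψ : G → ℂ) z / (ψ : G → ℂ) 1) := by
  classical
  set f : G → ℂ := fun g =>
    (Nat.card {q : G × G // IsConj z q.1 ∧ IsConj z q.2 ∧ q.1 * q.2 = g} : ℂ) with hf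
  set k : ℂ := (Nat.card {y : G // IsConj z y} : ℂ) * (Nat.card {y : G // IsConj z y} : ℂ) / (Nat.card G : ℂ)
    with hk
  have hdec : f = fun g => ∑ ψ : Cfsg.IrrCharacter G,
      conj (k * ((ψ : G → ℂ) z * (ψ : G → ℂ) z / (ψ : G → ℂ) 1)) * (ψ : G → ℂ) g := by
    funext g
    have e : f g = conj (f g) := by simp [hf]
    rw [e]
    simp only [hf]
    rw [card_classProduct_eq, map_mul, map_sum, Finset.mul_sum]
    refine Finset.sum_congr rfl fun ψ _ => ?_
    simp only [hk, map_mul, map_div₀, Complex.conj_conj]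
    ring
  have hfc : Cfsg.IsClassFunction G f := by
    rw [hdec]
    intro a b
    exact Finset.sum_congr rfl fun ψ _ => by rw [isClassFunction_of_isIrr ψ.2 a b]
  have h1 := D.exc.const f (((p ^ D.a : ℕ) : ℂ)) hfc fun x hx hx1 => by
    simp only [hf]; rw [D.count_eq hp h hz hzN hx hx1]
  rw [map_natCast] at h1
  have h2 : Cfsg.classInner D.β f = k * ∑ ψ : Cfsg.IrrCharacter G,
      (D.c ψ : ℂ) * ((ψ : G → ℂ) z * (ψ : G → ℂ) z / (ψ : G → ℂ) 1) := by
    rw [hdec, show (fun g => ∑ ψ : Cfsg.IrrCharacter G,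
        conj (k * ((ψ : G → ℂ) z * (ψ : G → ℂ) z / (ψ : G → ℂ) 1)) * (ψ : G → ℂ) g) =
      ∑ ψ : Cfsg.IrrCharacter G, conj (k * ((ψ : G → ℂ) z * (ψ : G → ℂ) z / (ψ : G → ℂ) 1)) • (ψ : G → ℂ) by
      funext g; simp, classInner_sum_right, Finset.mul_sum]
    refine Finset.sum_congr rfl fun ψ _ => ?_
    rw [classInner_smul_right, D.exc.coeff, Complex.conj_conj]
    ring
  have hcc : (Nat.card {y : G // IsConj z y} : ℂ) * (Nat.card (centralizer ({z} : Set G)) : ℂ) = (Nat.card G : ℂ) := by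
    exact_mod_cast card_isConj_mul_card_centralizer z
  rw [h1] at h2
  rw [h2, hk, ← hcc]
  have hC : (Nat.card (centralizer ({z} : Set G)) : ℂ) ≠ 0 := by exact_mod_cast Nat.card_pos.ne'
  have hK : (Nat.card {y : G // IsConj z y} : ℂ) ≠ 0 := fun e => card_ne_zero' (G := G) (by rw [← hcc, e, zero_mul])
  field_simp

theorem bound [IsSimpleGroup G] (hna : ¬ IsMulCommutative G) (hp : p = 3 ∨ p = 5) (h : Small G) {z : G}
    (hz : orderOf z = 2) (hzN : z ∈ normalizer ((D.P : Subgroup G) : Set G)) {X Q : ℕ}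
    (hX : Nat.card (centralizer ({z} : Set G)) = X) (hG : Nat.card G = X * p ^ D.a * Q) :
    X ≤ 146 * Q ∨ X * (p ^ D.a - 1) ^ 4 ≤ 1024 * p ^ D.a * Q ^ 3 := by
  classical
  have hid := D.identity hp h hz hzN
  set n := p ^ D.a with hn
  set U : Cfsg.IrrCharacter G → ℂ := fun ψ => (ψ : G → ℂ) z * (ψ : G → ℂ) z / (ψ : G → ℂ) 1 with hU
  have hGpos : 0 < Nat.card G := Nat.card_pos
  have hXpos : 0 < X := by rw [← hX]; exact Nat.card_pos
  have hnpos : 0 < n := pow_pos (Fact.out : p.Prime).pos _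
  have hXQ : (X : ℂ) = (Q : ℂ) * ∑ ψ, (D.c ψ : ℂ) * U ψ := by
    rw [hX, hG] at hid
    push_cast at hid
    have hne : (n : ℂ) * (X : ℂ) ≠ 0 := by
      exact_mod_cast (Nat.mul_pos hnpos hXpos).ne'
    refine mul_left_cancel₀ hne ?_
    linear_combination hid
  set s := Real.sqrt (Nat.card G : ℝ) with hs
  have hs0 : 0 ≤ s := Real.sqrt_nonneg _
  have hn2 : 2 ≤ n := (Fact.out : p.Prime).two_le.trans (Nat.le_self_pow (by have := D.a_pos; omega) p)
  set D' : ℝ := (n : ℝ) - 1 with hD'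
  have hD1 : 1 ≤ D' := by
    have : (2 : ℝ) ≤ n := by exact_mod_cast hn2
    rw [hD']; linarith
  have hterm : ∀ ψ : Cfsg.IrrCharacter G, ψ ≠ irrOne → D.c ψ ≠ 0 → ‖U ψ‖ ≤ 9 + 2 * s / D' ^ 2 := by
    intro ψ hψ hc
    obtain ⟨d, hd0, hd⟩ := exists_degree_pos ψ.2
    have hd2 := two_le_degree hna hψ hd
    have hzP : z ∉ (D.P : Subgroup G) := fun hzP => by
      have := h.pow_eq_one hp D.P.2 hzP
      have h2 := orderOf_dvd_of_pow_eq_one this
      rw [hz] at h2
      omega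
    have hu := D.exc.ubound z hzN hzP ψ hψ d hd
    rw [← hn, ← hD'] at hu
    have hc2 : |(D.c ψ : ℝ)| ≤ 2 := by
      have h8 := D.abs_sum.2 ψ hψ
      have := D.e_le
      have h1 : D.c ψ ≤ 2 := by nlinarith
      have h2 : -2 ≤ D.c ψ := by nlinarith
      rw [abs_le]
      constructor
      · have : ((-2 : ℤ) : ℝ) ≤ (D.c ψ : ℝ) := by exact_mod_cast h2
        simpa using this
      · have : (D.c ψ : ℝ) ≤ ((2 : ℤ) : ℝ) := by exact_mod_cast h1
        simpa using this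
    have hd' : (2 : ℝ) ≤ d := by exact_mod_cast hd2
    have hnorm : ‖(ψ : G → ℂ) z‖ ≤ 3 + d / D' := by
      have : ‖(ψ : G → ℂ) z‖ - |(D.c ψ : ℝ)| - 1 ≤ d / D' := by
        rw [le_div_iff₀ (by linarith)]; exact hu
      linarith
    have hds : (d : ℝ) ≤ s := by
      rw [hs, Real.le_sqrt (Nat.cast_nonneg _) (Nat.cast_nonneg _)]
      have h1 := sum_degree_sq (G := G)
      choose dd _ hdd using fun χ : Cfsg.IrrCharacter G => exists_degree_pos χ.2
      rw [Finset.sum_congr rfl fun χ _ => by rw [hdd χ]] at h1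
      have h2 : ∑ χ, dd χ ^ 2 = Nat.card G := by exact_mod_cast h1
      have h3 : dd ψ = d := by exact_mod_cast (hdd ψ).symm.trans hd
      have h4 := Finset.single_le_sum (f := fun χ => dd χ ^ 2) (fun χ _ => Nat.zero_le _) (Finset.mem_univ ψ)
      rw [h2] at h4
      simp only [h3] at h4
      exact_mod_cast h4
    rw [hU]
    simp only
    rw [norm_div, norm_mul, hd, Complex.norm_natCast, div_le_iff₀ (by linarith)]
    have hn0 := norm_nonneg ((ψ : G → ℂ) z)
    have h5 : ‖(ψ : G → ℂ) z‖ * ‖(ψ : G → ℂ) z‖ ≤ 18 + 2 * (d / D') ^ 2 := by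
      nlinarith [sq_nonneg (3 - (d : ℝ) / D')]
    have h6 : 2 * ((d : ℝ) / D') ^ 2 ≤ 2 * s / D' ^ 2 * d := by
      rw [div_pow, mul_div_assoc', div_mul_eq_mul_div]
      refine div_le_div_of_nonneg_right ?_ (by positivity)
      nlinarith
    calc ‖(ψ : G → ℂ) z‖ * ‖(ψ : G → ℂ) z‖ ≤ 18 + 2 * (d / D') ^ 2 := h5
      _ ≤ 9 * d + 2 * s / D' ^ 2 * d := add_le_add (by linarith) h6
      _ = _ := by ring
  set b : ℝ := 9 + 2 * s / D' ^ 2 with hb
  have hb0 : 0 ≤ b := by positivity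
  have hsum : ‖∑ ψ, (D.c ψ : ℂ) * U ψ‖ ≤ 1 + 8 * b := by
    rw [← Finset.add_sum_erase _ _ (Finset.mem_univ irrOne), D.exc.princ]
    refine (norm_add_le _ _).trans (add_le_add ?_ ?_)
    · simp [hU, irrOne_apply]
    · refine (norm_sum_le _ _).trans ?_
      have h8 : ((∑ ψ ∈ Finset.univ.erase irrOne, |D.c ψ| : ℤ) : ℝ) ≤ 8 := by
        have := D.abs_sum.1
        have := D.e_le
        have : ∑ ψ ∈ Finset.univ.erase irrOne, |D.c ψ| ≤ (8 : ℤ) := by omega
        exact_mod_cast this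
      push_cast at h8
      refine le_trans ?_ (mul_le_mul_of_nonneg_right h8 hb0)
      rw [Finset.sum_mul]
      refine Finset.sum_le_sum fun ψ hψ => ?_
      rw [norm_mul, Complex.norm_intCast]
      rcases eq_or_ne (D.c ψ) 0 with e | e
      · simp [e]
      · exact mul_le_mul_of_nonneg_left (hterm ψ (Finset.ne_of_mem_erase hψ) e) (abs_nonneg _)
  have hXle : (X : ℝ) ≤ Q * (73 + 16 * s / D' ^ 2) := by
    have h1 := congrArg (‖·‖) hXQ
    simp only [norm_mul, Complex.norm_natCast] at h1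
    rw [h1]
    refine mul_le_mul_of_nonneg_left (hsum.trans (le_of_eq ?_)) (Nat.cast_nonneg _)
    rw [hb]; ring
  by_cases hbig : X ≤ 146 * Q
  · exact Or.inl hbig
  right
  push Not at hbig
  have hbig' : (146 : ℝ) * Q < X := by exact_mod_cast hbig
  have h1 : (X : ℝ) * D' ^ 2 ≤ 32 * Q * s := by
    have h2 : (X : ℝ) / 2 ≤ Q * (16 * s / D' ^ 2) := by linarith
    have h3 : (Q : ℝ) * (16 * s / D' ^ 2) * D' ^ 2 = Q * (16 * s) := by
      field_simp
    have := mul_le_mul_of_nonneg_right h2 (sq_nonneg D')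
    nlinarith
  have h2 : ((X : ℝ) * D' ^ 2) ^ 2 ≤ (32 * Q * s) ^ 2 := by
    exact pow_le_pow_left₀ (by positivity) h1 2
  have h3 : s ^ 2 = (X : ℝ) * n * Q := by
    rw [hs, Real.sq_sqrt (Nat.cast_nonneg _), hG]; push_cast; ring
  have h4 : (X : ℝ) * D' ^ 4 ≤ 1024 * n * Q ^ 3 := by
    have hX' : (0 : ℝ) < X := by exact_mod_cast hXpos
    refine le_of_mul_le_mul_left ?_ hX'
    rw [mul_pow (32 * (Q : ℝ)) s 2, h3] at h2
    linarith [h2, show (X : ℝ) * (X * D' ^ 4) = (X * D' ^ 2) ^ 2 by ring,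
      show (32 * (Q : ℝ)) ^ 2 * (X * n * Q) = X * (1024 * n * Q ^ 3) by ring]
  have h5 : ((X * (n - 1) ^ 4 : ℕ) : ℝ) ≤ ((1024 * n * Q ^ 3 : ℕ) : ℝ) := by
    push_cast [Nat.cast_sub (by omega : 1 ≤ n)]
    rw [← hD']
    exact h4
  exact_mod_cast h5

end PData

end CfsgLib.SixSpectrum
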