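import Mathlib
import Cfsg.Agent.Lib.SixSpectrum.Real
import Cfsg.Agent.Lib.Char.Burnside
import Cfsg.Agent.S3341
import Cfsg.Agent.S0496

/-!
# Simple groups with element orders at most five and order divisible by nine
-/

set_option autoImplicit false

namespace CfsgLib.SixSpectrum

open CfsgLib.Char Subgroup

universe u

variable {G : Type u} [Group G] [Fintype G]

theorem prime_dvd_card [IsSimpleGroup G] (hna : ¬ IsMulCommutative G) (h : Small G) :
    2 ∣ Nat.card G ∧ 3 ∣ Nat.card G ∧ 5 ∣ Nat.card G := by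
  have key : ∀ q r : ℕ, q.Prime → r.Prime → (∀ s : ℕ, s.Prime → s ∣ Nat.card G → s = q ∨ s = r) → False := by
    intro q r hq hr hall
    have hsol : Group.IsSolvable G := by
      refine isSolvable_of_card_eq_pow_mul_pow hq hr (a := Nat.card G) (b := Nat.card G) ?_
      refine (Nat.factorization_le_iff_dvd Nat.card_pos.ne'
        (mul_ne_zero (pow_ne_zero _ hq.ne_zero) (pow_ne_zero _ hr.ne_zero))).mp ?_
      intro s
      by_cases hs : s ∈ (Nat.card G).primeFactors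
      · have hs' := Nat.mem_primeFactors.mp hs
        have hlt : (Nat.card G).factorization s ≤ Nat.card G := (Nat.factorization_lt s Nat.card_pos.ne').le
        rw [Nat.factorization_mul (pow_ne_zero _ hq.ne_zero) (pow_ne_zero _ hr.ne_zero),
          Finsupp.add_apply, hq.factorization_pow, hr.factorization_pow]
        rcases hall s hs'.1 hs'.2.1 with rfl | rfl
        · rw [Finsupp.single_eq_same]; omega
        · rw [Finsupp.single_eq_same]; omega
      · rw [show (Nat.card G).factorization s = 0 from Finsupp.notMem_support_iff.mp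
          (by rwa [Nat.support_factorization])]
        exact Nat.zero_le _
    have hcomm : ∀ a b : G, a * b = b * a := IsSimpleGroup.comm_iff_isSolvable.mpr hsol
    exact hna ⟨⟨hcomm⟩⟩
  refine ⟨?_, ?_, ?_⟩
  · by_contra h2
    exact key 3 5 (by norm_num) (by norm_num) fun s hs hd => by
      rcases h.prime_le hs hd with rfl | rfl | rfl <;>
        first | exact Or.inl rfl | exact Or.inr rfl | exact absurd hd h2
  · by_contra h2
    exact key 2 5 (by norm_num) (by norm_num) fun s hs hd => by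
      rcases h.prime_le hs hd with rfl | rfl | rfl <;>
        first | exact Or.inl rfl | exact Or.inr rfl | exact absurd hd h2
  · by_contra h2
    exact key 2 3 (by norm_num) (by norm_num) fun s hs hd => by
      rcases h.prime_le hs hd with rfl | rfl | rfl <;>
        first | exact Or.inl rfl | exact Or.inr rfl | exact absurd hd h2

theorem exponent_of_two {d u a b : ℕ} (hd : d ∣ 2 ^ u * 3 ^ a * 5 ^ b) (h3 : ¬ 3 ∣ d) :
    d ∣ 2 ^ u * 5 ^ b := by
  have hc : d.Coprime (3 ^ a) := (((Nat.Prime.coprime_iff_not_dvd (by norm_num)).mpr h3).symm).pow_right a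
  exact hc.dvd_of_dvd_mul_right (by rw [mul_right_comm]; exact hd)

theorem consecutive {u d d' : ℕ} {b : ℕ} (hb : b ≤ 2) (hd : d ∣ 2 ^ u * 5 ^ b) (hd' : d' ∣ 2 ^ u * 5 ^ b)
    (h2 : 2 ≤ d) (h2' : 2 ≤ d') (hcons : d' = d + 1) : d = 4 := by
  obtain ⟨y, z, hy, hz, rfl⟩ := Nat.dvd_mul.mp hd
  obtain ⟨y', z', hy', hz', rfl⟩ := Nat.dvd_mul.mp hd'
  obtain ⟨i, -, rfl⟩ := (Nat.dvd_prime_pow Nat.prime_two).mp hy
  obtain ⟨i', -, rfl⟩ := (Nat.dvd_prime_pow Nat.prime_two).mp hy'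
  obtain ⟨j, hj, rfl⟩ := (Nat.dvd_prime_pow (by norm_num : Nat.Prime 5)).mp hz
  obtain ⟨j', hj', rfl⟩ := (Nat.dvd_prime_pow (by norm_num : Nat.Prime 5)).mp hz'
  have hjb : j ≤ 2 := hj.trans hb
  have hjb' : j' ≤ 2 := hj'.trans hb
  -- one of the two is odd
  rcases Nat.eq_zero_or_pos i with rfl | hi
  · have hne : i' ≠ 0 := by
      rintro rfl
      interval_cases j <;> interval_cases j' <;> simp_all
    have hj'0 : j' = 0 := by
      by_contra hne'
      rcases Nat.eq_zero_or_pos j with rfl | hj0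
      · simp at h2
      have a1 : 5 ∣ 5 ^ j := dvd_pow_self 5 (by omega)
      have a2 : 5 ∣ 5 ^ j' * 2 ^ i' := dvd_mul_of_dvd_left (dvd_pow_self 5 hne') _
      rw [mul_comm] at a2
      omega
    subst hj'0
    have hi' : i' ≤ 4 := by
      by_contra hc
      have : 2 ^ 5 ≤ 2 ^ i' := Nat.pow_le_pow_right two_pos (by omega)
      have : 5 ^ j ≤ 5 ^ 2 := Nat.pow_le_pow_right (by norm_num) hjb
      omega
    interval_cases j <;> interval_cases i' <;> simp_all
  · have hi'0 : i' = 0 := by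
      by_contra hne
      have a1 : 2 ∣ 2 ^ i * 5 ^ j := dvd_mul_of_dvd_left (dvd_pow_self 2 (by omega)) _
      have a2 : 2 ∣ 2 ^ i' * 5 ^ j' := dvd_mul_of_dvd_left (dvd_pow_self 2 hne) _
      omega
    subst hi'0
    have hj0 : j = 0 := by
      by_contra hne'
      rcases Nat.eq_zero_or_pos j' with rfl | hj0
      · simp at h2'
      have a1 : 5 ∣ 5 ^ j' := dvd_pow_self 5 (by omega)
      have a2 : 5 ∣ 2 ^ i * 5 ^ j := dvd_mul_of_dvd_right (dvd_pow_self 5 hne') _
      omega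
    subst hj0
    have hi' : i ≤ 4 := by
      by_contra hc
      have : 2 ^ 5 ≤ 2 ^ i := Nat.pow_le_pow_right two_pos (by omega)
      have : 5 ^ j' ≤ 5 ^ 2 := Nat.pow_le_pow_right (by norm_num) hjb'
      omega
    interval_cases j' <;> interval_cases i <;> simp_all

/-- With `[N(P) : P] = 2` two characters of consecutive degrees appear. -/
theorem index_ne_two [IsSimpleGroup G] (hna : ¬ IsMulCommutative G) [Fact (Nat.Prime 3)] (D : PData 3 G)
    {u b : ℕ} (hG : Nat.card G = 2 ^ u * 3 ^ D.a * 5 ^ b) (ha : 2 ≤ D.a) (hb : b ≤ 2) : D.e ≠ 2 := by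
  classical
  intro he
  have hsq := D.exc.sq
  rw [← Finset.add_sum_erase _ _ (Finset.mem_univ irrOne), D.exc.princ, he] at hsq
  choose dd hdd0 hdd using fun χ : Cfsg.IrrCharacter G => exists_degree_pos χ.2
  have hzero : ∑ ψ : Cfsg.IrrCharacter G, D.c ψ * (dd ψ : ℤ) = 0 := by
    have h1 := congrFun (classFun_eq_sum D.exc.cls) 1
    simp only [Finset.sum_apply, Pi.smul_apply, smul_eq_mul, D.exc.coeff, hdd, D.exc.one] at h1
    exact_mod_cast h1.symm
  set S := (Finset.univ.erase irrOne).filter fun ψ : Cfsg.IrrCharacter G => D.c ψ ≠ 0 with hS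
  have hone : ∀ ψ ∈ S, D.c ψ = 1 ∨ D.c ψ = -1 := by
    intro ψ hψ
    obtain ⟨hne, hc⟩ := Finset.mem_filter.mp hψ
    have h1 := D.abs_sum.2 ψ (Finset.ne_of_mem_erase hne)
    rw [he] at h1
    push_cast at h1
    have : D.c ψ ≤ 1 := by nlinarith
    have : -1 ≤ D.c ψ := by nlinarith
    omega
  have hsum : ∑ ψ ∈ S, D.c ψ ^ 2 = 2 := by
    rw [hS, Finset.sum_filter_of_ne (p := fun ψ => D.c ψ ≠ 0) (fun ψ _ hne => fun e => hne (by simp [e]))]
    push_cast at hsq
    linarith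
  have hcard : S.card = 2 := by
    rw [Finset.sum_congr rfl fun ψ hψ => show D.c ψ ^ 2 = (1 : ℤ) by
      rcases hone ψ hψ with e | e <;> simp [e]] at hsum
    rw [Finset.sum_const, nsmul_one] at hsum
    exact_mod_cast hsum
  obtain ⟨f, g, hfg, hSfg⟩ := Finset.card_eq_two.mp hcard
  have hfS : f ∈ S := by rw [hSfg]; simp
  have hgS : g ∈ S := by rw [hSfg]; simp
  rw [← Finset.add_sum_erase _ _ (Finset.mem_univ irrOne), D.exc.princ] at hzero
  have h1deg : dd irrOne = 1 := by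
    have := hdd (irrOne : Cfsg.IrrCharacter G)
    rw [irrOne_apply] at this
    exact_mod_cast this.symm
  rw [← Finset.sum_filter_of_ne (p := fun ψ => D.c ψ ≠ 0) (fun ψ _ hne e => hne (by simp [e])), ← hS, hSfg,
    Finset.sum_pair hfg, h1deg] at hzero
  have hdv : ∀ ψ ∈ S, ψ ≠ irrOne ∧ 2 ≤ dd ψ ∧ ¬ 3 ∣ dd ψ ∧ dd ψ ∣ 2 ^ u * 5 ^ b := by
    intro ψ hψ
    obtain ⟨hne, hc⟩ := Finset.mem_filter.mp hψ
    have hψ1 := Finset.ne_of_mem_erase hne
    have h3 := D.not_dvd_degree (Or.inl rfl) hψ1 hc (hdd ψ)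
    exact ⟨hψ1, two_le_degree hna hψ1 (hdd ψ), h3, exponent_of_two (hG ▸ degree_dvd_card ψ.2 (hdd ψ)) h3⟩
  have hbad : ∀ ψ ∈ S, dd ψ = 4 ∨ dd ψ = 5 → False := by
    intro ψ hψ h45
    have hn9 : 9 ≤ 3 ^ D.a := by
      calc 9 = 3 ^ 2 := by norm_num
        _ ≤ 3 ^ D.a := Nat.pow_le_pow_right (by norm_num) ha
    have hc1 := hone ψ hψ
    have hsmall : ∀ w : ℤ, ((3 ^ D.a : ℕ) : ℤ) ∣ w → w.natAbs < 9 → w = 0 := fun w hw hlt =>
      Int.eq_zero_of_dvd_of_natAbs_lt_natAbs hw (by rw [Int.natAbs_natCast]; omega)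
    rcases D.exc.cases ψ (hdv ψ hψ).1 (dd ψ) (hdd ψ) with ⟨k, hk, hkd⟩ | ⟨M, d0, σ, x, bb, hM, -, -, hσ, hbes, hbb, hcv, hdvd⟩
    · have h1 : ((3 ^ D.a : ℕ) : ℤ) ∣ (dd ψ : ℤ) - D.c ψ := ⟨k, by linarith⟩
      have h2 := hsmall _ h1 (by omega)
      omega
    · rw [he] at hM hbes hdvd
      have hM4 : (4 : ℤ) ≤ (M : ℤ) := by
        have : 4 ≤ M := by omega
        exact_mod_cast this
      push_cast at hbes
      have hx : x = -1 := by
        have hsqx : 3 * (1 + x) ^ 2 ≤ 2 := by nlinarith [sq_nonneg x, sq_nonneg (1 + x)]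
        have : (1 + x) ^ 2 = 0 := by nlinarith [sq_nonneg (1 + x)]
        have := pow_eq_zero_iff (n := 2) two_ne_zero |>.mp this
        linarith
      subst hx
      rcases hbb with ⟨rfl, rfl⟩ | hb1
      · push_cast at hdvd
        have h2 := hsmall _ (by exact_mod_cast hdvd) (by rcases hσ with rfl | rfl <;> omega)
        rcases hσ with rfl | rfl <;> omega
      · rw [hb1] at hcv
        simp at hcv
        omega
  obtain ⟨-, hf2, -, hfdvd⟩ := hdv f hfS
  obtain ⟨-, hg2, -, hgdvd⟩ := hdv g hgS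
  rcases hone f hfS with e1 | e1 <;> rcases hone g hgS with e2 | e2 <;> rw [e1, e2] at hzero
  · omega
  · exact hbad f hfS (Or.inl (consecutive hb hfdvd hgdvd hf2 hg2 (by omega)))
  · exact hbad g hgS (Or.inl (consecutive hb hgdvd hfdvd hg2 hf2 (by omega)))
  · omega

/-- `|P| = 9` and `[N(P) : P] = 4`. -/
theorem iso_of_index_four [IsSimpleGroup G] (h : Small G) [Fact (Nat.Prime 3)] (D : PData 3 G)
    (ha : D.a = 2) (he : D.e = 4) : Nonempty (G ≃* ↥(alternatingGroup (Fin 6))) := by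
  classical
  have hc9 : Nat.card (D.P : Subgroup G) = 9 := by rw [D.card_P, ha]; norm_num
  have hcomm : ∀ u v : ↥(D.P : Subgroup G), u * v = v * u :=
    IsPGroup.commutative_of_card_eq_prime_sq (p := 3) (by rw [hc9]; norm_num)
  have hcom' : ∀ u ∈ (D.P : Subgroup G), ∀ v ∈ (D.P : Subgroup G), u * v = v * u :=
    fun u hu v hv => congrArg Subtype.val (hcomm ⟨u, hu⟩ ⟨v, hv⟩)
  refine Cfsg.Agent.S3341.result D.P (D.P : Subgroup G) rfl ⟨⟨hcomm⟩⟩
    (fun a ha => h.pow_eq_one (Or.inl rfl) D.P.2 ha) hc9 ?_ fun s hs hs1 =>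
      le_antisymm (h.centralizer_le (Or.inl rfl) D.P hs hs1) fun t ht =>
        mem_centralizer_singleton_iff.mpr (hcom' t ht s hs)
  haveI : Nontrivial ↥(D.P : Subgroup G) := Finite.one_lt_card_iff_nontrivial.mp (by rw [hc9]; norm_num)
  obtain ⟨⟨a, haP⟩, ha1⟩ := exists_ne (1 : ↥(D.P : Subgroup G))
  have ha1' : a ≠ 1 := fun e => ha1 (Subtype.ext e)
  have hord : ∀ v ∈ (D.P : Subgroup G), v ≠ 1 → orderOf v = 3 := fun v hv hv1 =>
    orderOf_eq_prime (h.pow_eq_one (Or.inl rfl) D.P.2 hv) hv1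
  by_contra hno
  push Not at hno
  set N := normalizer ((D.P : Subgroup G) : Set G) with hN
  set K := (D.P : Subgroup G).subgroupOf N
  have hmap : ∀ q : N ⧸ K, (q.out : G) * a * (q.out : G)⁻¹ ∈ (D.P : Subgroup G) :=
    fun q => (mem_normalizer_iff.mp q.out.2 a).mp haP
  let f : N ⧸ K → {v : ↥(D.P : Subgroup G) // v ≠ 1} := fun q =>
    ⟨⟨_, hmap q⟩, fun e => ha1' (conj_eq_one_iff.mp (congrArg Subtype.val e))⟩
  have hsurj : Function.Surjective f := by
    rintro ⟨⟨v, hv⟩, hv1⟩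
    have hv1' : v ≠ 1 := fun e => hv1 (Subtype.ext e)
    obtain ⟨g, hg⟩ := hno a v (hord a haP ha1') (hord v hv hv1')
    have hgN : g ∈ N := by
      by_contra hgn
      exact ha1' (h.isTI (Or.inl rfl) D.P g hgn a haP (by rw [hg]; exact hv))
    refine ⟨((⟨g, hgN⟩ : N) : N ⧸ K), Subtype.ext (Subtype.ext ?_)⟩
    obtain ⟨⟨k, hk⟩, hk'⟩ := QuotientGroup.mk_out_eq_mul K ⟨g, hgN⟩
    show ((((⟨g, hgN⟩ : N) : N ⧸ K).out : N) : G) * a * _⁻¹ = v
    rw [hk', coe_mul, mul_inv_rev]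
    have hka : (k : G) * a = a * k := hcom' _ (mem_subgroupOf.mp hk) a haP
    calc g * (k : G) * a * ((k : G)⁻¹ * g⁻¹) = g * ((k : G) * a) * (k : G)⁻¹ * g⁻¹ := by group
      _ = v := by rw [hka, ← hg]; group
  have h1 := Nat.card_le_card_of_surjective f hsurj
  rw [← Subgroup.index_eq_card, D.index_eq, he] at h1
  have h2 : Nat.card {v : ↥(D.P : Subgroup G) // v ≠ 1} = 8 := by
    rw [Nat.card_eq_fintype_card, Fintype.card_subtype_compl, Fintype.card_subtype_eq,
      ← Nat.card_eq_fintype_card, hc9]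
  omega

/-- A simple group with element orders at most five and order divisible by nine is `A₆`. -/
theorem iso_alt_six [IsSimpleGroup G] (hna : ¬ IsMulCommutative G) (h : Small G) (h9 : 9 ∣ Nat.card G) :
    Nonempty (G ≃* ↥(alternatingGroup (Fin 6))) := by
  classical
  haveI h2p : Fact (Nat.Prime 2) := ⟨Nat.prime_two⟩
  haveI h3p : Fact (Nat.Prime 3) := ⟨Nat.prime_three⟩
  haveI h5p : Fact (Nat.Prime 5) := ⟨by norm_num⟩
  obtain ⟨hd2, hd3, hd5⟩ := prime_dvd_card hna h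
  obtain ⟨T⟩ := (inferInstance : Nonempty (Sylow 2 G))
  obtain ⟨u, hu⟩ := IsPGroup.iff_card.mp T.2
  obtain ⟨D⟩ := exists_pdata hna h (Or.inl rfl) hd3
  obtain ⟨E⟩ := exists_pdata hna h (Or.inr rfl) hd5
  have hG : Nat.card G = 2 ^ u * 3 ^ D.a * 5 ^ E.a := by
    rw [card_eq h T (Or.inl ⟨rfl, rfl⟩) D.P E.P, hu, D.card_P, E.card_P]
  have ha2 : 2 ≤ D.a := by
    by_contra hc
    have h1 : (9 : ℕ) ∣ Nat.card (D.P : Subgroup G) :=
      D.P.pow_dvd_card_of_pow_dvd_card (n := 2) ((show (9 : ℕ) = 3 ^ 2 by norm_num) ▸ h9)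
    rw [D.card_P, show D.a = 1 by have := D.a_pos; omega] at h1
    norm_num at h1
  have hE1 := E.a_pos
  -- the real prime
  obtain ⟨p, hp, hz⟩ := exists_real hna h T hd2
  have hreal : (2 ^ u ≤ 146 * 3 ^ D.a ∨ 2 ^ u * (5 ^ E.a - 1) ^ 4 ≤ 1024 * 5 ^ E.a * (3 ^ D.a) ^ 3) ∨
      (2 ^ u ≤ 146 * 5 ^ E.a ∨ 2 ^ u * (3 ^ D.a - 1) ^ 4 ≤ 1024 * 3 ^ D.a * (5 ^ E.a) ^ 3) := by
    rcases hp with rfl | rfl
    · obtain ⟨z, hz2, hzc, hzN⟩ := hz inferInstance D.P
      exact Or.inr (D.bound hna (Or.inl rfl) h hz2 hzN (hzc.trans hu) hG)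
    · obtain ⟨z, hz2, hzc, hzN⟩ := hz inferInstance E.P
      exact Or.inl (E.bound hna (Or.inr rfl) h hz2 hzN (hzc.trans hu) (by rw [hG]; ring))
  -- the shared character
  obtain ⟨ψ, hψ, hcD, hcE⟩ := exists_shared (by norm_num : (3 : ℕ) ≠ 5) D E
  obtain ⟨d, -, hd⟩ := exists_degree_pos ψ.2
  have hd5' := E.not_dvd_degree (Or.inr rfl) hψ hcE hd
  have hd2' : d ∣ 2 ^ u :=
    ((((Nat.Prime.coprime_iff_not_dvd (by norm_num)).mpr hd5').symm).pow_right E.a).dvd_of_dvd_mul_right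
      (exponent_of_two (hG ▸ degree_dvd_card ψ.2 hd) (D.not_dvd_degree (Or.inl rfl) hψ hcD hd))
  obtain ⟨i, hiu, rfl⟩ := (Nat.dvd_prime_pow Nat.prime_two).mp hd2'
  have hi : 1 ≤ i := by
    by_contra hc
    have := two_le_degree hna hψ hd
    rw [show i = 0 by omega] at this
    norm_num at this
  have h5big : 3 ≤ E.a → 2 * 5 ^ (E.a - 1) ≤ u := by
    intro hb
    have h125 : 125 ≤ 5 ^ E.a := le_trans (by norm_num) (Nat.pow_le_pow_right (by norm_num : 0 < 5) hb)
    have hlt : E.e * D.e + 1 < 5 ^ E.a := by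
      have := Nat.mul_le_mul E.e_le.2 D.e_le.2
      omega
    obtain ⟨k, hk, hkd⟩ := E.exc.share D.β D.c D.e D.exc.cls D.exc.coeff D.exc.princ D.exc.sq
      (fun x hx => vanish_on_other (by norm_num) E D hx) hlt ψ hψ _ hd hcE hcD
    obtain ⟨j, hj1, hji, hjd⟩ := exists_four_pow ((by decide : Odd 5).pow)
      (by omega) hcE ((E.abs_sum.2 ψ hψ).trans (by have := E.e_le; omega)) hk hi hkd
    exact (five_adic hE1 hj1 hjd).trans (hji.trans hiu)
  -- large Sylow 3-subgroups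
  have ha3 : D.a ≤ 3 := by
    by_contra hc
    have ha4 : 4 ≤ D.a := by omega
    have h81 : 81 ≤ 3 ^ D.a := le_trans (by norm_num) (Nat.pow_le_pow_right (by norm_num : 0 < 3) ha4)
    have hlt : D.e * E.e + 1 < 3 ^ D.a := by
      have := Nat.mul_le_mul D.e_le.2 E.e_le.2
      omega
    obtain ⟨k, hk, hkd⟩ := D.exc.share E.β E.c E.e E.exc.cls E.exc.coeff E.exc.princ E.exc.sq
      (fun x hx => vanish_on_other (by norm_num) D E hx) hlt ψ hψ _ hd hcD hcE
    obtain ⟨j, hj1, hji, hjd⟩ := exists_four_pow ((by decide : Odd 3).pow)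
      (by omega) hcD ((D.abs_sum.2 ψ hψ).trans (by have := D.e_le; omega)) hk hi hkd
    have h3u : 3 ^ (D.a - 1) ≤ u := (three_adic hj1 hjd).trans (hji.trans hiu)
    rcases hreal with hr | hr
    · have := bound_five (by omega) hE1 hr
      have := five_mul_add_lt ha4
      omega
    · have hu7 := bound_three_big (bound_three ha2 hr)
      by_cases hb : 3 ≤ E.a
      · have := h5big hb
        have := seven_mul_add_lt hb
        omega
      · have : 3 ^ 3 ≤ 3 ^ (D.a - 1) := Nat.pow_le_pow_right (by norm_num) (by omega)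
        omega
  have hb2 : E.a ≤ 2 := by
    by_contra hc
    have hb : 3 ≤ E.a := by omega
    have := h5big hb
    rcases hreal with hr | hr
    · have := bound_five (by omega) hE1 hr
      have : 5 ^ 2 ≤ 5 ^ (E.a - 1) := Nat.pow_le_pow_right (by norm_num) (by omega)
      omega
    · have := bound_three_big (bound_three ha2 hr)
      have := seven_mul_add_lt hb
      omega
  have he2 := index_ne_two hna D hG ha2 hb2
  have hel := D.e_list
  have hed := D.e_dvd
  have ha : D.a = 2 := by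
    by_contra hc
    have : D.a = 3 := by omega
    rw [this] at hed
    rcases hel with e | e | e | ⟨-, e⟩ | ⟨e, -⟩
    · exact he2 e
    all_goals first | omega | (rw [e] at hed; norm_num at hed)
  rw [ha] at hed hG hreal
  rcases hel with e | e | e | ⟨-, e⟩ | ⟨e, -⟩
  · exact absurd e he2
  · exact iso_of_index_four h D ha e
  · exfalso
    have hu15 : u ≤ 15 := bound_nine hE1 hb2 hreal
    have hn3 := D.card_sylow
    rw [ha, e, hG] at hn3
    have hu3 : 3 ≤ u := by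
      have h1 : 2 ^ 3 ∣ Nat.card G := by
        rw [← D.card_sylow, e]
        exact dvd_mul_of_dvd_right (dvd_mul_left _ _) _
      have h2 := T.pow_dvd_card_of_pow_dvd_card h1
      rw [hu] at h2
      exact (Nat.pow_dvd_pow_iff_le_right (by norm_num : 1 < 2)).mp h2
    have hs3 : Nat.card (Sylow 3 G) = 2 ^ (u - 3) * 5 ^ E.a := by
      refine Nat.eq_of_mul_eq_mul_right (show 0 < 3 ^ 2 * 8 by norm_num) (hn3.trans ?_)
      rw [show u = u - 3 + 3 by omega, pow_add, show u - 3 + 3 - 3 = u - 3 by omega]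
      ring
    have hm3 : (2 ^ (u - 3) * 5 ^ E.a) % 9 = 1 := by
      have h1 := D.sylow_mod
      rw [ha, hs3] at h1
      have hpos : 0 < 2 ^ (u - 3) * 5 ^ E.a := by positivity
      norm_num at h1
      omega
    have hn5 : Nat.card (Sylow 5 G) * (5 ^ E.a * E.e) = 2 ^ u * 9 * 5 ^ E.a := by
      rw [E.card_sylow, hG]
      norm_num
    have hm5 : Nat.card (Sylow 5 G) % 5 ^ E.a = 1 := by
      have h1 := E.sylow_mod
      have hpos : 0 < Nat.card (Sylow 5 G) := Nat.card_pos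
      obtain ⟨k, hk⟩ := h1
      rw [show Nat.card (Sylow 5 G) = 1 + 5 ^ E.a * k by omega, Nat.add_mul_mod_self_left,
        Nat.one_mod_eq_one]
      have : 5 ^ 1 ≤ 5 ^ E.a := Nat.pow_le_pow_right (by norm_num) hE1
      omega
    have heE : E.e = 2 ∨ E.e = 4 ∨ E.e = 8 ∨ E.e = 3 := by have := E.e_list; omega
    obtain ⟨hb1, hu4⟩ := survivor hE1 hb2 hu15 hu3 heE E.e_dvd hm3 hn5 hm5
    rw [hb1, hu4] at hG
    norm_num [-Nat.card_eq_fintype_card] at hG
    have := Cfsg.Agent.S0496.result hna (by omega)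
    omega
  · rw [e] at hed; norm_num at hed
  · norm_num at e

end CfsgLib.SixSpectrum
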