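import Mathlib
import Cfsg.Agent.Lib.SixSpectrum.Simple
import Cfsg.Agent.Lib.SixSpectrum.Outer
import Cfsg.Agent.S3331
import Cfsg.Agent.S3992
import Cfsg.Agent.S1475

/-!
# Groups with element orders one to five
-/

set_option autoImplicit false

namespace CfsgLib.SixSpectrum

open Subgroup

universe u

variable {G : Type u} [Group G] [Finite G]

theorem exists_radical : ∃ R : Subgroup G, R.Normal ∧ Group.IsSolvable R ∧
    ∀ N : Subgroup G, N.Normal → Group.IsSolvable N → N ≤ R := by
  classical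
  obtain ⟨R, ⟨hRn, hRs⟩, hmax⟩ := Set.exists_max_image
    {N : Subgroup G | N.Normal ∧ Group.IsSolvable N} (fun N => Nat.card N) (Set.toFinite _)
    ⟨⊥, inferInstance, inferInstance⟩
  refine ⟨R, hRn, hRs, fun N hN hNs => ?_⟩
  haveI := hRn
  haveI := hN
  haveI := hNs
  have hmap : Group.IsSolvable (N.map (QuotientGroup.mk' R)) :=
    Group.isSolvable_of_surjective ((QuotientGroup.mk' R).subgroupMap_surjective N)
  have h1 := Cfsg.Agent.S3992.solvable_comap R hRs _ hmap
  haveI : (N.map (QuotientGroup.mk' R)).Normal := hN.map _ (QuotientGroup.mk'_surjective R)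
  have h2 : ((N.map (QuotientGroup.mk' R)).comap (QuotientGroup.mk' R)).Normal := Subgroup.Normal.comap inferInstance _
  have hle : R ≤ (N.map (QuotientGroup.mk' R)).comap (QuotientGroup.mk' R) := fun x hx => by
    rw [mem_comap, QuotientGroup.mk'_apply, (QuotientGroup.eq_one_iff x).mpr hx]
    exact one_mem _
  have h3 := eq_of_le_of_card_ge hle (hmax _ ⟨h2, h1⟩)
  intro x hx
  rw [h3]
  exact ⟨x, hx, rfl⟩

/-- An `r`-subgroup of the quotient lifts isomorphically when the kernel is a `p`-group. -/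
theorem exists_lift {p r : ℕ} [Fact p.Prime] [Fact r.Prime] (hpr : p ≠ r) (R : Subgroup G) [R.Normal]
    (hR : IsPGroup p R) (V : Subgroup (G ⧸ R)) (hV : IsPGroup r V) :
    ∃ T : Subgroup G, IsPGroup r T ∧ T.map (QuotientGroup.mk' R) = V ∧ T ⊓ R = ⊥ := by
  classical
  set H := V.comap (QuotientGroup.mk' R) with hH
  obtain ⟨T'⟩ := (inferInstance : Nonempty (Sylow r H))
  have hd : ((T' : Subgroup H).map H.subtype) ⊓ R = ⊥ := disjoint_iff.mp
    (IsPGroup.disjoint_of_ne r p hpr.symm _ _ (T'.2.map _) hR)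
  refine ⟨(T' : Subgroup H).map H.subtype, T'.2.map _, ?_, hd⟩
  have hle : ((T' : Subgroup H).map H.subtype).map (QuotientGroup.mk' R) ≤ V := by
    rintro _ ⟨_, ⟨x, -, rfl⟩, rfl⟩
    exact mem_comap.mp x.2
  refine eq_of_le_of_card_ge hle ?_
  have hinj : Function.Injective ((QuotientGroup.mk' R).comp ((T' : Subgroup H).map H.subtype).subtype) := by
    rw [← MonoidHom.ker_eq_bot_iff, eq_bot_iff]
    intro x hx
    have hxR : (x : G) ∈ R := (QuotientGroup.eq_one_iff _).mp (MonoidHom.mem_ker.mp hx)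
    exact mem_bot.mpr (Subtype.ext (mem_bot.mp (hd ▸ mem_inf.mpr ⟨x.2, hxR⟩ : (x : G) ∈ (⊥ : Subgroup G))))
  have hc : Nat.card (((T' : Subgroup H).map H.subtype).map (QuotientGroup.mk' R)) = Nat.card (T' : Subgroup H) := by
    rw [← Nat.card_congr ((T' : Subgroup H).equivMapOfInjective _ H.subtype_injective).toEquiv.symm]
    rw [show ((T' : Subgroup H).map H.subtype).map (QuotientGroup.mk' R) =
      ((QuotientGroup.mk' R).comp ((T' : Subgroup H).map H.subtype).subtype).range by
        rw [MonoidHom.range_comp, range_subtype]]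
    exact Nat.card_congr (MonoidHom.ofInjective hinj).toEquiv.symm
  rw [hc]
  obtain ⟨i, hi⟩ := IsPGroup.iff_card.mp hV
  rw [hi, T'.card_eq_multiplicity]
  refine Nat.pow_le_pow_right (Fact.out : r.Prime).pos
    ((Nat.Prime.pow_dvd_iff_le_factorization Fact.out Nat.card_pos.ne').mp ?_)
  rw [← hi]
  have hsurj : Function.Surjective ((QuotientGroup.mk' R).subgroupComap V) :=
    MonoidHom.subgroupComap_surjective_of_surjective _ V (QuotientGroup.mk'_surjective R)
  exact card_dvd_of_surjective _ hsurj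

/-- An element of prime order normalizing a `p`-subgroup whose order is not one modulo that prime. -/
theorem Small.no_normalizing (h : Small G) {p r : ℕ} [Fact p.Prime] [hr : Fact r.Prime] (hrp : r ≠ p)
    {P : Subgroup G} (hP : IsPGroup p P) (hcard : ¬ Nat.card P ≡ 1 [MOD r]) {y : G} (hy : orderOf y = r)
    (hn : y ∈ normalizer (P : Set G)) : False := by
  classical
  have hzn : zpowers y ≤ normalizer (P : Set G) := zpowers_le.mpr hn
  letI : MulAction (zpowers y) P :=
    { smul := fun g x => ⟨(g : G) * x * (g : G)⁻¹, (mem_normalizer_iff.mp (hzn g.2) x).mp x.2⟩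
      one_smul := fun x => Subtype.ext (by show (1 : G) * x * (1 : G)⁻¹ = x; simp)
      mul_smul := fun g k x => Subtype.ext (by
        show ((g * k : zpowers y) : G) * x * ((g * k : zpowers y) : G)⁻¹ = (g : G) * ((k : G) * x * (k : G)⁻¹) * (g : G)⁻¹
        push_cast; group) }
  have hpg : IsPGroup r (zpowers y) := IsPGroup.of_card (n := 1) (by rw [Nat.card_zpowers, hy, pow_one])
  have hmod := hpg.card_modEq_card_fixedPoints P
  have hfix : ∀ x : P, x ∈ MulAction.fixedPoints (zpowers y) P → x = 1 := by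
    intro x hx
    refine Subtype.ext (h.free hP (not_ppow_of_orderOf Fact.out hr.out hrp hy) x.2 ?_)
    exact mul_inv_eq_iff_eq_mul.mp (congrArg Subtype.val (hx ⟨y, mem_zpowers y⟩))
  have h1 : Nat.card (MulAction.fixedPoints (zpowers y) P) = 1 := by
    rw [Nat.card_eq_one_iff_unique]
    exact ⟨⟨fun a b => Subtype.ext ((hfix _ a.2).trans (hfix _ b.2).symm)⟩,
      ⟨⟨1, fun g => Subtype.ext (by show (g : G) * 1 * (g : G)⁻¹ = 1; simp)⟩⟩⟩
  rw [h1] at hmod
  exact hcard hmod

/-- Frattini: a prime dividing the index of a normal subgroup appears in the normalizer. -/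
theorem exists_prime_order_normalizing (M : Subgroup G) [M.Normal] {q r : ℕ} [Fact q.Prime] [Fact r.Prime]
    (P : Sylow q M) (hd : r ∣ M.index) :
    ∃ y ∈ normalizer ((((P : Subgroup M).map M.subtype : Subgroup G)) : Set G), orderOf y = r := by
  set N := normalizer ((((P : Subgroup M).map M.subtype : Subgroup G)) : Set G) with hN
  have hsup : N ⊔ M = ⊤ := Sylow.normalizer_sup_eq_top P
  have hsurj : Function.Surjective ((QuotientGroup.mk' M).comp N.subtype) := by
    rw [← MonoidHom.range_eq_top, MonoidHom.range_comp, range_subtype, eq_top_iff]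
    intro q _
    obtain ⟨g, rfl⟩ := QuotientGroup.mk'_surjective M q
    have hg : g ∈ (↑(N ⊔ M) : Set G) := by rw [hsup]; exact Set.mem_univ g
    rw [mul_normal] at hg
    obtain ⟨a, ha, b, hb, rfl⟩ := hg
    refine ⟨a, ha, ?_⟩
    show (a : G ⧸ M) = ((a * b : G) : G ⧸ M)
    rw [QuotientGroup.mk_mul, (QuotientGroup.eq_one_iff b).mpr hb, mul_one]
  rw [index_eq_card] at hd
  obtain ⟨y, hy⟩ := exists_prime_orderOf_dvd_card' (G := N) r
    (hd.trans (card_dvd_of_surjective _ hsurj))
  exact ⟨y, y.2, by rw [Subgroup.orderOf_coe, hy]⟩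

theorem a6_four : ∃ a b : A6, a * a = 1 ∧ b * b = 1 ∧ a * b = b * a ∧ a ≠ 1 ∧ b ≠ 1 ∧ a ≠ b :=
  ⟨zA, aA, by decide +kernel, by decide +kernel, by decide +kernel, by decide +kernel, by decide +kernel,
    by decide +kernel⟩

theorem a5_four : ∃ a b : ↥(alternatingGroup (Fin 5)),
    a * a = 1 ∧ b * b = 1 ∧ a * b = b * a ∧ a ≠ 1 ∧ b ≠ 1 ∧ a ≠ b := by
  refine ⟨⟨Equiv.swap 0 1 * Equiv.swap 2 3, Equiv.Perm.mem_alternatingGroup.mpr (by decide +kernel)⟩,
    ⟨Equiv.swap 0 2 * Equiv.swap 1 3, Equiv.Perm.mem_alternatingGroup.mpr (by decide +kernel)⟩, ?_, ?_, ?_, ?_, ?_, ?_⟩ <;>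
    decide +kernel

theorem card_a5 : Nat.card ↥(alternatingGroup (Fin 5)) = 60 := by
  rw [nat_card_alternatingGroup, Nat.card_fin]; rfl

theorem card_a6 : Nat.card A6 = 360 := by
  rw [nat_card_alternatingGroup, Nat.card_fin]; rfl

theorem elementary_proper {H : Type*} [Group H] (e : H ≃* ↥(alternatingGroup (Fin 5))) : ¬ IsMulCommutative H := by
  intro hc
  have h : ∀ a b : ↥(alternatingGroup (Fin 5)), a * b = b * a := fun a b => by
    apply e.symm.injective
    rw [map_mul, map_mul, hc.is_comm.comm]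
  revert h
  decide +kernel

/-- The two possible simple sections. -/
theorem simple_cases (M : Type u) [Group M] [Finite M] [IsSimpleGroup M] (hna : ¬ IsMulCommutative M) (h : Small M) :
    Nonempty (M ≃* ↥(alternatingGroup (Fin 5))) ∨ Nonempty (M ≃* A6) := by
  classical
  haveI := Fintype.ofFinite M
  by_cases h9 : 9 ∣ Nat.card M
  · exact Or.inr (iso_alt_six hna h h9)
  left
  haveI := Fact.mk Nat.prime_three
  obtain ⟨x, hx⟩ := exists_prime_orderOf_dvd_card' 3 (prime_dvd_card hna h).2.1
  have hXc : Nat.card (zpowers x) = 3 := by rw [Nat.card_zpowers, hx]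
  have hCX : centralizer ((zpowers x : Subgroup M) : Set M) = zpowers x := by
    have hxx : x ^ 3 ^ 1 = 1 := by rw [pow_one, ← hx, pow_orderOf_eq_one]
    have hC := h.isPGroup_centralizer hxx (fun e => by rw [e, orderOf_one] at hx; omega)
    obtain ⟨k, hk⟩ := IsPGroup.iff_card.mp hC
    have hk1 : k ≤ 1 := by
      by_contra hc
      exact h9 ((show (9 : ℕ) ∣ 3 ^ k from (show (9 : ℕ) = 3 ^ 2 by norm_num) ▸ pow_dvd_pow 3 (by omega)).trans
        (hk ▸ card_subgroup_dvd_card _))
    have hle : zpowers x ≤ centralizer ((zpowers x : Subgroup M) : Set M) := by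
      refine le_centralizer_iff.mp (le_centralizer (zpowers x))
    refine (eq_of_le_of_card_ge hle ?_).symm
    calc Nat.card (centralizer ((zpowers x : Subgroup M) : Set M)) ≤ Nat.card (centralizer ({x} : Set M)) :=
          card_le_of_le (centralizer_le (Set.singleton_subset_iff.mpr (mem_zpowers x)))
      _ ≤ 3 := by rw [hk]; exact (Nat.pow_le_pow_right (by norm_num) hk1).trans (by norm_num)
      _ = _ := hXc.symm
  rcases Cfsg.Agent.S3331.result (zpowers x) hXc hCX with ⟨N, hN, hnil, -, hq⟩ | ⟨N, hN, hcomm, -, he⟩ | he3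
  · exfalso
    rcases hN.eq_bot_or_eq_top with rfl | rfl
    · have hc : Nat.card (M ⧸ (⊥ : Subgroup M)) = Nat.card M :=
        Nat.card_congr (QuotientGroup.quotientBot (G := M)).toEquiv
      obtain ⟨h2, -, h5⟩ := prime_dvd_card hna h
      rcases hq with hq | ⟨⟨e⟩⟩
      · rw [hc] at hq; omega
      · have := Nat.card_congr e.toEquiv
        rw [hc, Nat.card_perm, Nat.card_fin] at this
        simp only [Nat.factorial] at this
        omega
    · haveI := hnil
      have hs : Group.IsSolvable (⊤ : Subgroup M) := inferInstance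
      have hs' : Group.IsSolvable M := Group.isSolvable_of_surjective (f := (⊤ : Subgroup M).subtype)
        (fun g => ⟨⟨g, mem_top g⟩, rfl⟩)
      exact hna ⟨⟨IsSimpleGroup.comm_iff_isSolvable.mpr hs'⟩⟩
  · rcases hN.eq_bot_or_eq_top with rfl | rfl
    · obtain ⟨e⟩ := he
      exact ⟨(QuotientGroup.quotientBot (G := M)).symm.trans e⟩
    · exact absurd ⟨⟨fun a b => congrArg Subtype.val (hcomm.is_comm.comm ⟨a, mem_top a⟩ ⟨b, mem_top b⟩)⟩⟩ hna
  · exfalso
    have h7 : ∃ q : Matrix.ProjectiveSpecialLinearGroup (Fin 2) (ZMod 7), orderOf q = 7 := by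
      haveI : Fact (Nat.Prime 7) := ⟨by norm_num⟩
      refine exists_prime_orderOf_dvd_card' 7 ?_
      have h1 := CfsgLib.Classical.card_PSL_mul (F := ZMod 7) (ZMod.card 7) 2 (by norm_num)
      norm_num [Fin.prod_univ_two, -Nat.card_eq_fintype_card] at h1
      omega
    obtain ⟨q, hq⟩ := h7
    obtain ⟨e⟩ := he3
    have := h (e.symm q)
    rw [MulEquiv.orderOf_eq, hq] at this
    omega

/-- Two commuting involutions in the simple section kill an odd radical. -/
theorem Small.radical_two (h : Small G) {p : ℕ} [Fact p.Prime] (hp : p ≠ 2) (R : Subgroup G) [R.Normal]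
    (hR : IsPGroup p R) {a b : G ⧸ R} (ha : a * a = 1) (hb : b * b = 1) (hab : a * b = b * a)
    (ha1 : a ≠ 1) (hb1 : b ≠ 1) (hne : a ≠ b) : R = ⊥ := by
  classical
  haveI := Fact.mk Nat.prime_two
  set V : Subgroup (G ⧸ R) :=
    { carrier := {1, a, b, a * b}
      one_mem' := by simp
      mul_mem' := by
        have hba : b * a = a * b := hab.symm
        have h1 : a * (a * b) = b := by rw [← mul_assoc, ha, one_mul]
        have h2 : b * (a * b) = a := by rw [hab, ← mul_assoc, hb, one_mul]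
        have h3 : a * b * a = b := by rw [hab, mul_assoc, ha, mul_one]
        have h4 : a * b * b = a := by rw [mul_assoc, hb, mul_one]
        have h5 : a * b * (a * b) = 1 := by rw [← mul_assoc, h3, hb]
        intro u v hu hv
        simp only [Set.mem_insert_iff, Set.mem_singleton_iff] at hu hv ⊢
        rcases hu with rfl | rfl | rfl | rfl <;> rcases hv with rfl | rfl | rfl | rfl <;>
          simp [ha, hb, hba, h1, h2, h3, h4, h5]
      inv_mem' := by
        intro u hu
        simp only [Set.mem_insert_iff, Set.mem_singleton_iff] at hu ⊢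
        have hai : a⁻¹ = a := inv_eq_of_mul_eq_one_right ha
        have hbi : b⁻¹ = b := inv_eq_of_mul_eq_one_right hb
        rcases hu with rfl | rfl | rfl | rfl
        · simp
        · simp [hai]
        · simp [hbi]
        · simp [hai, hbi, ← hab] } with hV
  have hVp : IsPGroup 2 V := fun ⟨v, hv⟩ => ⟨1, Subtype.ext (by
    rw [SubmonoidClass.coe_pow, pow_one, pow_two, coe_one]
    rcases hv with rfl | rfl | rfl | rfl
    · simp
    · exact ha
    · exact hb
    · calc a * b * (a * b) = a * (b * a) * b := by group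
        _ = a * a * (b * b) := by rw [← hab]; group
        _ = 1 := by rw [ha, hb, one_mul])⟩
  obtain ⟨T, -, hmap, hd⟩ := exists_lift (p := p) hp R hR V hVp
  have hmem : ∀ v ∈ V, ∃ t ∈ T, (t : G ⧸ R) = v := fun v hv => by rw [← hmap] at hv; exact hv
  have hinj : ∀ t ∈ T, ∀ t' ∈ T, (t : G ⧸ R) = t' → t = t' := fun t ht t' ht' e => by
    have hm : t⁻¹ * t' ∈ T ⊓ R := mem_inf.mpr ⟨mul_mem (inv_mem ht) ht', QuotientGroup.eq.mp e⟩
    rw [hd, mem_bot] at hm
    exact inv_mul_eq_one.mp hm
  obtain ⟨s, hs, hsa⟩ := hmem a (show a ∈ ({1, a, b, a * b} : Set (G ⧸ R)) by simp)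
  obtain ⟨t, ht, htb⟩ := hmem b (show b ∈ ({1, a, b, a * b} : Set (G ⧸ R)) by simp)
  have hRn : ∀ y : G, ∀ x ∈ R, y * x * y⁻¹ ∈ R := fun y x hx => (inferInstance : R.Normal).conj_mem x hx y
  have hss : s * s = 1 := hinj _ (mul_mem hs hs) 1 (one_mem T) (by rw [QuotientGroup.mk_mul, hsa, ha]; rfl)
  have htt : t * t = 1 := hinj _ (mul_mem ht ht) 1 (one_mem T) (by rw [QuotientGroup.mk_mul, htb, hb]; rfl)
  have hst : s * t = t * s := hinj _ (mul_mem hs ht) _ (mul_mem ht hs)
    (by rw [QuotientGroup.mk_mul, QuotientGroup.mk_mul, hsa, htb, hab])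
  have hfree : ∀ u : G, u * u = 1 → (u : G ⧸ R) ≠ 1 → ∀ x ∈ R, u * x = x * u → x = 1 := fun u hu hu1 x hx hc =>
    h.free hR (not_ppow_of_orderOf Fact.out Nat.prime_two hp.symm
      (CfsgLib.HJType.orderOf_two_iff.mpr ⟨hu, fun e => hu1 (by rw [e]; rfl)⟩)) hx hc
  refine CfsgLib.HJType.four_fpf hss htt hst (fun x hx => ?_) (fun x hx => ?_) (hfree s hss (hsa ▸ ha1))
    (hfree t htt (htb ▸ hb1)) (hfree (s * t) ?_ ?_)
  · have := hRn s x hx; rwa [inv_eq_of_mul_eq_one_right hss] at this
  · have := hRn t x hx; rwa [inv_eq_of_mul_eq_one_right htt] at this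
  · calc s * t * (s * t) = s * (t * s) * t := by group
      _ = s * (s * t) * t := by rw [hst]
      _ = (s * s) * (t * t) := by group
      _ = 1 := by rw [hss, htt, one_mul]
  · rw [QuotientGroup.mk_mul, hsa, htb]
    intro e
    exact hne ((eq_inv_of_mul_eq_one_left e).trans (inv_eq_of_mul_eq_one_right hb))

/-- An overgroup of `A₆` inside which it is normal, with element orders at most five, is `A₆`. -/
theorem Small.eq_top_of_a6 (h : Small G) (M : Subgroup G) [hM : M.Normal] (e : ↥M ≃* A6) : M = ⊤ := by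
  classical
  haveI h2p : Fact (Nat.Prime 2) := ⟨Nat.prime_two⟩
  haveI h3p : Fact (Nat.Prime 3) := ⟨Nat.prime_three⟩
  haveI h5p : Fact (Nat.Prime 5) := ⟨by norm_num⟩
  have hMc : Nat.card M = 360 := (Nat.card_congr e.toEquiv).trans card_a6
  have hsyl : ∀ (q k m : ℕ) [Fact q.Prime] (S : Sylow q M), 360 = q ^ k * m → ¬ q ∣ m →
      Nat.card (((S : Subgroup M).map M.subtype : Subgroup G)) = q ^ k := by
    intro q k m _ S hk hm
    rw [Nat.card_congr ((S : Subgroup M).equivMapOfInjective _ M.subtype_injective).toEquiv.symm,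
      S.card_eq_multiplicity, hMc, hk]
    congr 1
    rw [Nat.factorization_mul (pow_ne_zero _ (Fact.out : q.Prime).ne_zero) (fun h0 => hm (by rw [h0]; exact dvd_zero q)), Finsupp.add_apply,
      (Fact.out : q.Prime).factorization_pow, Finsupp.single_eq_same, Nat.factorization_eq_zero_of_not_dvd hm,
      add_zero]
  have hno : ∀ r : ℕ, r.Prime → r ∣ M.index → r = 2 := by
    intro r hr hd
    haveI := Fact.mk hr
    rcases h.prime_le hr (hd.trans (index_dvd_card M)) with rfl | rfl | rfl
    · rfl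
    · exfalso
      obtain ⟨S⟩ := (inferInstance : Nonempty (Sylow 5 M))
      obtain ⟨y, hy, hyo⟩ := exists_prime_order_normalizing M S hd
      refine h.no_normalizing (p := 5) (by norm_num) (S.2.map _) ?_ hyo hy
      rw [hsyl 5 1 72 S (by norm_num) (by norm_num)]
      decide
    · exfalso
      obtain ⟨S⟩ := (inferInstance : Nonempty (Sylow 3 M))
      obtain ⟨y, hy, hyo⟩ := exists_prime_order_normalizing M S hd
      refine h.no_normalizing (p := 3) (by norm_num) (S.2.map _) ?_ hyo hy
      rw [hsyl 3 2 40 S (by norm_num) (by norm_num)]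
      decide
  by_contra hne
  have hd : 2 ∣ M.index := by
    have h1 : M.index ≠ 1 := fun e1 => hne (index_eq_one.mp e1)
    obtain ⟨r, hr, hrd⟩ := Nat.exists_prime_and_dvd h1
    exact hno r hr hrd ▸ hrd
  -- the concrete Sylow 2-subgroup
  set D := eightGroup.map e.symm.toMonoidHom with hD
  have hDc : Nat.card D = 8 := by
    rw [hD, ← Nat.card_congr (eightGroup.equivMapOfInjective _ e.symm.injective).toEquiv, card_eightGroup]
  have hD2 : IsPGroup 2 D := IsPGroup.of_card (n := 3) (by rw [hDc]; rfl)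
  obtain ⟨S, hS⟩ := hD2.exists_le_sylow
  have hScard : Nat.card (S : Subgroup M) = 8 := by
    have := hsyl 2 3 45 S (by norm_num) (by norm_num)
    rwa [← Nat.card_congr ((S : Subgroup M).equivMapOfInjective _ M.subtype_injective).toEquiv] at this
  have hSD : (S : Subgroup M) = D := (eq_of_le_of_card_ge hS (by rw [hScard, hDc])).symm
  set P : Subgroup G := (S : Subgroup M).map M.subtype with hP
  set N := normalizer (P : Set G) with hN
  have hPN : P ≤ N := le_normalizer
  -- a 2-element of the normalizer outside `M` with square in it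
  obtain ⟨y₀, hy₀, hy₀o⟩ : ∃ y ∈ N, (∃ k, orderOf y = 2 ^ k) ∧ y ∉ M := by
    obtain ⟨T⟩ := (inferInstance : Nonempty (Sylow 2 N))
    by_contra hcon
    push Not at hcon
    have hle : ((T : Subgroup N).map N.subtype) ≤ M := by
      rintro _ ⟨t, ht, rfl⟩
      obtain ⟨k, hk⟩ := IsPGroup.iff_orderOf.mp T.2 ⟨t, ht⟩
      exact hcon (t : G) t.2 ⟨k, hk ▸ (Subgroup.orderOf_coe (⟨t, ht⟩ : (T : Subgroup N))).symm ▸ Subgroup.orderOf_coe t⟩
    have hsurj : Function.Surjective ((QuotientGroup.mk' M).comp N.subtype) := by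
      rw [← MonoidHom.range_eq_top, MonoidHom.range_comp, range_subtype, eq_top_iff]
      intro q _
      obtain ⟨g, rfl⟩ := QuotientGroup.mk'_surjective M q
      have hsup : N ⊔ M = ⊤ := Sylow.normalizer_sup_eq_top S
      have hg : g ∈ (↑(N ⊔ M) : Set G) := by rw [hsup]; exact Set.mem_univ g
      rw [mul_normal] at hg
      obtain ⟨a, ha, b, hb, rfl⟩ := hg
      refine ⟨a, ha, ?_⟩
      show (a : G ⧸ M) = ((a * b : G) : G ⧸ M)
      rw [QuotientGroup.mk_mul, (QuotientGroup.eq_one_iff b).mpr hb, mul_one]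
    have hker : (T : Subgroup N) ≤ ((QuotientGroup.mk' M).comp N.subtype).ker := fun t ht =>
      MonoidHom.mem_ker.mpr ((QuotientGroup.eq_one_iff _).mpr (hle ⟨t, ht, rfl⟩))
    have hidx : ((QuotientGroup.mk' M).comp N.subtype).ker.index = M.index := by
      rw [Subgroup.index_ker, MonoidHom.range_eq_top.mpr hsurj, card_top, index_eq_card]
    exact T.not_dvd_index ((hidx ▸ hd).trans (index_dvd_of_le hker))
  obtain ⟨y, hyN, ⟨k, hyk⟩, hyM, hy2M⟩ :
      ∃ y ∈ N, (∃ k, orderOf y = 2 ^ k) ∧ y ∉ M ∧ y * y ∈ M := by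
    obtain ⟨⟨k, hk⟩, hy₀M⟩ := hy₀o
    have hex : ∃ j, y₀ ^ 2 ^ j ∈ M := ⟨k, by rw [← hk, pow_orderOf_eq_one]; exact one_mem M⟩
    have hj0 : Nat.find hex ≠ 0 := fun e0 => hy₀M (by have := Nat.find_spec hex; rwa [e0, pow_zero, pow_one] at this)
    obtain ⟨i, hi⟩ : ∃ i, Nat.find hex = i + 1 := ⟨Nat.find hex - 1, by omega⟩
    refine ⟨y₀ ^ 2 ^ i, pow_mem hy₀ _, ?_, fun hm => ?_, ?_⟩
    · obtain ⟨l, -, hl⟩ := (Nat.dvd_prime_pow Nat.prime_two).mp (hk ▸ orderOf_pow_dvd (x := y₀) (2 ^ i))
      exact ⟨l, hl⟩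
    · exact Nat.find_min hex (by omega) hm
    · have := Nat.find_spec hex
      rw [hi, pow_succ, pow_mul, pow_two] at this
      exact this
  -- its square lies in the Sylow subgroup
  have hconj : ∀ n ∈ N, ∀ u : M, u ∈ (S : Subgroup M) → (⟨n * u * n⁻¹, hM.conj_mem _ u.2 n⟩ : M) ∈ (S : Subgroup M) := by
    intro n hn u hu
    obtain ⟨u', hu', he'⟩ := (mem_normalizer_iff.mp hn (u : G)).mp ⟨u, hu, rfl⟩
    rwa [show (⟨n * u * n⁻¹, hM.conj_mem _ u.2 n⟩ : M) = u' from Subtype.ext he'.symm]
  have hyy : (⟨y * y, hy2M⟩ : M) ∈ (S : Subgroup M) := by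
    set s : M := ⟨y * y, hy2M⟩ with hs
    have hsn : s ∈ normalizer ((S : Subgroup M) : Set M) := by
      have hyy' : y * y ∈ N := mul_mem hyN hyN
      rw [mem_normalizer_iff]
      intro u
      constructor
      · exact fun hu => hconj _ hyy' u hu
      · intro hu
        have := hconj _ (inv_mem hyy') _ hu
        convert this using 1
        refine Subtype.ext ?_
        show (u : G) = (y * y)⁻¹ * ((s * u * s⁻¹ : M) : G) * (y * y)⁻¹⁻¹
        rw [coe_mul, coe_mul, coe_inv, hs]
        group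
    have hzp : IsPGroup 2 (zpowers s) := by
      obtain ⟨l, -, hl⟩ := (Nat.dvd_prime_pow Nat.prime_two).mp
        (show orderOf s ∣ 2 ^ k by
          rw [← Subgroup.orderOf_coe, ← hyk, hs]
          show orderOf (y * y) ∣ _
          rw [← pow_two]
          exact orderOf_pow_dvd 2)
      exact IsPGroup.of_card (n := l) (by rw [Nat.card_zpowers, hl])
    have hle : zpowers s ⊔ (S : Subgroup M) = S :=
      S.is_maximal' (hzp.to_sup_of_normal_right' S.2 (zpowers_le.mpr hsn)) le_sup_right
    exact hle ▸ (le_sup_left : zpowers s ≤ zpowers s ⊔ (S : Subgroup M)) (mem_zpowers s)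
  have hmemE : ∀ u : M, u ∈ (S : Subgroup M) ↔ e u ∈ eight := by
    intro u
    rw [hSD, hD]
    constructor
    · rintro ⟨v, hv, rfl⟩
      show e (e.symm v) ∈ eight
      rwa [e.apply_symm_apply]
    · exact fun hu => ⟨e u, hu, e.symm_apply_apply u⟩
  refine h.outer_false M e y hyM ⟨k, hyk⟩ hy2M ((hmemE _).mp hyy) fun u hu => (hmemE _).mp (hconj y hyN _ ?_)
  rw [hmemE, e.apply_symm_apply]
  exact hu

/-- Groups with element orders exactly `1, …, 5`. -/
theorem classify (hω : Set.range (orderOf : G → ℕ) = {k : ℕ | 1 ≤ k ∧ k ≤ 5}) :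
    Nonempty (G ≃* A6) ∨
      ∃ (N : Subgroup G) (_ : N.Normal), IsMulCommutative N ∧ (∀ n ∈ N, n ^ 2 = 1) ∧
        Nonempty (G ⧸ N ≃* ↥(alternatingGroup (Fin 5))) := by
  classical
  haveI h2p : Fact (Nat.Prime 2) := ⟨Nat.prime_two⟩
  haveI h3p : Fact (Nat.Prime 3) := ⟨Nat.prime_three⟩
  haveI h5p : Fact (Nat.Prime 5) := ⟨by norm_num⟩
  have h : Small G := fun g => (show orderOf g ∈ {k : ℕ | 1 ≤ k ∧ k ≤ 5} from hω ▸ Set.mem_range_self g).2
  have hex : ∀ r, 1 ≤ r → r ≤ 5 → ∃ g : G, orderOf g = r := fun r h1 h5 => by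
    have : r ∈ Set.range (orderOf : G → ℕ) := hω ▸ ⟨h1, h5⟩
    exact this
  have hd : ∀ r, 1 ≤ r → r ≤ 5 → r ∣ Nat.card G := fun r h1 h5 => by
    obtain ⟨g, hg⟩ := hex r h1 h5
    exact hg ▸ orderOf_dvd_natCard g
  have hpp : ∀ g : G, g ≠ 1 → IsPrimePow (orderOf g) := by
    intro g hg
    have h5 := h g
    have h1 : orderOf g ≠ 1 := fun e => hg (orderOf_eq_one_iff.mp e)
    have h0 := orderOf_pos g
    rcases (show orderOf g = 2 ∨ orderOf g = 3 ∨ orderOf g = 4 ∨ orderOf g = 5 by omega) with e | e | e | e <;>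
      rw [e]
    · exact Nat.prime_two.isPrimePow
    · exact Nat.prime_three.isPrimePow
    · exact (isPrimePow_nat_iff 4).mpr ⟨2, 2, Nat.prime_two, by norm_num, rfl⟩
    · exact (by norm_num : Nat.Prime 5).isPrimePow
  have hns : ¬ Group.IsSolvable G := by
    intro hs
    haveI := hs
    have h3 := Cfsg.Agent.S1475.result (G := G) fun g => (eq_or_ne g 1).symm.imp (hpp g) id
    have hsub : ({2, 3, 5} : Finset ℕ) ⊆ (Nat.card G).primeFactors := by
      intro r hr
      simp only [Finset.mem_insert, Finset.mem_singleton] at hr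
      rcases hr with rfl | rfl | rfl <;>
        exact Nat.mem_primeFactors.mpr ⟨Fact.out, hd _ (by norm_num) (by norm_num), Nat.card_pos.ne'⟩
    have h4 := Finset.card_le_card hsub
    rw [show ({2, 3, 5} : Finset ℕ).card = 3 from rfl] at h4
    omega
  by_cases h9 : 9 ∣ Nat.card G
  swap
  · -- the Sylow 3-subgroup has order three
    right
    obtain ⟨x, hx⟩ := hex 3 (by norm_num) (by norm_num)
    have hXc : Nat.card (zpowers x) = 3 := by rw [Nat.card_zpowers, hx]
    have hxx : x ^ 3 ^ 1 = 1 := by rw [pow_one, ← hx, pow_orderOf_eq_one]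
    obtain ⟨k, hk⟩ := IsPGroup.iff_card.mp
      (h.isPGroup_centralizer hxx (fun e => by rw [e, orderOf_one] at hx; omega))
    have hk1 : k ≤ 1 := by
      by_contra hc
      exact h9 ((show (9 : ℕ) ∣ 3 ^ k from (show (9 : ℕ) = 3 ^ 2 by norm_num) ▸ pow_dvd_pow 3 (by omega)).trans
        (hk ▸ card_subgroup_dvd_card _))
    have hCX : centralizer ((zpowers x : Subgroup G) : Set G) = zpowers x := by
      refine (eq_of_le_of_card_ge (le_centralizer_iff.mp (le_centralizer (zpowers x))) ?_).symm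
      calc Nat.card (centralizer ((zpowers x : Subgroup G) : Set G)) ≤ Nat.card (centralizer ({x} : Set G)) :=
            card_le_of_le (centralizer_le (Set.singleton_subset_iff.mpr (mem_zpowers x)))
        _ ≤ 3 := by rw [hk]; exact (Nat.pow_le_pow_right (by norm_num) hk1).trans (by norm_num)
        _ = _ := hXc.symm
    rcases Cfsg.Agent.S3331.result (zpowers x) hXc hCX with ⟨N, hN, hnil, -, hq⟩ | hr | he3
    · exfalso
      haveI := hN
      haveI := hnil
      have hqs : Group.IsSolvable (G ⧸ N) := by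
        rcases hq with hq | ⟨⟨e⟩⟩
        · exact CfsgLib.Char.isSolvable_of_card_eq_pow_mul_pow Nat.prime_three Nat.prime_two (a := 1) (b := 0)
            (by rw [hq]; norm_num)
        · refine CfsgLib.Char.isSolvable_of_card_eq_pow_mul_pow Nat.prime_three Nat.prime_two (a := 1) (b := 1) ?_
          rw [Nat.card_congr e.toEquiv, Nat.card_perm, Nat.card_fin]
          norm_num [Nat.factorial]
      exact hns (Group.isSolvable_of_ker_le_range N.subtype (QuotientGroup.mk' N) (by simp))
    · exact hr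
    · exfalso
      obtain ⟨e⟩ := he3
      haveI : Fact (Nat.Prime 7) := ⟨by norm_num⟩
      obtain ⟨q, hq⟩ := exists_prime_orderOf_dvd_card' (G := Matrix.ProjectiveSpecialLinearGroup (Fin 2) (ZMod 7)) 7 (by
        have h1 := CfsgLib.Classical.card_PSL_mul (F := ZMod 7) (ZMod.card 7) 2 (by norm_num)
        norm_num [Fin.prod_univ_two, -Nat.card_eq_fintype_card] at h1
        omega)
      have := h (e.symm q)
      rw [MulEquiv.orderOf_eq, hq] at this
      omega
  -- nine divides the order
  obtain ⟨R, hRn, hRs, hRmax⟩ := exists_radical (G := G)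
  haveI := hRn
  obtain ⟨⟨p, hp, hRp⟩, ⟨M, hMn, hMs, hMna, -⟩, -⟩ := Cfsg.Agent.S3992.result hns hpp R hRs hRmax
  haveI := hMn
  haveI := Fact.mk hp
  haveI := hMs
  have hQ : Small (G ⧸ R) := h.quotient R
  rcases simple_cases ↥M hMna (hQ.subgroup M) with ⟨⟨e⟩⟩ | ⟨⟨e⟩⟩
  · -- `A₅`
    exfalso
    obtain ⟨a, b, ha, hb, hab, ha1, hb1, hne⟩ := a5_four
    have h3not : ¬ 3 ∣ M.index := by
      intro h3
      obtain ⟨S⟩ := (inferInstance : Nonempty (Sylow 5 M))
      obtain ⟨y, hy, hyo⟩ := exists_prime_order_normalizing M S h3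
      refine hQ.no_normalizing (p := 5) (by norm_num) (S.2.map _) ?_ hyo hy
      rw [Nat.card_congr ((S : Subgroup M).equivMapOfInjective _ M.subtype_injective).toEquiv.symm,
        S.card_eq_multiplicity, Nat.card_congr e.toEquiv, card_a5,
        show (60 : ℕ).factorization 5 = 1 by
          rw [show (60 : ℕ) = 5 * 12 by norm_num, Nat.factorization_mul (by norm_num) (by norm_num),
            Finsupp.add_apply, Nat.Prime.factorization_self (by norm_num),
            Nat.factorization_eq_zero_of_not_dvd (by norm_num : ¬ 5 ∣ 12)]]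
      decide
    have hp3 : p = 3 ∧ R ≠ ⊥ := by
      obtain ⟨i, hi⟩ := IsPGroup.iff_card.mp hRp
      have hG : Nat.card G = M.index * 60 * p ^ i := by
        rw [← hi, ← card_a5, ← Nat.card_congr e.toEquiv, index_mul_card, ← card_eq_card_quotient_mul_card_subgroup]
      have h3 : 3 ∣ p ^ i := by
        rw [hG, show M.index * 60 * p ^ i = 3 * (M.index * 20 * p ^ i) by ring, show (9 : ℕ) = 3 * 3 from rfl] at h9
        have := Nat.dvd_of_mul_dvd_mul_left (by norm_num) h9
        rcases Nat.prime_three.dvd_mul.mp this with h' | h'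
        · rcases Nat.prime_three.dvd_mul.mp h' with h'' | h''
          · exact absurd h'' h3not
          · omega
        · exact h'
      refine ⟨((Nat.prime_dvd_prime_iff_eq Nat.prime_three hp).mp (Nat.prime_three.dvd_of_dvd_pow h3)).symm,
        fun eR => ?_⟩
      rw [eR, card_bot] at hi
      rw [← hi] at h3
      omega
    obtain ⟨rfl, hR1⟩ := hp3
    refine hR1 (h.radical_two (by norm_num) R hRp (a := (e.symm a : G ⧸ R)) (b := (e.symm b : G ⧸ R)) ?_ ?_ ?_ ?_ ?_ ?_)
    · rw [← coe_mul, ← map_mul, ha, map_one, coe_one]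
    · rw [← coe_mul, ← map_mul, hb, map_one, coe_one]
    · rw [← coe_mul, ← map_mul, hab, map_mul, coe_mul]
    · exact fun e1 => ha1 (e.symm.injective ((Subtype.ext e1 : e.symm a = 1).trans (map_one _).symm))
    · exact fun e1 => hb1 (e.symm.injective ((Subtype.ext e1 : e.symm b = 1).trans (map_one _).symm))
    · exact fun e1 => hne (e.symm.injective (Subtype.ext e1))
  · -- `A₆`
    left
    have hR1 : R = ⊥ := by
      by_cases hp3 : p = 3
      · subst hp3
        obtain ⟨a, b, ha, hb, hab, ha1, hb1, hne⟩ := a6_four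
        refine h.radical_two (by norm_num) R hRp (a := (e.symm a : G ⧸ R)) (b := (e.symm b : G ⧸ R)) ?_ ?_ ?_ ?_ ?_ ?_
        · rw [← coe_mul, ← map_mul, ha, map_one, coe_one]
        · rw [← coe_mul, ← map_mul, hb, map_one, coe_one]
        · rw [← coe_mul, ← map_mul, hab, map_mul, coe_mul]
        · exact fun e1 => ha1 (e.symm.injective ((Subtype.ext e1 : e.symm a = 1).trans (map_one _).symm))
        · exact fun e1 => hb1 (e.symm.injective ((Subtype.ext e1 : e.symm b = 1).trans (map_one _).symm))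
        · exact fun e1 => hne (e.symm.injective (Subtype.ext e1))
      · by_contra hR1
        obtain ⟨S⟩ := (inferInstance : Nonempty (Sylow 3 M))
        have hSc : Nat.card (S : Subgroup M) = 9 := by
          rw [S.card_eq_multiplicity, Nat.card_congr e.toEquiv, card_a6,
            show (360 : ℕ).factorization 3 = 2 by
              rw [show (360 : ℕ) = 3 ^ 2 * 40 by norm_num, Nat.factorization_mul (by norm_num) (by norm_num),
                Finsupp.add_apply, Nat.Prime.factorization_pow (by norm_num), Finsupp.single_eq_same,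
                Nat.factorization_eq_zero_of_not_dvd (by norm_num : ¬ 3 ∣ 40)]]
          norm_num
        obtain ⟨T, hT, hmap, hd'⟩ := exists_lift (p := p) hp3 R hRp ((S : Subgroup M).map M.subtype) (S.2.map _)
        have hle := h.r_group_le Nat.prime_three (by norm_num) (Ne.symm hp3) hRp hR1 hT
          (fun t _ => mem_normalizer_iff.mpr fun x => ⟨fun hx => hRn.conj_mem x hx t, fun hx => by
            simpa [mul_assoc] using hRn.conj_mem _ hx t⁻¹⟩)
        have h9le : 9 ≤ Nat.card T := by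
          rw [← hSc, Nat.card_congr ((S : Subgroup M).equivMapOfInjective _ M.subtype_injective).toEquiv, ← hmap]
          exact Nat.le_of_dvd Nat.card_pos (card_map_dvd _ _)
        omega
    subst hR1
    have hMtop := (h.quotient ⊥).eq_top_of_a6 M e
    exact ⟨(QuotientGroup.quotientBot (G := G)).symm.trans
      ((topEquiv.symm.trans (MulEquiv.subgroupCongr hMtop).symm).trans e)⟩

end CfsgLib.SixSpectrum
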