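import Mathlib
import Cfsg.Agent.Lib.SixSpectrum.Local

/-!
# The natural module of `SL(2,4)` from generators of orders three and two

A group acting on an elementary abelian 2-group `N` through `x, t` with `x`, `x t` of orders 3 and 5 fixed
point free and `t` an involution makes `N` a space over the field with four elements.
-/

set_option autoImplicit false

namespace CfsgLib.SixSpectrum

open Subgroup
open scoped IsMulCommutative

variable {F : Type} [Field F]

/-- A primitive cube root of unity in the field with four elements. -/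
theorem exists_omega [Fintype F] (hF : Fintype.card F = 4) :
    CharP F 2 ∧ ∃ w : F, w * w = w + 1 ∧ ∀ t : F, t = 0 ∨ t = 1 ∨ t = w ∨ t = w + 1 := by
  classical
  haveI : CharP F 2 := charP_of_card_eq_prime_pow (f := 2) (by simpa using hF)
  refine ⟨inferInstance, ?_⟩
  have hfield : ∀ t : F, t = 0 ∨ t = 1 ∨ t * t + t + 1 = 0 := by
    intro t
    have h4 : t ^ 4 = t := hF ▸ FiniteField.pow_card t
    have : t * (t - 1) * (t * t + t + 1) = 0 := by linear_combination h4
    rcases mul_eq_zero.1 this with h | h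
    · rcases mul_eq_zero.1 h with h | h
      · exact Or.inl h
      · exact Or.inr (Or.inl (sub_eq_zero.1 h))
    · exact Or.inr (Or.inr h)
  obtain ⟨w, hw⟩ : ∃ w : F, w * w + w + 1 = 0 := by
    by_contra hne
    push_neg at hne
    have : (Finset.univ : Finset F) ⊆ {0, 1} := fun t _ => by
      rcases hfield t with h | h | h
      · simp [h]
      · simp [h]
      · exact absurd h (hne t)
    have := (Finset.card_le_card this).trans Finset.card_le_two
    rw [Finset.card_univ, hF] at this
    omega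
  have two0 : (2 : F) = 0 := CharTwo.two_eq_zero
  refine ⟨w, by linear_combination hw - (w + 1) * two0, fun t => ?_⟩
  rcases hfield t with h | h | h
  · exact Or.inl h
  · exact Or.inr (Or.inl h)
  · have : (t - w) * (t + w + 1) = 0 := by linear_combination h - hw
    rcases mul_eq_zero.1 this with h' | h'
    · exact Or.inr (Or.inr (Or.inl (sub_eq_zero.1 h')))
    · exact Or.inr (Or.inr (Or.inr (by linear_combination h' - (w + 1) * two0)))

variable {E : Type*} [Ring E]

theorem ring_facts (h2 : ∀ a : E, a + a = 0) {X T : E} (hX : X * X = X + 1) (hT : T * T = 1) :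
    T * (X * T + T * (X * X)) = (X * T + T * (X * X)) * T ∧
    X * (X * T + T * (X * X)) = (X * T + T * (X * X)) * X ∧
    T * X = (X * T + T * (X * X)) + X * T + T := by
  have hX3 : X * X * X = 1 := by
    rw [hX, add_mul, one_mul, hX, add_comm X 1, add_assoc, h2 X, add_zero]
  refine ⟨?_, ?_, ?_⟩
  · calc T * (X * T + T * (X * X)) = T * X * T + X * X := by
          rw [mul_add, ← mul_assoc T T, hT, one_mul, mul_assoc]
      _ = X + (T * X * T + 1) := by rw [hX]; abel
      _ = X * T * T + T * (X * X) * T := by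
          rw [mul_assoc X T T, hT, mul_one, hX, mul_add, mul_one, add_mul, hT]
      _ = (X * T + T * (X * X)) * T := by rw [add_mul]
  · calc X * (X * T + T * (X * X)) = X * X * T + X * T * (X * X) := by
          rw [mul_add, ← mul_assoc X X, ← mul_assoc X T]
      _ = X * T + T + (X * T * X + X * T) := by rw [hX, add_mul, one_mul, mul_add, mul_one]
      _ = X * T * X + T + (X * T + X * T) := by abel
      _ = X * T * X + T := by rw [h2, add_zero]
      _ = X * T * X + T * (X * X * X) := by rw [hX3, mul_one]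
      _ = (X * T + T * (X * X)) * X := by rw [add_mul, mul_assoc T]
  · calc T * X = T * X + (X * T + X * T) + (T + T) := by rw [h2, h2, add_zero, add_zero]
      _ = X * T + (T * X + T) + X * T + T := by abel
      _ = _ := by rw [hX, mul_add, mul_one]

theorem theta_sq (h2 : ∀ a : E, a + a = 0) {X T : E} (hX : X * X = X + 1) (hT : T * T = 1)
    (hY : (1 : E) + X * T + (X * T) ^ 2 + (X * T) ^ 3 + (X * T) ^ 4 = 0) :
    (X * T + T * (X * X)) * (X * T + T * (X * X)) = X * T + T * (X * X) + 1 := by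
  have hX3 : X * X * X = 1 := by
    rw [hX, add_mul, one_mul, hX, add_comm X 1, add_assoc, h2 X, add_zero]
  have hY5 : (X * T) ^ 5 = 1 := by
    have e : (X * T) * (1 + X * T + (X * T) ^ 2 + (X * T) ^ 3 + (X * T) ^ 4) = 0 := by rw [hY, mul_zero]
    have e2 : (X * T) * (1 + X * T + (X * T) ^ 2 + (X * T) ^ 3 + (X * T) ^ 4) + 1 =
        (1 + X * T + (X * T) ^ 2 + (X * T) ^ 3 + (X * T) ^ 4) + (X * T) ^ 5 := by
      rw [mul_add, mul_add, mul_add, mul_add, mul_one, ← sq, ← pow_succ', ← pow_succ', ← pow_succ']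
      abel
    rw [e, hY, zero_add, zero_add] at e2
    exact e2.symm
  set Y := X * T with hYdef
  set Z := T * (X * X) with hZdef
  have hZY : Z * Y = 1 := by
    rw [hYdef, hZdef, mul_assoc, ← mul_assoc (X * X), hX3, one_mul, hT]
  have hYZ : Y * Z = 1 := by
    rw [hYdef, hZdef, mul_assoc, ← mul_assoc T T, hT, one_mul, ← mul_assoc, hX3]
  have hZ : Z = Y ^ 4 := by
    calc Z = Z * Y ^ 5 := by rw [hY5, mul_one]
      _ = (Z * Y) * Y ^ 4 := by rw [pow_succ' Y 4, ← mul_assoc]
      _ = Y ^ 4 := by rw [hZY, one_mul]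
  have hZZ : Z * Z = Y ^ 3 := by
    rw [hZ, ← pow_add, show 4 + 4 = 5 + 3 from rfl, pow_add, hY5, one_mul]
  calc (Y + Z) * (Y + Z) = Y * Y + Y * Z + (Z * Y + Z * Z) := by rw [add_mul, mul_add, mul_add]
    _ = Y ^ 2 + Y ^ 3 + (1 + 1) := by rw [hYZ, hZY, hZZ, sq]; abel
    _ = Y ^ 2 + Y ^ 3 + ((1 + Y + Y ^ 2 + Y ^ 3 + Y ^ 4) + (Y + Z + 1) + (Y + Z + 1)) := by
        rw [hY, zero_add, h2, h2]
    _ = Y + Z + 1 + ((1 + 1) + (Y + Y) + (Y ^ 4 + Z) + (Y ^ 2 + Y ^ 2) + (Y ^ 3 + Y ^ 3)) := by abel
    _ = Y + Z + 1 := by rw [hZ]; simp [h2]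

open Classical in
/-- The scalar action of the field with four elements. -/
noncomputable def scal (w : F) (θ : E) (a : F) : E :=
  if a = 0 then 0 else if a = 1 then 1 else if a = w then θ else θ + 1

variable [CharP F 2] {w : F} {θ : E}

theorem omega_ne (hw : w * w = w + 1) : w ≠ 0 ∧ w ≠ 1 ∧ w + 1 ≠ 0 ∧ w + 1 ≠ 1 ∧ w + 1 ≠ w := by
  have two0 : (2 : F) = 0 := CharTwo.two_eq_zero
  refine ⟨fun e => ?_, fun e => ?_, fun e => ?_, fun e => ?_, fun e => ?_⟩
  · rw [e] at hw; simp at hw
  · rw [e] at hw; exact one_ne_zero (by linear_combination -hw : (1 : F) = 0)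
  · have : w = 1 := by linear_combination e - two0
    rw [this] at hw; exact one_ne_zero (by linear_combination -hw : (1 : F) = 0)
  · have : w = 0 := by linear_combination e
    rw [this] at hw; simp at hw
  · exact one_ne_zero (by linear_combination e : (1 : F) = 0)

theorem scal_table (hw : w * w = w + 1) :
    scal w θ 0 = 0 ∧ scal w θ 1 = 1 ∧ scal w θ w = θ ∧ scal w θ (w + 1) = θ + 1 := by
  obtain ⟨a, b, c, d, e⟩ := omega_ne hw
  refine ⟨by simp [scal], by simp [scal], by simp [scal, a, b], ?_⟩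
  simp only [scal, if_neg c, if_neg d, if_neg e]

theorem scal_add (h2 : ∀ a : E, a + a = 0) (hw : w * w = w + 1)
    (hall : ∀ t : F, t = 0 ∨ t = 1 ∨ t = w ∨ t = w + 1) (a b : F) :
    scal w θ (a + b) = scal w θ a + scal w θ b := by
  obtain ⟨s0, s1, sw, sw1⟩ := scal_table (θ := θ) hw
  have two0 : (2 : F) = 0 := CharTwo.two_eq_zero
  have e1 : (1 : F) + 1 = 0 := by linear_combination two0
  have e2 : w + w = 0 := by linear_combination w * two0
  have e3 : w + 1 + (w + 1) = 0 := by linear_combination (w + 1) * two0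
  have e4 : 1 + w = w + 1 := add_comm _ _
  have e5 : 1 + (w + 1) = w := by linear_combination two0
  have e6 : w + 1 + 1 = w := by linear_combination two0
  have e7 : w + (w + 1) = 1 := by linear_combination w * two0
  have e8 : w + 1 + w = 1 := by linear_combination w * two0
  have f5 : (1 : E) + (θ + 1) = θ := by rw [add_comm θ 1, ← add_assoc, h2, zero_add]
  have f6 : θ + 1 + 1 = θ := by rw [add_assoc, h2, add_zero]
  have f7 : θ + (θ + 1) = 1 := by rw [← add_assoc, h2, zero_add]
  have f8 : θ + 1 + θ = 1 := by rw [add_comm θ 1, add_assoc, h2, add_zero]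
  have f4 : (1 : E) + θ = θ + 1 := add_comm _ _
  rcases hall a with rfl | rfl | rfl | rfl <;> rcases hall b with rfl | rfl | rfl | rfl <;>
    simp [s0, s1, sw, sw1, e1, e2, e3, e4, e5, e6, e7, e8, h2, f4, f5, f6, f7, f8]

theorem scal_mul (h2 : ∀ a : E, a + a = 0) (hw : w * w = w + 1) (hθ : θ * θ = θ + 1)
    (hall : ∀ t : F, t = 0 ∨ t = 1 ∨ t = w ∨ t = w + 1) (a b : F) :
    scal w θ (a * b) = scal w θ a * scal w θ b := by
  obtain ⟨s0, s1, sw, sw1⟩ := scal_table (θ := θ) hw
  have two0 : (2 : F) = 0 := CharTwo.two_eq_zero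
  have e1 : w * (w + 1) = 1 := by linear_combination hw + w * two0
  have e2 : (w + 1) * w = 1 := by linear_combination hw + w * two0
  have e3 : (w + 1) * (w + 1) = w := by linear_combination hw + (w + 1) * two0
  have f1 : θ * (θ + 1) = 1 := by rw [mul_add, mul_one, hθ, add_comm θ 1, add_assoc, h2, add_zero]
  have f2 : (θ + 1) * θ = 1 := by rw [add_mul, one_mul, hθ, add_comm θ 1, add_assoc, h2, add_zero]
  have f3 : (θ + 1) * (θ + 1) = θ := by
    rw [mul_add, mul_one, f2, add_comm θ 1, ← add_assoc, h2, zero_add]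
  rcases hall a with rfl | rfl | rfl | rfl <;> rcases hall b with rfl | rfl | rfl | rfl <;>
    simp [s0, s1, sw, sw1, hw, e1, e2, e3, hθ, f1, f2, f3]

theorem scal_comm (hw : w * w = w + 1) {Z : E} (hZ : Z * θ = θ * Z)
    (hall : ∀ t : F, t = 0 ∨ t = 1 ∨ t = w ∨ t = w + 1) (a : F) : Z * scal w θ a = scal w θ a * Z := by
  obtain ⟨s0, s1, sw, sw1⟩ := scal_table (θ := θ) hw
  rcases hall a with rfl | rfl | rfl | rfl <;> simp [s0, s1, sw, sw1, hZ, mul_add, add_mul]

end CfsgLib.SixSpectrum
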