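import Mathlib
import Cfsg.Agent.Lib.SixSpectrum.Module

/-!
# Coordinates for the module and the lifted generators
-/

set_option autoImplicit false

namespace CfsgLib.SixSpectrum

open Subgroup
open scoped IsMulCommutative

variable {G : Type*} [Group G] (N : Subgroup G) [N.Normal] [IsMulCommutative N]

/-- The action by conjugation as endomorphisms. -/
noncomputable def conjEnd : G →* AddMonoid.End (Additive N) where
  toFun g := MonoidHom.toAdditive ((MulAut.conjNormal g : MulAut N).toMonoidHom)
  map_one' := AddMonoidHom.ext fun a => by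
    apply Additive.toMul.injective
    apply Subtype.ext
    show (1 : G) * ((Additive.toMul a : N) : G) * (1 : G)⁻¹ = ((Additive.toMul a : N) : G)
    simp
  map_mul' g h := AddMonoidHom.ext fun a => by
    apply Additive.toMul.injective
    apply Subtype.ext
    show g * h * ((Additive.toMul a : N) : G) * (g * h)⁻¹ = g * (h * ((Additive.toMul a : N) : G) * h⁻¹) * g⁻¹
    group

/-- The element of `G` underlying a vector. -/
def val (a : Additive N) : G := ((Additive.toMul a : N) : G)

theorem val_conjEnd (g : G) (a : Additive N) : val N (conjEnd N g a) = g * val N a * g⁻¹ := rfl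

theorem val_add (a b : Additive N) : val N (a + b) = val N a * val N b := rfl

theorem val_inj : Function.Injective (val N) := fun _ _ h => Additive.toMul.injective (Subtype.ext h)

theorem val_zero : val N 0 = 1 := rfl

theorem val_mem (a : Additive N) : val N a ∈ N := (Additive.toMul a : N).2

theorem end_ext {f g : AddMonoid.End (Additive N)} (h : ∀ a, f a = g a) : f = g := AddMonoidHom.ext h

variable [Finite G]

/-- An element of prime order `3` or `5` gives a cyclotomic relation. -/
theorem sum_pow_eq_zero (hsmall : Small G) (hN : IsPGroup 2 N) {g : G} {r : ℕ} (hr : r = 3 ∨ r = 5)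
    (hg : orderOf g = r) : ∑ i ∈ Finset.range r, (conjEnd N g) ^ i = 0 := by
  refine end_ext N fun a => ?_
  set s : AddMonoid.End (Additive N) := ∑ i ∈ Finset.range r, (conjEnd N g) ^ i with hs
  have hfix : conjEnd N g * s = s := by
    have h1 : (conjEnd N g) ^ r = 1 := by rw [← map_pow, ← hg, pow_orderOf_eq_one, map_one]
    have e1 := Finset.sum_range_succ' (fun i => (conjEnd N g) ^ i) r
    have e2 := Finset.sum_range_succ (fun i => (conjEnd N g) ^ i) r
    rw [e2, h1, pow_zero] at e1
    rw [hs, Finset.mul_sum]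
    simp only [← pow_succ']
    exact add_right_cancel e1.symm
  have h2 : g * val N (s a) * g⁻¹ = val N (s a) := by
    rw [← val_conjEnd]
    show val N ((conjEnd N g * s) a) = _
    rw [hfix]
  have hrp : r.Prime := by rcases hr with rfl | rfl <;> norm_num
  haveI := Fact.mk Nat.prime_two
  have h3 := hsmall.free hN (not_ppow_of_orderOf Nat.prime_two hrp (by omega) hg) (val_mem N (s a))
    (mul_inv_eq_iff_eq_mul.mp h2)
  exact val_inj N (h3.trans (val_zero N).symm)

variable {F : Type} [Field F]

/-- The data of the natural module. -/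
structure Coords (x t : G) (F : Type) [Field F] where
  c : F × F → Additive N
  add : ∀ p q, c (p + q) = c p + c q
  inj : Function.Injective c
  surj : Function.Surjective c
  w : F
  act_x : ∀ p : F × F, conjEnd N x (c p) = c (p.2, p.1 + p.2)
  act_t : ∀ p : F × F, conjEnd N t (c p) = c (p.1 + p.2 * (1 + w), p.2)
  w_ne : 1 + w ≠ 0

/-- The coordinates exist when the module is minimal. -/
theorem exists_coords [Fintype F] (hF : Fintype.card F = 4) (hsmall : Small G) (hexp : ∀ n ∈ N, n ^ 2 = 1)
    (hN1 : N ≠ ⊥) (hmin : ∀ K : Subgroup G, K.Normal → K ≤ N → K = ⊥ ∨ K = N)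
    {x t : G} (hx : orderOf x = 3) (hy : orderOf (x * t) = 5) (ht : t * t ∈ N)
    (hgen : N ⊔ closure {x, t} = ⊤) : Nonempty (Coords N x t F) := by
  classical
  obtain ⟨hchar, w, hw, hall⟩ := exists_omega hF
  haveI := Fact.mk Nat.prime_two
  have hN2 : IsPGroup 2 N := fun ⟨n, hn⟩ => ⟨1, Subtype.ext (by simpa using hexp n hn)⟩
  have hA2 : ∀ a : Additive N, a + a = 0 := fun a => val_inj N (by
    rw [val_add, val_zero, ← pow_two]; exact hexp _ (val_mem N a))
  have h2 : ∀ f : AddMonoid.End (Additive N), f + f = 0 := fun f => end_ext N fun a => hA2 (f a)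
  set X := conjEnd N x with hXdef
  set T := conjEnd N t with hTdef
  have hX : X * X = X + 1 := by
    have h := sum_pow_eq_zero N hsmall hN2 (Or.inl rfl) hx
    rw [Finset.sum_range_succ, Finset.sum_range_succ, Finset.sum_range_succ, Finset.sum_range_zero] at h
    simp only [zero_add, pow_zero, pow_one] at h
    calc X * X = X * X + (1 + X + X ^ 2) := by rw [h, add_zero]
      _ = (X * X + X * X) + (X + 1) := by rw [sq]; abel
      _ = X + 1 := by rw [h2, zero_add]
  have hT : T * T = 1 := by
    rw [hTdef, ← map_mul]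
    refine end_ext N fun a => val_inj N ?_
    rw [val_conjEnd]
    show t * t * val N a * (t * t)⁻¹ = val N a
    have hc : (⟨t * t, ht⟩ : N) * Additive.toMul a = Additive.toMul a * ⟨t * t, ht⟩ := mul_comm _ _
    have hc' : t * t * val N a = val N a * (t * t) := congrArg Subtype.val hc
    rw [hc', mul_inv_cancel_right]
  have hY : (1 : AddMonoid.End (Additive N)) + X * T + (X * T) ^ 2 + (X * T) ^ 3 + (X * T) ^ 4 = 0 := by
    have h := sum_pow_eq_zero N hsmall hN2 (Or.inr rfl) hy
    rw [map_mul, ← hXdef, ← hTdef] at h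
    simpa [Finset.sum_range_succ] using h
  obtain ⟨hTθ, hXθ, hTX⟩ := ring_facts h2 hX hT
  have hθ := theta_sq h2 hX hT hY
  set θ := X * T + T * (X * X) with hθdef
  set s := scal w θ with hs
  obtain ⟨s0, s1, sw, -⟩ : s 0 = 0 ∧ s 1 = 1 ∧ s w = θ ∧ s (w + 1) = θ + 1 := scal_table (θ := θ) hw
  have hsadd : ∀ a b, s (a + b) = s a + s b := scal_add (θ := θ) h2 hw hall
  have hsmul : ∀ a b, s (a * b) = s a * s b := scal_mul h2 hw hθ hall
  have hsT : ∀ a, T * s a = s a * T := scal_comm hw hTθ hall
  have hsX : ∀ a, X * s a = s a * X := scal_comm hw hXθ hall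
  -- a vector fixed by `t`
  obtain ⟨v, hv, hv0⟩ : ∃ v : Additive N, T v = v ∧ v ≠ 0 := by
    obtain ⟨n, hn, hn1⟩ : ∃ n ∈ N, n ≠ 1 := by
      by_contra hcon
      push Not at hcon
      exact hN1 ((Subgroup.eq_bot_iff_forall _).mpr hcon)
    set m : Additive N := Additive.ofMul ⟨n, hn⟩ with hm
    by_cases hmt : T m = m
    · exact ⟨m, hmt, fun e => hn1 (congrArg (val N) e)⟩
    · refine ⟨m + T m, ?_, fun e => hmt ?_⟩
      · rw [map_add, show T (T m) = (T * T) m from rfl, hT, add_comm]
        rfl
      · calc T m = m + m + T m := by rw [hA2, zero_add]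
          _ = m := by rw [add_assoc, e, add_zero]
  set u := X v with hu
  have hTu : T u = s (1 + w) v + u := by
    have e : T (X v) = θ v + X (T v) + T v :=
      congrArg (fun f : AddMonoid.End (Additive N) => f v) hTX
    rw [hu, e, hv, hsadd, s1, sw]
    show θ v + X v + v = v + θ v + X v
    abel
  have hXu : X u = u + v := by
    show (X * X) v = _
    rw [hX]; rfl
  let c : F × F → Additive N := fun p => s p.1 v + s p.2 u
  have hcadd : ∀ p q, c (p + q) = c p + c q := fun p q => by
    show s (p.1 + q.1) v + s (p.2 + q.2) u = s p.1 v + s p.2 u + (s q.1 v + s q.2 u)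
    rw [hsadd, hsadd]
    show s p.1 v + s q.1 v + (s p.2 u + s q.2 u) = _
    abel
  have hcX : ∀ p : F × F, X (c p) = c (p.2, p.1 + p.2) := fun p => by
    show X (s p.1 v + s p.2 u) = s p.2 v + s (p.1 + p.2) u
    rw [map_add, show X (s p.1 v) = (X * s p.1) v from rfl, show X (s p.2 u) = (X * s p.2) u from rfl,
      hsX, hsX, hsadd]
    show s p.1 u + s p.2 (X u) = s p.2 v + (s p.1 u + s p.2 u)
    rw [hXu, map_add]
    abel
  have hcT : ∀ p : F × F, T (c p) = c (p.1 + p.2 * (1 + w), p.2) := fun p => by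
    show T (s p.1 v + s p.2 u) = s (p.1 + p.2 * (1 + w)) v + s p.2 u
    rw [map_add, show T (s p.1 v) = (T * s p.1) v from rfl, show T (s p.2 u) = (T * s p.2) u from rfl,
      hsT, hsT, hsadd, hsmul]
    show s p.1 (T v) + s p.2 (T u) = s p.1 v + s p.2 (s (1 + w) v) + s p.2 u
    rw [hv, hTu, map_add]
    abel
  have hw1 : (1 : F) + w ≠ 0 := by rw [add_comm]; exact (omega_ne hw).2.2.1
  have hsinj : ∀ a : F, a ≠ 0 → ∀ m : Additive N, s a m = 0 → m = 0 := fun a ha m hm => by
    calc m = (s (a⁻¹ * a)) m := by rw [inv_mul_cancel₀ ha, s1]; rfl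
      _ = s a⁻¹ (s a m) := by rw [hsmul]; rfl
      _ = 0 := by rw [hm, map_zero]
  have hczero : ∀ p : F × F, c p = 0 → p = 0 := by
    rintro ⟨a, b⟩ h
    have hb : b = 0 := by
      by_contra hb
      have h1 : T (c (a, b)) = c (a, b) + c (b * (1 + w), 0) := by
        rw [hcT, ← hcadd]
        simp
      rw [h, map_zero, zero_add] at h1
      have h3 : s (b * (1 + w)) v = 0 := by
        have : c (b * (1 + w), 0) = s (b * (1 + w)) v := by
          show s (b * (1 + w)) v + s 0 u = _
          rw [s0]; simp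
        rw [← this]; exact h1.symm
      exact hv0 (hsinj _ (mul_ne_zero hb hw1) v h3)
    subst hb
    have ha : a = 0 := by
      by_contra ha
      refine hv0 (hsinj a ha v ?_)
      have : c (a, 0) = s a v := by
        show s a v + s 0 u = _
        rw [s0]; simp
      rw [← this]; exact h
    rw [ha]; rfl
  have hcinj : Function.Injective c := by
    intro p q hpq
    have h1 : c (p + q) = 0 := by rw [hcadd, hpq, hA2]
    have h3 := hczero _ h1
    calc p = p + (q + q) := by
          rw [show q + q = 0 from Prod.ext (CharTwo.add_self_eq_zero _) (CharTwo.add_self_eq_zero _), add_zero]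
      _ = q := by rw [← add_assoc, h3, zero_add]
  -- the range is normal
  let K : Subgroup G :=
    { carrier := {g | ∃ p, val N (c p) = g}
      one_mem' := ⟨0, by
        have : c 0 = 0 := by
          show s 0 v + s 0 u = 0
          rw [s0]; simp
        rw [this, val_zero]⟩
      mul_mem' := by rintro _ _ ⟨p, rfl⟩ ⟨q, rfl⟩; exact ⟨p + q, by rw [hcadd, val_add]⟩
      inv_mem' := by
        rintro _ ⟨p, rfl⟩
        exact ⟨p, (inv_eq_of_mul_eq_one_right (by rw [← pow_two]; exact hexp _ (val_mem N _))).symm⟩ }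
  have hKN : K ≤ N := by rintro _ ⟨p, rfl⟩; exact val_mem N _
  have hKn : K.Normal := by
    have hfin : ∀ g : G, (∀ k ∈ K, g * k * g⁻¹ ∈ K) → g ∈ normalizer (K : Set G) := by
      intro g hg
      rw [mem_normalizer_iff]
      refine fun k => ⟨hg k, fun hk => ?_⟩
      have hinj : Function.Injective (fun k : K => (⟨g * k * g⁻¹, hg k k.2⟩ : K)) := fun a b e =>
        Subtype.ext (mul_left_cancel (mul_right_cancel (congrArg Subtype.val e)))
      obtain ⟨⟨k', hk'⟩, e⟩ := Finite.surjective_of_injective hinj ⟨_, hk⟩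
      have e' : k' = k := mul_left_cancel (mul_right_cancel (congrArg Subtype.val e))
      exact e' ▸ hk'
    rw [← normalizer_eq_top_iff, eq_top_iff, ← hgen, sup_le_iff, Subgroup.closure_le]
    refine ⟨fun n hn => hfin n ?_, fun g hg => hfin g ?_⟩
    · intro k hk
      have hc : (⟨n, hn⟩ : N) * ⟨k, hKN hk⟩ = ⟨k, hKN hk⟩ * ⟨n, hn⟩ := mul_comm _ _
      have hc' : n * k = k * n := congrArg Subtype.val hc
      rwa [hc', mul_inv_cancel_right]
    · rintro _ ⟨p, rfl⟩
      rcases hg with hg | hg
      · exact ⟨_, (congrArg (val N) (hcX p)).symm.trans (hg ▸ val_conjEnd N x (c p))⟩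
      · rw [Set.mem_singleton_iff] at hg
        exact ⟨_, (congrArg (val N) (hcT p)).symm.trans (hg ▸ val_conjEnd N t (c p))⟩
  have hKN' : K = N := by
    refine (hmin K hKn hKN).resolve_left fun e => ?_
    have hmem : val N (c (1, 0)) ∈ (⊥ : Subgroup G) := e ▸ (⟨_, rfl⟩ : val N (c (1, 0)) ∈ K)
    rw [mem_bot, ← val_zero N] at hmem
    exact one_ne_zero (congrArg Prod.fst (hczero _ (val_inj N hmem)))
  refine ⟨⟨c, hcadd, hcinj, fun a => ?_, w, hcX, hcT, hw1⟩⟩
  obtain ⟨p, hp⟩ : val N a ∈ K := by rw [hKN']; exact val_mem N a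
  exact ⟨p, val_inj N hp⟩

end CfsgLib.SixSpectrum
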