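import Mathlib
import Cfsg.Agent.Lib.SixSpectrum.Coord
import Cfsg.Agent.Lib.SixSpectrum.Main
import Cfsg.Agent.Lib.Recognition.IcosaPres
import Cfsg.Agent.Lib.Spectrum.ASL24
import Cfsg.Agent.Lib.PrimeDegreeTwo.AltFive

/-!
# The critical groups with element orders one to five
-/

set_option autoImplicit false

namespace CfsgLib.SixSpectrum

open Subgroup
open scoped IsMulCommutative

variable {F : Type} [Field F]

/-- The action of the affine group on the plane. -/
noncomputable def affineAction [Fintype F] :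
    CfsgLib.Spectrum.affineBlockGroup F →* Equiv.Perm (F × F) :=
  MonoidHom.toHomPerm
    { toFun := fun M p =>
        ((((M : Matrix.SpecialLinearGroup (Fin 3) F) : Matrix (Fin 3) (Fin 3) F) 0 0) * p.1 +
          (((M : Matrix.SpecialLinearGroup (Fin 3) F) : Matrix (Fin 3) (Fin 3) F) 0 1) * p.2 +
          (((M : Matrix.SpecialLinearGroup (Fin 3) F) : Matrix (Fin 3) (Fin 3) F) 0 2),
         (((M : Matrix.SpecialLinearGroup (Fin 3) F) : Matrix (Fin 3) (Fin 3) F) 1 0) * p.1 +
          (((M : Matrix.SpecialLinearGroup (Fin 3) F) : Matrix (Fin 3) (Fin 3) F) 1 1) * p.2 +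
          (((M : Matrix.SpecialLinearGroup (Fin 3) F) : Matrix (Fin 3) (Fin 3) F) 1 2))
      map_one' := funext fun p => by simp; rfl
      map_mul' := fun A B => funext fun p => by
        obtain ⟨b0, b1, b2⟩ := CfsgLib.Spectrum.mem_affineBlockGroup.1 B.2
        refine Eq.trans ?_ (Function.comp_apply).symm
        simp [Matrix.mul_apply, Fin.sum_univ_three, b0, b1, b2]
        constructor <;> ring }

theorem exists_affine [Fintype F] (r : Matrix (Fin 3) (Fin 3) F) (hd : r.det = 1) (h0 : r 2 0 = 0)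
    (h1 : r 2 1 = 0) (h2 : r 2 2 = 1) :
    ∃ M : CfsgLib.Spectrum.affineBlockGroup F, ∀ p : F × F, affineAction M p =
      (r 0 0 * p.1 + r 0 1 * p.2 + r 0 2, r 1 0 * p.1 + r 1 1 * p.2 + r 1 2) :=
  ⟨⟨⟨r, hd⟩, Subgroup.subset_closure ⟨h0, h1, h2⟩⟩, fun _ => rfl⟩

theorem card_affine [Fintype F] (hF : Fintype.card F = 4) :
    Nat.card (CfsgLib.Spectrum.affineBlockGroup F) ≤ 960 := by
  classical
  obtain ⟨e⟩ := CfsgLib.PrimeDegreeTwo.nonempty_sl_four hF
  have hc : Nat.card (Matrix.SpecialLinearGroup (Fin 2) F × (F × F)) = 960 := by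
    rw [Nat.card_prod, Nat.card_prod, Nat.card_congr e.toEquiv, card_a5, Nat.card_eq_fintype_card, hF]
  have key : ∀ M : CfsgLib.Spectrum.affineBlockGroup F,
      Matrix.det !![((M : Matrix.SpecialLinearGroup (Fin 3) F) : Matrix (Fin 3) (Fin 3) F) 0 0,
        ((M : Matrix.SpecialLinearGroup (Fin 3) F) : Matrix (Fin 3) (Fin 3) F) 0 1;
        ((M : Matrix.SpecialLinearGroup (Fin 3) F) : Matrix (Fin 3) (Fin 3) F) 1 0,
        ((M : Matrix.SpecialLinearGroup (Fin 3) F) : Matrix (Fin 3) (Fin 3) F) 1 1] = 1 := by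
    intro M
    obtain ⟨b0, b1, b2⟩ := CfsgLib.Spectrum.mem_affineBlockGroup.1 M.2
    have hd := (M : Matrix.SpecialLinearGroup (Fin 3) F).det_coe
    rw [Matrix.det_fin_three, b0, b1, b2] at hd
    rw [Matrix.det_fin_two_of]
    linear_combination hd
  rw [← hc]
  refine Nat.card_le_card_of_injective
    (fun M => ((⟨_, key M⟩ : Matrix.SpecialLinearGroup (Fin 2) F),
      (((M : Matrix.SpecialLinearGroup (Fin 3) F) : Matrix (Fin 3) (Fin 3) F) 0 2,
       ((M : Matrix.SpecialLinearGroup (Fin 3) F) : Matrix (Fin 3) (Fin 3) F) 1 2))) ?_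
  intro A B h
  have h1 := congrArg Prod.fst h
  have h2 := congrArg (fun z => z.2.1) h
  have h3 := congrArg (fun z => z.2.2) h
  simp only at h2 h3
  have h1' := congrArg (fun S : Matrix.SpecialLinearGroup (Fin 2) F => (S : Matrix (Fin 2) (Fin 2) F)) h1
  simp only at h1'
  obtain ⟨a0, a1, a2⟩ := CfsgLib.Spectrum.mem_affineBlockGroup.1 A.2
  obtain ⟨b0, b1, b2⟩ := CfsgLib.Spectrum.mem_affineBlockGroup.1 B.2
  have q00 := congrFun (congrFun h1' 0) 0
  have q01 := congrFun (congrFun h1' 0) 1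
  have q10 := congrFun (congrFun h1' 1) 0
  have q11 := congrFun (congrFun h1' 1) 1
  simp only [Matrix.of_apply, Matrix.cons_val', Matrix.cons_val_zero, Matrix.cons_val_one,
    Matrix.cons_val_fin_one] at q00 q01 q10 q11
  refine Subtype.ext (Subtype.ext (Matrix.ext fun i j => ?_))
  fin_cases i <;> fin_cases j <;>
    first | assumption | exact a0.trans b0.symm | exact a1.trans b1.symm | exact a2.trans b2.symm

theorem a5_pair : ∃ a b : ↥(alternatingGroup (Fin 5)), a ^ 3 = 1 ∧ a ≠ 1 ∧ b * b = 1 ∧ b ≠ 1 ∧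
    (a * b) ^ 5 = 1 ∧ a * b ≠ 1 :=
  ⟨⟨Equiv.swap 0 1 * Equiv.swap 1 2, Equiv.Perm.mem_alternatingGroup.mpr (by decide +kernel)⟩,
    ⟨Equiv.swap 0 3 * Equiv.swap 1 4, Equiv.Perm.mem_alternatingGroup.mpr (by decide +kernel)⟩,
    by decide +kernel, by decide +kernel, by decide +kernel, by decide +kernel, by decide +kernel,
    by decide +kernel⟩

variable {G : Type*} [Group G] [Finite G]

theorem pair_generates (a b : ↥(alternatingGroup (Fin 5))) (ha : a ^ 3 = 1) (ha1 : a ≠ 1) (hb : b * b = 1)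
    (hb1 : b ≠ 1) (hab : (a * b) ^ 5 = 1) (hab1 : a * b ≠ 1) : closure {a, b} = ⊤ := by
  set H := closure ({a, b} : Set ↥(alternatingGroup (Fin 5))) with hH
  have haH : a ∈ H := subset_closure (Or.inl rfl)
  have hbH : b ∈ H := subset_closure (Or.inr rfl)
  have d3 : 3 ∣ Nat.card H := by
    have := H.orderOf_dvd_natCard haH
    rwa [orderOf_eq_prime (hp := ⟨Nat.prime_three⟩) ha ha1] at this
  have d2 : 2 ∣ Nat.card H := by
    have := H.orderOf_dvd_natCard hbH
    rwa [orderOf_eq_prime (hp := ⟨Nat.prime_two⟩) (by rw [pow_two]; exact hb) hb1] at this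
  have d5 : 5 ∣ Nat.card H := by
    have := H.orderOf_dvd_natCard (mul_mem haH hbH)
    rwa [orderOf_eq_prime (hp := ⟨by norm_num⟩) hab hab1] at this
  have h30 : 30 ∣ Nat.card H := by
    have h6 : 2 * 3 ∣ Nat.card H := Nat.Coprime.mul_dvd_of_dvd_of_dvd (by norm_num) d2 d3
    exact Nat.Coprime.mul_dvd_of_dvd_of_dvd (m := 2 * 3) (n := 5) (by norm_num) h6 d5
  have hidx := H.card_mul_index
  rw [card_a5] at hidx
  obtain ⟨k, hk⟩ := h30
  rw [hk] at hidx
  by_contra hne
  have h2 : H.index = 2 := by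
    have h1 : H.index ≠ 1 := fun e => hne (index_eq_one.mp e)
    have hki : k * H.index = 2 := by
      have : 30 * (k * H.index) = 30 * 2 := by rw [← mul_assoc]; exact hidx
      exact Nat.eq_of_mul_eq_mul_left (by norm_num) this
    exact ((Nat.dvd_prime Nat.prime_two).mp (hki ▸ dvd_mul_left H.index k)).resolve_left h1
  have hn := normal_of_index_eq_two h2
  rcases alternatingGroup.isSimpleGroup_five.eq_bot_or_eq_top_of_normal H hn with e | e
  · rw [e, index_bot, card_a5] at h2; omega
  · exact hne e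

/-- The affine model of a critical group. -/
theorem iso_affine [Fintype F] (hF : Fintype.card F = 4) (hsmall : Small G) (N : Subgroup G) [N.Normal]
    [IsMulCommutative N] (hexp : ∀ n ∈ N, n ^ 2 = 1) (hN1 : N ≠ ⊥)
    (hmin : ∀ K : Subgroup G, K.Normal → K ≤ N → K = ⊥ ∨ K = N)
    (e : G ⧸ N ≃* ↥(alternatingGroup (Fin 5))) :
    Nonempty (G ≃* CfsgLib.Spectrum.affineBlockGroup F) := by
  classical
  haveI h2p : Fact (Nat.Prime 2) := ⟨Nat.prime_two⟩
  obtain ⟨a, b, ha, ha1, hb, hb1, hab, hab1⟩ := a5_pair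
  set π : G →* ↥(alternatingGroup (Fin 5)) := e.toMonoidHom.comp (QuotientGroup.mk' N) with hπ
  have hπs : Function.Surjective π := e.surjective.comp (QuotientGroup.mk'_surjective N)
  have hker : ∀ g : G, π g = 1 ↔ g ∈ N := fun g => by
    show e (g : G ⧸ N) = 1 ↔ _
    rw [map_eq_one_iff e e.injective, QuotientGroup.eq_one_iff]
  have hN2 : IsPGroup 2 N := fun ⟨n, hn⟩ => ⟨1, Subtype.ext (by simpa using hexp n hn)⟩
  have hncomm : ∀ m ∈ N, ∀ n ∈ N, m * n = n * m := fun m hm n hn =>
    congrArg Subtype.val (mul_comm (⟨m, hm⟩ : N) ⟨n, hn⟩)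
  -- orders of lifts
  have hlift : ∀ g : G, ∀ r : ℕ, r.Prime → r ≠ 2 → (π g) ^ r = 1 → π g ≠ 1 → orderOf g = r := by
    intro g r hr hr2 hgr hg1
    haveI := Fact.mk hr
    refine orderOf_eq_prime ?_ fun e1 => hg1 (by rw [e1, map_one])
    have hm : g ^ r ∈ N := (hker _).mp (by rw [map_pow, hgr])
    by_contra hne
    have hd : r ∣ orderOf g := by
      have h1 : orderOf (π g) = r := orderOf_eq_prime hgr hg1
      exact h1 ▸ orderOf_map_dvd π g
    obtain ⟨m, hm'⟩ := hd
    have hp : orderOf (g ^ r) = m := by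
      rw [orderOf_pow_of_dvd hr.ne_zero ⟨m, hm'⟩, hm', Nat.mul_div_cancel_left _ hr.pos]
    have h2' : orderOf (g ^ r) = 2 := orderOf_eq_prime (hexp _ hm) hne
    have := hsmall g
    rw [hm', ← hp, h2'] at this
    have := hr.two_le
    have : r = 2 := by omega
    exact hr2 this
  obtain ⟨x, hxa⟩ := hπs a
  obtain ⟨t₀, htb⟩ := hπs b
  have hx : orderOf x = 3 := hlift x 3 Nat.prime_three (by norm_num) (by rw [hxa, ha]) (by rw [hxa]; exact ha1)
  have hgen : ∀ t : G, π t = b → N ⊔ closure {x, t} = ⊤ := by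
    intro t ht
    rw [eq_top_iff]
    intro g _
    have hm : π g ∈ closure ({a, b} : Set _) := by rw [pair_generates a b ha ha1 hb hb1 hab hab1]; trivial
    rw [show ({a, b} : Set _) = π '' {x, t} by rw [Set.image_pair, hxa, ht], ← MonoidHom.map_closure] at hm
    obtain ⟨k, hk, hkg⟩ := hm
    have hn : g * k⁻¹ ∈ N := (hker _).mp (by rw [map_mul, map_inv, hkg, mul_inv_cancel])
    have : g = g * k⁻¹ * k := by group
    rw [this]
    exact mul_mem_sup hn hk
  have hytord : ∀ t : G, π t = b → orderOf (x * t) = 5 := fun t ht =>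
    hlift _ 5 (by norm_num) (by norm_num) (by rw [map_mul, hxa, ht, hab]) (by rw [map_mul, hxa, ht]; exact hab1)
  have htsq : ∀ t : G, π t = b → t * t ∈ N := fun t ht => (hker _).mp (by rw [map_mul, ht, hb])
  obtain ⟨C⟩ := exists_coords (F := F) N hF hsmall hexp hN1 hmin hx (hytord t₀ htb) (htsq t₀ htb) (hgen t₀ htb)
  have hc0 : C.c 0 = 0 := by
    have h := C.add 0 0
    rw [add_zero] at h
    exact left_eq_add.mp h
  have hchar := (exists_omega hF).1
  -- an involution lifting `b`
  obtain ⟨t, htb', htt, hact⟩ : ∃ t : G, π t = b ∧ t * t = 1 ∧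
      ∀ p : F × F, conjEnd N t (C.c p) = C.c (p.1 + p.2 * (1 + C.w), p.2) := by
    set n₀ : Additive N := Additive.ofMul ⟨t₀ * t₀, htsq t₀ htb⟩ with hn₀
    obtain ⟨⟨α, β⟩, hαβ⟩ := C.surj n₀
    have hβ : β = 0 := by
      have h1 : conjEnd N t₀ n₀ = n₀ := val_inj N (by
        rw [val_conjEnd]
        show t₀ * (t₀ * t₀) * t₀⁻¹ = t₀ * t₀
        group)
      rw [← hαβ, C.act_t] at h1
      have h2 := congrArg Prod.fst (C.inj h1)
      simp only [add_eq_left, mul_eq_zero] at h2
      exact h2.resolve_right C.w_ne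
    subst hβ
    set m : Additive N := C.c (0, α / (1 + C.w)) with hm
    have hact' : ∀ q, conjEnd N (val N m * t₀) q = conjEnd N t₀ q := fun q => val_inj N (by
      rw [val_conjEnd, val_conjEnd]
      have e1 := hncomm _ (val_mem N m) _ (val_mem N (conjEnd N t₀ q))
      rw [val_conjEnd] at e1
      calc val N m * t₀ * val N q * (val N m * t₀)⁻¹ = val N m * (t₀ * val N q * t₀⁻¹) * (val N m)⁻¹ := by group
        _ = t₀ * val N q * t₀⁻¹ := by rw [e1, mul_inv_cancel_right])
    refine ⟨val N m * t₀, by rw [map_mul, (hker _).mpr (val_mem N m), one_mul, htb], ?_,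
      fun p => by rw [hact', C.act_t]⟩
    have e1 : m + conjEnd N t₀ m + n₀ = 0 := by
      rw [hm, C.act_t, ← hαβ, ← C.add, ← C.add, ← hc0]
      refine congrArg C.c (Prod.ext ?_ ?_)
      · show 0 + (0 + α / (1 + C.w) * (1 + C.w)) + α = 0
        rw [div_mul_cancel₀ α C.w_ne, zero_add, zero_add, CharTwo.add_self_eq_zero]
      · show α / (1 + C.w) + α / (1 + C.w) + 0 = 0
        rw [CharTwo.add_self_eq_zero, add_zero]
    have e2 := congrArg (val N) e1
    rw [val_add, val_add, val_conjEnd, val_zero] at e2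
    calc val N m * t₀ * (val N m * t₀) = val N m * (t₀ * val N m * t₀⁻¹) * (t₀ * t₀) := by group
      _ = 1 := e2
  -- the complement
  set H := closure ({x, t} : Set G) with hH
  have hxH : x ∈ H := subset_closure (Or.inl rfl)
  have htH : t ∈ H := subset_closure (Or.inr rfl)
  have hHc : Nat.card H ≤ 60 := by
    let X : H := ⟨x, hxH⟩
    let T : H := ⟨t, htH⟩
    have hx3 : x ^ 3 = 1 := by rw [← hx, pow_orderOf_eq_one]
    have hgenH : Subgroup.closure ({X⁻¹, X * T} : Set H) = ⊤ := by
      apply map_injective H.subtype_injective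
      rw [MonoidHom.map_closure, ← MonoidHom.range_eq_map, range_subtype, Set.image_pair]
      refine le_antisymm ((closure_le _).mpr ?_) ?_
      · rintro g (rfl | rfl)
        · exact H.inv_mem hxH
        · exact H.mul_mem hxH htH
      · conv_lhs => rw [hH]
        rw [closure_le]
        have hX1 : x⁻¹ ∈ closure ({H.subtype X⁻¹, H.subtype (X * T)} : Set G) := subset_closure (Or.inl rfl)
        have hX2 : x * t ∈ closure ({H.subtype X⁻¹, H.subtype (X * T)} : Set G) := subset_closure (Or.inr rfl)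
        rintro g (rfl | rfl)
        · simpa using inv_mem hX1
        · simpa using mul_mem hX1 hX2
    refine (CfsgLib.Recognition.card_le_sixty hgenH (Subtype.ext ?_) (Subtype.ext ?_) (Subtype.ext ?_)).2
    · show (x⁻¹) ^ 3 = 1
      rw [inv_pow, hx3, inv_one]
    · show (x * t) ^ 5 = 1
      rw [← hytord t htb', pow_orderOf_eq_one]
    · show (x⁻¹ * (x * t)) ^ 2 = 1
      rw [inv_mul_cancel_left, pow_two, htt]
  have hHsurj : Function.Surjective (π.comp H.subtype) := by
    rw [← MonoidHom.range_eq_top, MonoidHom.range_comp, range_subtype, hH, MonoidHom.map_closure,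
      Set.image_pair, hxa, htb', pair_generates a b ha ha1 hb hb1 hab hab1]
  have hHinj : Function.Injective (π.comp H.subtype) := by
    refine (hHsurj.bijective_of_nat_card_le ?_).1
    rwa [card_a5]
  have hHN : ∀ g ∈ H, g ∈ N → g = 1 := fun g hg hgN =>
    congrArg Subtype.val (hHinj (show π.comp H.subtype ⟨g, hg⟩ = π.comp H.subtype 1 by
      rw [map_one]; exact (hker g).mpr hgN))
  -- the permutation representation on the complement's cosets
  have hbij : Function.Bijective (fun p : F × F => ((val N (C.c p) : G) : G ⧸ H)) := by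
    constructor
    · intro p q hpq
      have hm := QuotientGroup.eq.mp hpq
      have h1 := hHN _ hm (mul_mem (inv_mem (val_mem N _)) (val_mem N _))
      exact C.inj (val_inj N (inv_mul_eq_one.mp h1))
    · intro q
      obtain ⟨g, rfl⟩ := QuotientGroup.mk_surjective q
      obtain ⟨⟨k, hk⟩, hkg⟩ := hHsurj (π g)
      have hkg' : π k = π g := hkg
      have hn : g * k⁻¹ ∈ N := (hker _).mp (by rw [map_mul, map_inv, hkg', mul_inv_cancel])
      obtain ⟨p, hp⟩ := C.surj (Additive.ofMul ⟨g * k⁻¹, hn⟩)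
      refine ⟨p, ?_⟩
      show ((val N (C.c p) : G) : G ⧸ H) = (g : G ⧸ H)
      rw [hp, QuotientGroup.eq]
      show (g * k⁻¹)⁻¹ * g ∈ H
      simpa using hk
  set ε : F × F ≃ G ⧸ H := Equiv.ofBijective _ hbij with hε
  set ρ : G →* Equiv.Perm (F × F) := (ε.symm.permCongrHom.toMonoidHom).comp (MulAction.toPermHom G (G ⧸ H)) with hρ
  have hρval : ∀ (g : G) (p q : F × F), (g • ((val N (C.c p) : G) : G ⧸ H)) = ((val N (C.c q) : G) : G ⧸ H) →
      ρ g p = q := by
    intro g p q h
    show ε.symm (g • ε p) = q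
    rw [Equiv.symm_apply_eq]
    exact h
  have hρinj : Function.Injective ρ := by
    rw [← MonoidHom.ker_eq_bot_iff, eq_bot_iff]
    intro g hg
    have hg' : g ∈ H.normalCore := by
      rw [normalCore_eq_ker, MonoidHom.mem_ker]
      have h1 : ε.symm.permCongrHom (MulAction.toPermHom G (G ⧸ H) g) = 1 := MonoidHom.mem_ker.mp hg
      exact ε.symm.permCongrHom.injective (h1.trans (map_one _).symm)
    have hcore : ∀ k ∈ H.normalCore, ∀ n ∈ N, k * n = n * k := fun k hk n hn => by
      have hd : Disjoint H.normalCore N := disjoint_iff.mpr ((Subgroup.eq_bot_iff_forall _).mpr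
        fun u hu => hHN u (H.normalCore_le hu.1) hu.2)
      exact commute_of_normal_of_disjoint H.normalCore N inferInstance inferInstance hd k n hk hn
    obtain ⟨n, hn, hn1⟩ : ∃ n ∈ N, n ≠ 1 := by
      by_contra hcon
      push Not at hcon
      exact hN1 ((Subgroup.eq_bot_iff_forall _).mpr hcon)
    rw [mem_bot]
    by_contra hg1
    set Hc := (H.normalCore).map π with hHc
    have : Hc.Normal := (normalCore_normal H).map π hπs
    rcases alternatingGroup.isSimpleGroup_five.eq_bot_or_eq_top_of_normal Hc this with e1 | e1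
    · have : π g ∈ Hc := mem_map_of_mem π hg'
      rw [e1, mem_bot] at this
      exact hg1 (hHN g (H.normalCore_le hg') ((hker g).mp this))
    · have : a ∈ Hc := e1 ▸ mem_top a
      obtain ⟨k, hk, hka⟩ := this
      have hk3 : orderOf k = 3 := hlift k 3 Nat.prime_three (by norm_num) (by rw [hka, ha]) (by rw [hka]; exact ha1)
      haveI := Fact.mk Nat.prime_three
      exact hn1 (hsmall.free hN2 (not_ppow_of_orderOf Nat.prime_two Nat.prime_three (by norm_num) hk3) hn
        (hcore k hk n hn))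
  -- comparison with the affine group
  have hrange : ρ.range ≤ (affineAction (F := F)).range := by
    rw [MonoidHom.range_eq_map, ← hgen t htb', Subgroup.map_sup, sup_le_iff, MonoidHom.map_closure, closure_le,
      Set.image_pair]
    refine ⟨?_, ?_⟩
    · rintro _ ⟨n, hn, rfl⟩
      obtain ⟨⟨α, β⟩, hαβ⟩ := C.surj (Additive.ofMul ⟨n, hn⟩)
      obtain ⟨M, hM⟩ := exists_affine (F := F) !![1, 0, α; 0, 1, β; 0, 0, 1] (by simp [Matrix.det_fin_three])
        rfl rfl rfl
      refine ⟨M, Equiv.ext fun p => ?_⟩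
      rw [hM]
      refine (hρval _ _ _ ?_).symm
      show ((n * val N (C.c p) : G) : G ⧸ H) = _
      refine congrArg (QuotientGroup.mk (s := H)) ?_
      have hn' : n = val N (C.c (α, β)) := by rw [hαβ]; rfl
      rw [hn', ← val_add, ← C.add]
      refine congrArg (fun q => val N (C.c q)) (Prod.ext ?_ ?_)
      · simp [Matrix.cons_val_two]; ring
      · simp [Matrix.cons_val_two]; ring
    · have hH' : ∀ g ∈ H, ∀ p q, conjEnd N g (C.c p) = C.c q → ρ g p = q := fun g hg p q h => by
        refine hρval _ _ _ ?_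
        show ((g * val N (C.c p) : G) : G ⧸ H) = _
        rw [← h, val_conjEnd, QuotientGroup.eq]
        simpa [mul_assoc] using inv_mem hg
      rintro _ (rfl | rfl)
      · obtain ⟨M, hM⟩ := exists_affine (F := F) !![0, 1, 0; 1, 1, 0; 0, 0, 1]
          (by simp [Matrix.det_fin_three, CharTwo.neg_eq]) rfl rfl rfl
        refine ⟨M, Equiv.ext fun p => ?_⟩
        rw [hM, hH' x hxH p _ (C.act_x p)]
        simp [Matrix.cons_val_two]
      · obtain ⟨M, hM⟩ := exists_affine (F := F) !![1, 1 + C.w, 0; 0, 1, 0; 0, 0, 1]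
          (by simp [Matrix.det_fin_three]) rfl rfl rfl
        refine ⟨M, Equiv.ext fun p => ?_⟩
        rw [hM, hH' t htH p _ (hact p)]
        simp [Matrix.cons_val_two, mul_comm]
  have hcN : Nat.card N = 16 := by
    rw [← Nat.card_congr ((Equiv.ofBijective C.c ⟨C.inj, C.surj⟩).trans Additive.toMul), Nat.card_prod,
      Nat.card_eq_fintype_card, hF]
  have hcG : Nat.card G = 960 := by
    rw [card_eq_card_quotient_mul_card_subgroup N, Nat.card_congr e.toEquiv, card_a5, hcN]
  have h1 : Nat.card ρ.range = 960 := by rw [← hcG]; exact Nat.card_congr (MonoidHom.ofInjective hρinj).toEquiv.symm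
  have h2 : Nat.card (affineAction (F := F)).range ≤ Nat.card (CfsgLib.Spectrum.affineBlockGroup F) :=
    Nat.card_le_card_of_surjective _ (affineAction (F := F)).rangeRestrict_surjective
  have h3 := card_affine hF
  have heq : ρ.range = (affineAction (F := F)).range := eq_of_le_of_card_ge hrange (by omega)
  have hAinj : Function.Injective (affineAction (F := F)) := by
    have hsurj := (affineAction (F := F)).rangeRestrict_surjective
    have hb' := hsurj.bijective_of_nat_card_le (by rw [← heq]; omega)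
    intro u v huv
    exact hb'.1 (Subtype.ext huv)
  exact ⟨(MonoidHom.ofInjective hρinj).trans ((MulEquiv.subgroupCongr heq).trans
    (MonoidHom.ofInjective hAinj).symm)⟩

/-- The critical groups. -/
theorem critical (hω : Set.range (orderOf : G → ℕ) = ({1, 2, 3, 4, 5} : Set ℕ))
    (hcrit : ∀ (H : Subgroup G) (N : Subgroup ↥H) [N.Normal], (H ≠ ⊤ ∨ N ≠ ⊥) →
      Set.range (orderOf : (↥H ⧸ N) → ℕ) ≠ ({1, 2, 3, 4, 5} : Set ℕ)) :
    Nonempty (G ≃* ↥(alternatingGroup (Fin 6))) ∨
      ∃ (F : Type) (_ : Field F) (_ : Fintype F), Fintype.card F = 4 ∧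
        Nonempty (G ≃* ↥(Subgroup.closure {M : Matrix.SpecialLinearGroup (Fin 3) F |
          (M : Matrix (Fin 3) (Fin 3) F) 2 0 = 0 ∧ (M : Matrix (Fin 3) (Fin 3) F) 2 1 = 0 ∧
          (M : Matrix (Fin 3) (Fin 3) F) 2 2 = 1})) := by
  classical
  have hset : ({1, 2, 3, 4, 5} : Set ℕ) = {k : ℕ | 1 ≤ k ∧ k ≤ 5} := by
    ext k
    simp only [Set.mem_insert_iff, Set.mem_singleton_iff, Set.mem_ofPred_eq]
    omega
  have hω' : Set.range (orderOf : G → ℕ) = {k : ℕ | 1 ≤ k ∧ k ≤ 5} := hω.trans hset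
  have hsmall : Small G := fun g =>
    (show orderOf g ∈ {k : ℕ | 1 ≤ k ∧ k ≤ 5} from hω' ▸ Set.mem_range_self g).2
  rcases classify hω' with hA | ⟨N, hN, hcomm, hexp, ⟨e⟩⟩
  · exact Or.inl hA
  right
  haveI h2p : Fact (Nat.Prime 2) := ⟨Nat.prime_two⟩
  have hN2 : IsPGroup 2 N := fun ⟨n, hn⟩ => ⟨1, Subtype.ext (by simpa using hexp n hn)⟩
  have hfour : ∃ g : G, orderOf g = 4 := by
    have : (4 : ℕ) ∈ Set.range (orderOf : G → ℕ) := by rw [hω']; exact ⟨by norm_num, by norm_num⟩
    exact this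
  have hN1 : N ≠ ⊥ := by
    intro hbot
    obtain ⟨g, hg⟩ := hfour
    have hinj : Function.Injective (QuotientGroup.mk' N) := by
      rw [← MonoidHom.ker_eq_bot_iff, QuotientGroup.ker_mk', hbot]
    have h4 : orderOf (e ((g : G ⧸ N))) = 4 := by
      rw [MulEquiv.orderOf_eq]
      exact (orderOf_injective (QuotientGroup.mk' N) hinj g).trans hg
    have key : ∀ q : ↥(alternatingGroup (Fin 5)), q ^ 4 = 1 → q ^ 2 = 1 := by decide +kernel
    have := orderOf_dvd_of_pow_eq_one (key _ (h4 ▸ pow_orderOf_eq_one _))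
    rw [h4] at this
    omega
  have hmin : ∀ K : Subgroup G, K.Normal → K ≤ N → K = ⊥ ∨ K = N := by
    intro K hK hKN
    by_contra hcon
    push Not at hcon
    obtain ⟨hK1, hKne⟩ := hcon
    haveI := hK
    haveI : (K.subgroupOf (⊤ : Subgroup G)).Normal := hK.subgroupOf _
    refine hcrit ⊤ (K.subgroupOf ⊤) (Or.inr fun eb =>
      hK1 ((subgroupOf_eq_bot.mp eb).eq_bot_of_le le_top)) ?_
    -- the orders in the quotient
    let q : ↥(⊤ : Subgroup G) →* (↥(⊤ : Subgroup G) ⧸ K.subgroupOf ⊤) := QuotientGroup.mk' _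
    have hq0 : ∀ g : G, q ⟨g, mem_top g⟩ = 1 ↔ g ∈ K := fun g => by
      show ((⟨g, mem_top g⟩ : (⊤ : Subgroup G)) : ↥(⊤ : Subgroup G) ⧸ K.subgroupOf ⊤) = 1 ↔ _
      rw [QuotientGroup.eq_one_iff, mem_subgroupOf]
    set f : G →* (↥(⊤ : Subgroup G) ⧸ K.subgroupOf ⊤) := q.comp topEquiv.symm.toMonoidHom with hf
    have hfs : Function.Surjective f := (QuotientGroup.mk'_surjective _).comp topEquiv.symm.surjective
    have hfK : ∀ g : G, f g = 1 ↔ g ∈ K := hq0
    have hfd : ∀ g, orderOf (f g) ∣ orderOf g := fun g => orderOf_map_dvd f g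
    have hfN : ∀ g : G, orderOf (g : G ⧸ N) ∣ orderOf (f g) := fun g => by
      rw [orderOf_dvd_iff_pow_eq_one, ← QuotientGroup.mk_pow, QuotientGroup.eq_one_iff]
      exact hKN ((hfK _).mp (by rw [map_pow, pow_orderOf_eq_one]))
    rw [hset]
    ext k
    simp only [Set.mem_range, Set.mem_ofPred_eq]
    refine ⟨?_, fun hk => ?_⟩
    · rintro ⟨v, rfl⟩
      obtain ⟨g, rfl⟩ := hfs v
      exact ⟨orderOf_pos _, (Nat.le_of_dvd (orderOf_pos g) (hfd g)).trans (hsmall g)⟩
    have hall : ∀ r : ℕ, r.Prime → r ∣ 60 →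
        ∃ v : ↥(⊤ : Subgroup G) ⧸ K.subgroupOf ⊤, orderOf v = r := by
      intro r hr hr60
      haveI := Fact.mk hr
      refine exists_prime_orderOf_dvd_card' (G := ↥(⊤ : Subgroup G) ⧸ K.subgroupOf ⊤) r (hr60.trans ?_)
      have hkle : f.ker ≤ N := fun g hg => hKN ((hfK g).mp (MonoidHom.mem_ker.mp hg))
      have h1 : Nat.card (↥(⊤ : Subgroup G) ⧸ K.subgroupOf ⊤) = f.ker.index := by
        rw [Subgroup.index_ker, MonoidHom.range_eq_top.mpr hfs, card_top]
      rw [h1, ← card_a5, ← Nat.card_congr e.toEquiv, ← index_eq_card]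
      exact index_dvd_of_le hkle
    obtain ⟨hk1, hk5⟩ := hk
    interval_cases k
    · exact ⟨1, orderOf_one⟩
    · exact hall 2 Nat.prime_two (by norm_num)
    · exact hall 3 Nat.prime_three (by norm_num)
    · -- an element of order four, otherwise the quotient is centralised
      by_contra h4
      have hsq : ∀ g : G, g * g ∈ N → g * g ∈ K := by
        intro g hg
        have hd : orderOf (f g) ∣ 4 := by
          refine (hfd g).trans (orderOf_dvd_of_pow_eq_one ?_)
          rw [show (4 : ℕ) = 2 * 2 from rfl, pow_mul, pow_two g]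
          exact hexp _ hg
        have h2 : f g ^ 2 = 1 := by
          obtain ⟨i, hi, hi'⟩ := (Nat.dvd_prime_pow Nat.prime_two).mp (show orderOf (f g) ∣ 2 ^ 2 from hd)
          rw [← orderOf_dvd_iff_pow_eq_one, hi']
          interval_cases i
          · norm_num
          · norm_num
          · exact absurd ⟨f g, hi'⟩ h4
        exact (hfK _).mp (by rw [map_mul, ← pow_two]; exact h2)
      haveI : (N.map (QuotientGroup.mk' K)).Normal := hN.map _ (QuotientGroup.mk'_surjective K)
      set C := (centralizer ((N.map (QuotientGroup.mk' K) : Subgroup (G ⧸ K)) : Set (G ⧸ K))).comap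
        (QuotientGroup.mk' K) with hC
      haveI hCn : C.Normal := Normal.comap inferInstance _
      have hCmem : ∀ g : G, g * g ∈ N → g ∈ C := by
        intro g hg
        rw [hC, mem_comap, mem_centralizer_iff]
        rintro _ ⟨n, hn, rfl⟩
        have hgn : g * n * (g * n) ∈ K := by
          refine hsq _ ?_
          have : g * n * (g * n) = g * n * g⁻¹ * (g * g) * n := by group
          rw [this]
          exact N.mul_mem (N.mul_mem (hN.conj_mem n hn g) hg) hn
        have e1 : ∀ u : G, u ∈ K → (u : G ⧸ K) = 1 := fun u hu => (QuotientGroup.eq_one_iff u).mpr hu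
        have eg : (g : G ⧸ K) * (g : G ⧸ K) = 1 := by rw [← QuotientGroup.mk_mul]; exact e1 _ (hsq g hg)
        have en : (n : G ⧸ K) * (n : G ⧸ K) = 1 := by
          rw [← QuotientGroup.mk_mul]; exact e1 _ (hsq n (N.mul_mem hn hn))
        have egn : ((g : G ⧸ K) * n) * ((g : G ⧸ K) * n) = 1 := by
          rw [← QuotientGroup.mk_mul, ← QuotientGroup.mk_mul]; exact e1 _ hgn
        show (n : G ⧸ K) * g = g * n
        calc (n : G ⧸ K) * g = ((g : G ⧸ K) * g) * ((n : G ⧸ K) * g) * ((n : G ⧸ K) * n) := by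
              rw [eg, en, one_mul, mul_one]
          _ = g * ((g : G ⧸ K) * n * ((g : G ⧸ K) * n)) * n := by group
          _ = g * n := by rw [egn, mul_one]
      have hNC : N ≤ C := fun n hn => hCmem n (N.mul_mem hn hn)
      haveI : (C.map (QuotientGroup.mk' N)).Normal := hCn.map _ (QuotientGroup.mk'_surjective N)
      obtain ⟨a, b, ha, ha1, hb, hb1, -, -⟩ := a5_pair
      obtain ⟨g, hg⟩ := QuotientGroup.mk_surjective (e.symm b)
      obtain ⟨x, hx⟩ := QuotientGroup.mk_surjective (e.symm a)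
      have hgg : g * g ∈ N := (QuotientGroup.eq_one_iff _).mp (by
        rw [QuotientGroup.mk_mul, hg, ← map_mul, hb, map_one])
      haveI : IsSimpleGroup ↥(alternatingGroup (Fin 5)) := alternatingGroup.isSimpleGroup_five
      haveI : Nontrivial (G ⧸ N) := e.toEquiv.nontrivial
      haveI : IsSimpleGroup (G ⧸ N) := IsSimpleGroup.isSimpleGroup_of_surjective e.symm.toMonoidHom e.symm.surjective
      have htop : C.map (QuotientGroup.mk' N) = ⊤ := by
        refine (IsSimpleGroup.eq_bot_or_eq_top_of_normal _ ‹_›).resolve_left fun eb => ?_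
        have : (g : G ⧸ N) ∈ (⊥ : Subgroup (G ⧸ N)) := eb ▸ mem_map_of_mem _ (hCmem g hgg)
        rw [mem_bot, hg, map_eq_one_iff e.symm e.symm.injective] at this
        exact hb1 this
      have hxC : x ∈ C := by
        obtain ⟨u, hu, hux⟩ : (x : G ⧸ N) ∈ C.map (QuotientGroup.mk' N) := htop ▸ mem_top _
        have : u⁻¹ * x ∈ N := QuotientGroup.eq.mp hux
        simpa using C.mul_mem hu (hNC this)
      -- `x` acts without fixed points on `N`
      refine hKne (le_antisymm hKN fun n hn => ?_)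
      have hx3 : orderOf (x : G ⧸ N) = 3 := by
        rw [hx, MulEquiv.orderOf_eq]
        exact orderOf_eq_prime (hp := ⟨Nat.prime_three⟩) ha ha1
      have hox : orderOf x = 3 := by
        have h5 := hsmall x
        have hd3 : 3 ∣ orderOf x := hx3 ▸ orderOf_map_dvd (QuotientGroup.mk' N) x
        have := orderOf_pos x
        omega
      haveI : Fact (Nat.Prime 3) := ⟨Nat.prime_three⟩
      have hfix : ∀ m ∈ N, x * m = m * x → m = 1 := fun m hm hc =>
        hsmall.free hN2 (not_ppow_of_orderOf Nat.prime_two Nat.prime_three (by norm_num) hox) hm hc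
      have hx3' : x ^ 3 = 1 := hox ▸ pow_orderOf_eq_one x
      set m := n * (x * n * x⁻¹) * (x ^ 2 * n * (x ^ 2)⁻¹) with hm
      have hm1N : x * n * x⁻¹ ∈ N := hN.conj_mem n hn x
      have hm2N : x ^ 2 * n * (x ^ 2)⁻¹ ∈ N := hN.conj_mem n hn _
      have hmN : m ∈ N := N.mul_mem (N.mul_mem hn hm1N) hm2N
      have hcm : ∀ u ∈ N, ∀ v ∈ N, u * v = v * u := fun u hu v hv =>
        congrArg Subtype.val (hcomm.is_comm.comm ⟨u, hu⟩ ⟨v, hv⟩)
      have hm1 : m = 1 := by
        refine hfix m hmN (mul_inv_eq_iff_eq_mul.mp ?_)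
        have e3 : x ^ 3 * n * (x ^ 3)⁻¹ = n := by rw [hx3']; simp
        calc x * m * x⁻¹ = (x * n * x⁻¹) * (x ^ 2 * n * (x ^ 2)⁻¹) * (x ^ 3 * n * (x ^ 3)⁻¹) := by
              rw [hm]; simp [pow_succ, mul_assoc]
          _ = m := by rw [e3, hcm _ (N.mul_mem hm1N hm2N) n hn, ← mul_assoc]
      have hxn : ((x : G ⧸ K) * n) = (n : G ⧸ K) * x := by
        have h1 := mem_centralizer_iff.mp (mem_comap.mp hxC) _ (mem_map_of_mem (QuotientGroup.mk' K) hn)
        exact h1.symm
      have e0 : (m : G ⧸ K) = (n : G ⧸ K) * n * n := by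
        have c1 : Commute (x : G ⧸ K) (n : G ⧸ K) := hxn
        rw [hm]
        simp only [QuotientGroup.mk_mul, QuotientGroup.mk_inv, QuotientGroup.mk_pow]
        rw [c1.eq, mul_inv_cancel_right, (c1.pow_left 2).eq, mul_inv_cancel_right]
      have en : (n : G ⧸ K) * (n : G ⧸ K) = 1 := by
        rw [← QuotientGroup.mk_mul, QuotientGroup.eq_one_iff, ← pow_two, hexp n hn]; exact one_mem K
      rw [hm1, en, one_mul, QuotientGroup.mk_one] at e0
      exact (QuotientGroup.eq_one_iff n).mp e0.symm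
    · exact hall 5 (by norm_num) (by norm_num)
  haveI := hN
  haveI : Fact (Nat.Prime 2) := h2p
  haveI := hcomm
  let F := GaloisField 2 2
  haveI : Fintype F := Fintype.ofFinite F
  have hF : Fintype.card F = 4 := by
    rw [← Nat.card_eq_fintype_card, GaloisField.card 2 2 (by norm_num)]
    norm_num
  exact ⟨F, inferInstance, inferInstance, hF, iso_affine hF hsmall N hexp hN1 hmin e⟩

end CfsgLib.SixSpectrum
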